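import Cfsg.Agent.Lib.OddCond.OutSolvable
import Cfsg.Agent.Lib.LinGroup.Order

/-!
A group of order 1344 with a self-centralising normal elementary abelian subgroup of order 8 has
quotient `PSL(3,2)`.
-/

set_option autoImplicit false

namespace Cfsg.Agent.Lib.S3344

theorem card_sl32_q : Nat.card (Matrix.SpecialLinearGroup (Fin 3) (ZMod 2)) = 168 := by
  haveI : Fact (Nat.Prime 2) := ⟨Nat.prime_two⟩
  have h := LinGroup.card_SL_mul (F := ZMod 2) 3 (by norm_num)
  simp only [ZMod.card] at h
  rw [Fin.prod_univ_three] at h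
  norm_num at h
  rw [Nat.card_eq_fintype_card]
  exact h

theorem psl32_equiv_sl32 : Nonempty (Matrix.ProjectiveSpecialLinearGroup (Fin 3) (ZMod 2) ≃*
    Matrix.SpecialLinearGroup (Fin 3) (ZMod 2)) := by
  haveI : Fact (Nat.Prime 2) := ⟨Nat.prime_two⟩
  have hz : Subgroup.center (Matrix.SpecialLinearGroup (Fin 3) (ZMod 2)) = ⊥ := by
    apply Subgroup.eq_bot_of_card_eq
    rw [LinGroup.card_center_SL]
    simp
  exact ⟨(QuotientGroup.quotientMulEquivOfEq hz).trans QuotientGroup.quotientBot⟩

/-- The automorphism group of an elementary abelian group of order 8 is `SL(3,2)`. -/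
theorem mulAut_equiv_sl32 {V : Type*} [Group V] [Finite V] (hV : Nat.card V = 8)
    (hsq : ∀ u : V, u * u = 1) (hcomm : ∀ u v : V, u * v = v * u) :
    Nonempty (MulAut V ≃* Matrix.SpecialLinearGroup (Fin 3) (ZMod 2)) := by
  classical
  haveI : Fact (Nat.Prime 2) := ⟨Nat.prime_two⟩
  letI : CommGroup V := { (inferInstance : Group V) with mul_comm := hcomm }
  letI : Module (ZMod 2) (Additive V) := AddCommGroup.zmodModule fun x => by
    rw [two_nsmul]
    exact congrArg Additive.ofMul (hsq x.toMul)
  have hr : Module.finrank (ZMod 2) (Additive V) = 3 := by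
    have h := Module.natCard_eq_pow_finrank (K := ZMod 2) (V := Additive V)
    rw [show Nat.card (Additive V) = 8 from hV, Nat.card_zmod, show 8 = 2 ^ 3 by norm_num] at h
    exact (Nat.pow_right_injective le_rfl h).symm
  obtain ⟨e⟩ : Nonempty (Additive V ≃ₗ[ZMod 2] (Fin 3 → ZMod 2)) :=
    ⟨(Module.finBasisOfFinrankEq (ZMod 2) (Additive V) hr).equivFun⟩
  let L : Matrix.SpecialLinearGroup (Fin 3) (ZMod 2) → (Additive V ≃ₗ[ZMod 2] Additive V) :=
    fun A => e.trans ((Matrix.SpecialLinearGroup.toLin' A).trans e.symm)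
  let φ : Matrix.SpecialLinearGroup (Fin 3) (ZMod 2) →* MulAut V :=
    { toFun := fun A => MulEquiv.toAdditive.symm (L A).toAddEquiv
      map_one' := by
        refine MulEquiv.ext fun x => ?_
        show (L 1 (Additive.ofMul x)).toMul = x
        simp [L]
      map_mul' := fun A A' => by
        refine MulEquiv.ext fun x => ?_
        show (L (A * A') (Additive.ofMul x)).toMul =
          (L A (Additive.ofMul (L A' (Additive.ofMul x)).toMul)).toMul
        simp [L] }
  have hφ : Function.Injective φ := fun A A' h => by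
    refine Matrix.SpecialLinearGroup.toLin'_injective (LinearEquiv.ext fun v => ?_)
    have h1 : (L A (Additive.ofMul (e.symm v).toMul)).toMul =
        (L A' (Additive.ofMul (e.symm v).toMul)).toMul := DFunLike.congr_fun h (e.symm v).toMul
    simpa [L] using h1
  haveI := OddCond.OutSolvable.finite_mulAut V
  exact ⟨(MulEquiv.ofBijective φ ((Nat.bijective_iff_injective_and_card _).2 ⟨hφ,
    le_antisymm (Nat.card_le_card_of_injective φ hφ)
      (by rw [card_sl32_q]; exact OddCond.OutSolvable.card_mulAut_le hV hsq hcomm)⟩)).symm⟩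

/-- A group acting faithfully as 168 automorphisms on an elementary abelian group of order 8. -/
theorem quotient_psl32 {G : Type*} [Group G] [Finite G] (V : Subgroup G) [V.Normal]
    (hV : Nat.card V = 8) (hsq : ∀ u ∈ V, u * u = 1) (hcomm : ∀ u ∈ V, ∀ v ∈ V, u * v = v * u)
    (hcent : ∀ x : G, (∀ v ∈ V, x * v = v * x) → x ∈ V) (hG : Nat.card G = 1344) :
    Nonempty (G ⧸ V ≃* Matrix.ProjectiveSpecialLinearGroup (Fin 3) (ZMod 2)) := by
  obtain ⟨e⟩ := mulAut_equiv_sl32 hV (fun u => Subtype.ext (hsq u u.2))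
    fun u v => Subtype.ext (hcomm u u.2 v v.2)
  obtain ⟨p⟩ := psl32_equiv_sl32
  let ψ : G →* MulAut V := MulAut.conjNormal
  have hker : V = ψ.ker := by
    ext x
    rw [MonoidHom.mem_ker]
    constructor
    · intro hx
      ext v
      simp [ψ, MulAut.conjNormal_apply, hcomm x hx v v.2]
    · intro hx
      refine hcent x fun v hv => ?_
      have := congrArg Subtype.val (DFunLike.congr_fun hx ⟨v, hv⟩)
      simp [ψ, MulAut.conjNormal_apply] at this
      exact mul_inv_eq_iff_eq_mul.1 this
  have hidx : V.index = 168 := by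
    have h := V.card_mul_index
    rw [hV, hG] at h
    omega
  haveI := OddCond.OutSolvable.finite_mulAut V
  let χ : G ⧸ V →* MulAut V := QuotientGroup.lift V ψ (le_of_eq hker)
  have hinj : Function.Injective χ := (QuotientGroup.injective_lift_iff V ψ (le_of_eq hker)).2 hker
  have hle := OddCond.OutSolvable.card_mulAut_le (V := V) hV (fun u => Subtype.ext (hsq u u.2))
    fun u v => Subtype.ext (hcomm u u.2 v v.2)
  exact ⟨((MulEquiv.ofBijective χ ((Nat.bijective_iff_injective_and_card _).2 ⟨hinj,
    le_antisymm (Nat.card_le_card_of_injective χ hinj) (by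
      rw [← Subgroup.index_eq_card, hidx]; exact hle)⟩)).trans e).trans p.symm⟩

end Cfsg.Agent.Lib.S3344
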