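import Cfsg.Agent.Lib.S3344.Stage

/-!
Action of words on the table: an element fixing the centre is pinned by its action.
-/

set_option autoImplicit false

namespace Cfsg.Agent.Lib.S3344

variable {G : Type*} [Group G] {s : G} {f : ℕ → G}

/-- The element acts on part of the table by a partial map. -/
def Moves (f : ℕ → G) (z : G) (p : ℕ → Option ℕ) : Prop :=
  ∀ x y, p x = some y → x < 192 ∧ y < 192 ∧ z * f x * z⁻¹ = f y

/-- Conjugation by an element of the table. -/
noncomputable def inL (g x : ℕ) : Option ℕ :=
  if x < 192 ∧ g < 192 then some (mulB (mulB g x) (invB g)) else none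

/-- A swapping map on its domain. -/
noncomputable def inS (dom : List ℕ) (code x : ℕ) : Option ℕ :=
  if dom.elem x then some (ent code x) else none

/-- Composite of partial maps, the last one first. -/
noncomputable def chain : List (ℕ → Option ℕ) → ℕ → Option ℕ
  | [], x => if x < 192 then some x else none
  | p :: ps, x => (chain ps x).bind p

theorem moves_inL (F : FTab f) (g : ℕ) : Moves f (f g) (inL g) := by
  intro x y h
  simp only [inL] at h
  split_ifs at h with hc
  obtain rfl := Option.some.inj h
  obtain ⟨hx, hg⟩ := hc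
  have hi := (invB_spec hg).1
  refine ⟨hx, mulB_lt (mulB_lt hg hx) hi, ?_⟩
  rw [F.mul _ (mulB_lt hg hx) _ hi, F.mul g hg x hx, F.inv hg]

theorem moves_inS {dom : List ℕ} {code : ℕ} {h : G} (S : Swaps f dom code h) :
    Moves f h (inS dom code) := by
  intro x y hy
  simp only [inS] at hy
  split_ifs at hy with hx
  obtain rfl := Option.some.inj hy
  obtain ⟨h1, h2, h3⟩ := S.conj x (by simpa using hx)
  exact ⟨h1, h2, by rw [inv_eq_of_mul_eq_one_right S.sq, h3]⟩

theorem moves_chain : ∀ {zs : List G} {ps : List (ℕ → Option ℕ)},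
    List.Forall₂ (Moves f) zs ps → Moves f zs.prod (chain ps) := by
  intro zs ps hF
  induction hF with
  | nil =>
    intro x y h
    simp only [chain] at h
    split_ifs at h with hx
    obtain rfl := Option.some.inj h
    exact ⟨hx, hx, by simp⟩
  | @cons z p zs ps hzp _ ih =>
    intro x y h
    simp only [chain, Option.bind_eq_some_iff] at h
    obtain ⟨m, hm, hy⟩ := h
    obtain ⟨hx, -, e1⟩ := ih x m hm
    obtain ⟨-, hy', e2⟩ := hzp m y hy
    refine ⟨hx, hy', ?_⟩
    rw [List.prod_cons, ← e2, ← e1]
    group

/-- An element fixing the centre is an element of the table with the same action. -/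
theorem Moves.exists_index (T : Tab mulB s f) {z : G} {p : ℕ → Option ℕ} (hM : Moves f z p)
    (h16 : p 16 = some 16) :
    ∃ a < 192, z = f a ∧ ∀ x y, p x = some y → inL a x = some y := by
  have F := T.ftab
  obtain ⟨-, -, e⟩ := hM 16 16 h16
  rw [T.inv_eq, mul_inv_eq_iff_eq_mul] at e
  obtain ⟨a, ha, rfl⟩ := (T.range z).1 e
  refine ⟨a, ha, rfl, fun x y h => ?_⟩
  obtain ⟨hx, hy, e2⟩ := hM x y h
  have hia : inL a x = some (mulB (mulB a x) (invB a)) := by simp [inL, hx, ha]
  obtain ⟨-, hm, e3⟩ := moves_inL F a x _ hia
  rw [hia, F.inj _ hm _ hy (e3.symm.trans e2)]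

/-- No element of the table acts as the composite map on the given points. -/
noncomputable def noElement (p : ℕ → Option ℕ) (tests : List ℕ) : Bool :=
  (p 16 == some 16) && (List.range 192).all fun a => tests.any fun x =>
    (p x).any fun y => !(inL a x == some y)

theorem noElement_false (T : Tab mulB s f) {z : G} {p : ℕ → Option ℕ} (hM : Moves f z p)
    {tests : List ℕ} (h : noElement p tests = true) : False := by
  simp only [noElement, Bool.and_eq_true, beq_iff_eq, List.all_eq_true, List.mem_range,
    List.any_eq_true, Option.any_eq_true, Bool.not_eq_true', beq_eq_false_iff_ne] at h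
  obtain ⟨a, ha, -, hact⟩ := hM.exists_index T h.1
  obtain ⟨x, -, y, hy, hne⟩ := h.2 a ha
  exact hne (hact x y hy)

end Cfsg.Agent.Lib.S3344
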