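import Cfsg.Agent.Lib.S3344.AltNineLocal

/-!
A finite group with a subgroup isomorphic to the alternating group of degree 8 which contains the
centralizer of one of its fixed-point-free involutions, whose two classes of involutions do not
fuse, is that subgroup or the alternating group of degree 9.
-/

set_option autoImplicit false
set_option maxRecDepth 40000
set_option synthInstance.maxSize 2000

namespace Cfsg.Agent.Lib.S3344.AltNine

open Cfsg.Agent.Lib
open Equiv (swap)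

universe u

theorem involution_z0 : orderOf z0 = 2 :=
  orderOf_eq_prime (by decide +kernel) (by decide +kernel)

theorem fpf_z0 : Fpf z0 := by decide +kernel

theorem involution_u0 : orderOf u0 = 2 ∧ ¬ Fpf u0 :=
  ⟨orderOf_eq_prime (by decide +kernel) (by decide +kernel), by decide +kernel⟩

theorem gens_fix_four : (s0 : Equiv.Perm (Fin 8)) 4 = 4 ∧ (k0 : Equiv.Perm (Fin 8)) 4 = 4 ∧
    (t0 : Equiv.Perm (Fin 8)) 4 = 4 ∧ (g5 : Equiv.Perm (Fin 8)) 4 = 4 ∧
    (r7 : Equiv.Perm (Fin 8)) 4 = 4 ∧ (z0 : Equiv.Perm (Fin 8)) 4 ≠ 4 ∧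
    (g5 : Equiv.Perm (Fin 8)) 7 = 7 := by decide +kernel

theorem gens_comm : t0 * b0 = b0 * t0 ∧ g5 * t0 = t0 * g5 ∧ r7 * t0 = t0 * r7 ∧
    s0 * b0 = b0 * s0 ∧ k0 * b0 = b0 * k0 := by decide +kernel

theorem exists_double : ∀ i : Fin 8,
    ((b0 : Equiv.Perm (Fin 8)) i = i ∨ (u0 : Equiv.Perm (Fin 8)) i = i) ∧
    ((b0 : Equiv.Perm (Fin 8)) i = i ∨ (g5 : Equiv.Perm (Fin 8)) i = i ∨
      (h5 : Equiv.Perm (Fin 8)) i = i) := by decide +kernel

theorem involution_g5 : orderOf g5 = 2 ∧ ¬ Fpf g5 ∧ (g5 : Equiv.Perm (Fin 8)) 4 = 4 :=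
  ⟨orderOf_eq_prime (by decide +kernel) (by decide +kernel), by decide +kernel, by decide +kernel⟩

theorem involution_h5 : orderOf h5 = 2 ∧ ¬ Fpf h5 ∧ (h5 : Equiv.Perm (Fin 8)) 4 = 4 :=
  ⟨orderOf_eq_prime (by decide +kernel) (by decide +kernel), by decide +kernel, by decide +kernel⟩

theorem vel_orbit : ∀ p q, 4 ≤ ((vel p q : Equiv.Perm (Fin 8)) 4).val ∧ vel p q * b0 = b0 * vel p q ∧
    (vel p q)⁻¹ = vel p q := by decide +kernel

theorem b0_fix_iff : ∀ i : Fin 8, (b0 : Equiv.Perm (Fin 8)) i = i ↔ 4 ≤ i.val := by decide +kernel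

theorem card_high : (Finset.univ.filter fun i : Fin 8 => 4 ≤ i.val).card = 4 := by decide +kernel

theorem exists_carrier : ∀ i : Fin 8, ∃ a : A8, (a : Equiv.Perm (Fin 8)) 4 = i := by
  intro i
  obtain ⟨k, l, hs, h⟩ : ∃ k l : Fin 8, Equiv.Perm.sign (swap k l * swap 4 i) = 1 ∧
      (swap k l * swap 4 i) 4 = i ∨ i = 4 ∧ k = l := by
    revert i
    decide +kernel
  · exact ⟨mkA _ hs, h⟩
  · exact ⟨1, by rename_i h; simpa using h.1.symm⟩

theorem card_A8 : Nat.card A8 = 20160 := by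
  rw [nat_card_alternatingGroup]
  simp [Nat.factorial]

section

variable {G : Type u} [Group G] (S : Setup G)

/-- The point fixed by the image. -/
abbrev Setup.p0 : G ⧸ S.ι.range := ((1 : G) : G ⧸ S.ι.range)

theorem Setup.smul_p0 (g : G) : g • S.p0 = (g : G ⧸ S.ι.range) := by
  rw [MulAction.Quotient.smul_coe, smul_eq_mul, mul_one]

theorem Setup.smul_p0_eq_iff (g : G) : g • S.p0 = S.p0 ↔ g ∈ S.ι.range := by
  rw [S.smul_p0, QuotientGroup.eq, mul_one, inv_mem_iff]

theorem Setup.ι_smul_p0 (a : A8) : S.ι a • S.p0 = S.p0 := (S.smul_p0_eq_iff _).2 ⟨a, rfl⟩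

theorem Setup.conj_smul_eq_iff {g v : G} {x : G ⧸ S.ι.range} :
    (g * v * g⁻¹) • (g • x) = g • x ↔ v • x = x := by
  rw [mul_smul, mul_smul, inv_smul_smul, smul_left_cancel_iff]

/-- A fixed-point-free involution of the image fixes only one point. -/
theorem Setup.eq_p0_of_fix {a : A8} (ha : orderOf a = 2) (hf : Fpf a) {x : G ⧸ S.ι.range}
    (hx : S.ι a • x = x) : x = S.p0 := by
  induction x using QuotientGroup.induction_on with
  | _ g =>
    rw [← S.smul_p0, ← mul_smul, smul_eq_iff_eq_inv_smul, eq_comm, ← mul_smul,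
      S.smul_p0_eq_iff] at hx
    replace hx := inv_mem hx
    rw [mul_inv_rev, inv_inv] at hx
    have : g⁻¹ ∈ S.ι.range := S.mem_of_conj ha hf (g := g⁻¹) (by
      rw [inv_inv, mul_assoc]; exact hx)
    rw [← S.smul_p0, S.smul_p0_eq_iff]
    exact inv_mem_iff.1 this

/-- The fixed points of `b0` are translates by its centralizer. -/
theorem Setup.exists_C_of_fix {x : G ⧸ S.ι.range} (hx : S.ι b0 • x = x) :
    ∃ c ∈ S.C, x = c • S.p0 := by
  induction x using QuotientGroup.induction_on with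
  | _ g =>
    rw [← S.smul_p0, ← mul_smul, smul_eq_iff_eq_inv_smul, eq_comm, ← mul_smul,
      S.smul_p0_eq_iff] at hx
    replace hx := inv_mem hx
    rw [mul_inv_rev, inv_inv] at hx
    obtain ⟨a, ha⟩ := hx
    have hbo : orderOf b0 = 2 := orderOf_eq_prime (by decide +kernel) (by decide +kernel)
    have hab : IsConj (S.ι b0) (S.ι a) := isConj_iff.2 ⟨g⁻¹, by rw [ha, inv_inv, mul_assoc]⟩
    have ha2 : orderOf a = 2 := by
      rw [← orderOf_injective S.ι S.inj, Involution.isConj_orderOf hab,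
        orderOf_injective S.ι S.inj, hbo]
    have hnf : ¬ Fpf a := fun hf => S.ne ((S.isConj_z ha2 hf).trans hab.symm)
    obtain ⟨d, rfl⟩ := exists_conj_b0 ha2 hnf
    refine ⟨g * S.ι d, S.mem_C.2 ?_, ?_⟩
    · rw [map_mul, map_mul, map_inv] at ha
      calc g * S.ι d * S.ι b0 = g * (S.ι d * S.ι b0 * (S.ι d)⁻¹) * S.ι d := by group
        _ = S.ι b0 * (g * S.ι d) := by rw [ha]; group
    · rw [mul_smul, S.ι_smul_p0, S.smul_p0]

/-- `b0` fixes at most five points. -/
theorem Setup.ncard_fix [Finite G] :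
    {x : G ⧸ S.ι.range | S.ι b0 • x = x}.ncard ≤ 5 := by
  have hsub : {x : G ⧸ S.ι.range | S.ι b0 • x = x} ⊆ MulAction.orbit S.X S.p0 := by
    intro x hx
    obtain ⟨c, hc, rfl⟩ := S.exists_C_of_fix hx
    rcases S.conj_k0 hc with h | h
    · exact ⟨⟨c, S.mem_X.2 ⟨S.mem_C.1 hc, mul_inv_eq_iff_eq_mul.1 h⟩⟩, rfl⟩
    · refine ⟨⟨c * S.ι tau, S.mem_X.2 ⟨?_, ?_⟩⟩, ?_⟩
      · have ht : S.ι tau * S.ι b0 = S.ι b0 * S.ι tau := S.ι_comm_iff.2 (by decide +kernel)
        rw [mul_assoc, ht, ← mul_assoc, S.mem_C.1 hc, mul_assoc]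
      · have ht : S.ι tau * S.ι k0 = S.ι k0 * S.ι b0 * S.ι tau := by
          rw [← map_mul, ← map_mul, ← map_mul, mul_inv_eq_iff_eq_mul.1 tau_k0]
        have hbb : S.ι b0 * S.ι b0 = 1 := by
          rw [← map_mul, show b0 * b0 = (1 : A8) by decide +kernel, map_one]
        rw [mul_inv_eq_iff_eq_mul] at h
        calc c * S.ι tau * S.ι k0 = c * S.ι k0 * S.ι b0 * S.ι tau := by
              rw [mul_assoc c, ht]; group
          _ = S.ι k0 * (S.ι b0 * c) * S.ι b0 * S.ι tau := by rw [h]; group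
          _ = S.ι k0 * c * (S.ι b0 * S.ι b0) * S.ι tau := by rw [← S.mem_C.1 hc]; group
          _ = S.ι k0 * (c * S.ι tau) := by rw [hbb]; group
      · show (c * S.ι tau) • S.p0 = c • S.p0
        rw [mul_smul, S.ι_smul_p0]
  refine (Set.ncard_le_ncard hsub (Set.toFinite _)).trans ?_
  rw [← MulAction.index_stabilizer]
  set K := MulAction.stabilizer S.X S.p0 with hK
  have hle : Xg.map S.ι ≤ S.X := by
    rintro _ ⟨a, ha, rfl⟩
    exact S.mem_X.2 ⟨S.ι_comm_iff.2 (mem_Xg.1 ha).1, S.ι_comm_iff.2 (mem_Xg.1 ha).2⟩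
  have hKle : (Xg.map S.ι).subgroupOf S.X ≤ K := by
    intro x hx
    obtain ⟨a, -, ha⟩ := Subgroup.mem_subgroupOf.1 hx
    rw [hK, MulAction.mem_stabilizer_iff]
    show (x : G) • S.p0 = S.p0
    rw [← ha]
    exact S.ι_smul_p0 a
  have hcK := Subgroup.card_le_of_le hKle
  rw [Nat.card_congr (Subgroup.subgroupOfEquivOfLe hle).toEquiv,
    ← Nat.card_congr (Xg.equivMapOfInjective S.ι S.inj).toEquiv, card_Xg] at hcK
  by_contra hc
  have h := Nat.mul_le_mul (Nat.lt_of_not_le hc) hcK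
  rw [K.index_mul_card] at h
  have := S.card_X
  omega

/-- A conjugate of `b0` and `z0` commute with a common involution of the image. -/
theorem Setup.exists_commute [Finite G] {v : G} (hv : IsConj (S.ι b0) v) :
    ∃ a : A8, orderOf a = 2 ∧ v * S.ι a = S.ι a * v := by
  have hb2 : orderOf (S.ι b0) = 2 := by
    rw [orderOf_injective S.ι S.inj]
    exact orderOf_eq_prime (by decide +kernel) (by decide +kernel)
  have hv2 : v * v = 1 := Involution.mul_self_eq_one (by rw [Involution.isConj_orderOf hv, hb2])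
  have hz2 : S.ι z0 * S.ι z0 = 1 := Involution.mul_self_eq_one (by
    rw [orderOf_injective S.ι S.inj, involution_z0])
  rcases Nat.even_or_odd (orderOf (v * S.ι z0)) with he | ho
  · have hw := Involution.orderOf_half_pow he
    obtain ⟨a, ha⟩ := S.cent _ (Involution.commute_half_pow_right hv2 hz2 he).eq
    refine ⟨a, ?_, ?_⟩
    · rw [← orderOf_injective S.ι S.inj, ha, hw]
    · rw [ha]
      exact (Involution.commute_half_pow_left hv2 hz2 he).eq.symm
  · exact absurd ((hv.trans (Involution.isConj_of_odd hv2 hz2 ho))).symm S.ne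

theorem Setup.eq_top_of_C_le [Finite G] (hC : S.C ≤ S.ι.range) : S.ι.range = ⊤ := by
  have hall : ∀ v : G, IsConj (S.ι b0) v → v ∈ S.ι.range := by
    intro v hv
    obtain ⟨a, ha, hva⟩ := S.exists_commute hv
    by_cases hf : Fpf a
    · exact S.mem_of_commute ha hf hva
    · obtain ⟨d, rfl⟩ := exists_conj_b0 ha hf
      rw [map_mul, map_mul, map_inv] at hva
      have h : (S.ι d)⁻¹ * v * S.ι d ∈ S.ι.range := hC (S.mem_C.2 (by
        calc (S.ι d)⁻¹ * v * S.ι d * S.ι b0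
            = (S.ι d)⁻¹ * (v * (S.ι d * S.ι b0 * (S.ι d)⁻¹)) * S.ι d := by group
          _ = S.ι b0 * ((S.ι d)⁻¹ * v * S.ι d) := by rw [hva]; group))
      have hd : S.ι d ∈ S.ι.range := ⟨d, rfl⟩
      simpa [mul_assoc] using mul_mem (mul_mem hd h) (inv_mem hd)
  refine eq_top_iff.2 fun g _ => S.mem_of_conj involution_z0 fpf_z0 ?_
  have hu := S.isConj_b involution_u0.1 involution_u0.2
  rw [show g * S.ι z0 * g⁻¹ = g * S.ι b0 * g⁻¹ * (g * S.ι u0 * g⁻¹) by
    rw [z0_eq, map_mul]; group]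
  exact mul_mem (hall _ (isConj_iff.2 ⟨g, rfl⟩)) (hall _ (hu.trans (isConj_iff.2 ⟨g, rfl⟩)))

/-- A further fixed point of `b0` whose stabilizer contains `s0`. -/
theorem Setup.exists_point [Finite G] (hC : ¬ S.C ≤ S.ι.range) :
    ∃ q : G ⧸ S.ι.range, q ≠ S.p0 ∧ S.ι b0 • q = q ∧
      (∀ t, S.ι (el t) • q = q ↔ (el t : Equiv.Perm (Fin 8)) 4 = 4) ∧
      ∀ x, S.ι b0 • x = x → x = S.p0 ∨ ∃ p r, x = S.ι (vel p r) • q := by
  classical
  have := Fintype.ofFinite (G ⧸ S.ι.range)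
  set Fb : Finset (G ⧸ S.ι.range) :=
    Finset.univ.filter (fun x => S.ι b0 • x = x ∧ x ≠ S.p0) with hFb
  have hmem : ∀ x, x ∈ Fb ↔ S.ι b0 • x = x ∧ x ≠ S.p0 := fun x => by simp [hFb]
  have hb0 : S.ι b0 • S.p0 = S.p0 := S.ι_smul_p0 b0
  have hcard : Fb.card ≤ 4 := by
    have h := S.ncard_fix
    rw [Set.ncard_eq_toFinset_card'] at h
    have hsub : insert S.p0 Fb ⊆ {x : G ⧸ S.ι.range | S.ι b0 • x = x}.toFinset := by
      intro x hx
      rw [Set.mem_toFinset]
      rcases Finset.mem_insert.1 hx with rfl | hx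
      · exact hb0
      · exact ((hmem x).1 hx).1
    have h2 := Finset.card_le_card hsub
    rw [Finset.card_insert_of_notMem (fun hp => ((hmem _).1 hp).2 rfl)] at h2
    omega
  have hD : ∀ (t : Idx), ∀ x ∈ Fb, S.ι (el t) • x ∈ Fb := by
    intro t x hx
    obtain ⟨h1, h2⟩ := (hmem x).1 hx
    refine (hmem _).2 ⟨?_, fun e => h2 ?_⟩
    · rw [← mul_smul, ← map_mul, ← el_commute t, map_mul, mul_smul, h1]
    · have := congrArg ((S.ι (el t))⁻¹ • ·) e
      rwa [inv_smul_smul, ← map_inv, S.ι_smul_p0] at this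
  have hvel : ∀ p q, (p ≠ 0 ∨ q ≠ 0) → ∀ x ∈ Fb, S.ι (vel p q) • x ≠ x := by
    intro p q hne x hx e
    obtain ⟨h1, h2⟩ := (hmem x).1 hx
    obtain ⟨-, hf, ho⟩ := vel_not_fpf p q hne
    exact h2 (S.eq_p0_of_fix ho hf (by rw [map_mul, mul_smul, e, h1]))
  set T : G ⧸ S.ι.range → Finset Idx :=
    fun x => Finset.univ.filter (fun t => S.ι (el t) • x = x) with hT
  have hTm : ∀ x t, t ∈ T x ↔ S.ι (el t) • x = x := fun x t => by simp [hT]
  have hlow : ∀ x ∈ Fb, 24 ≤ (T x).card := by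
    intro x hx
    have himg : (Finset.univ.image fun t : Idx => S.ι (el t) • x).card ≤ 4 :=
      (Finset.card_le_card (fun y hy => by
        obtain ⟨t, -, rfl⟩ := Finset.mem_image.1 hy
        exact hD t x hx)).trans hcard
    have hfib := Finset.card_le_mul_card_image (f := fun t : Idx => S.ι (el t) • x)
      Finset.univ (T x).card (fun y hy => by
        obtain ⟨t1, -, rfl⟩ := Finset.mem_image.1 hy
        have hex : ∀ t, ∃ s, el s = (el t1)⁻¹ * el t := fun t => exists_el (by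
          have h1 : Commute (el t) b0 := el_commute t
          have h2 : Commute (el t1) b0 := el_commute t1
          exact (h2.inv_left.mul_left h1).eq)
        choose s hs using hex
        refine Finset.card_le_card_of_injOn s (fun t ht => ?_) (fun a _ b _ e => ?_)
        · simp only [Finset.coe_filter, Finset.mem_univ, true_and, Set.mem_setOf_eq] at ht
          refine Finset.mem_coe.2 ((hTm x _).2 ?_)
          rw [hs, map_mul, map_inv, mul_smul, inv_smul_eq_iff, ht]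
        · exact el_injective (mul_left_cancel ((hs a).symm.trans ((congrArg el e).trans (hs b)))))
    rw [Finset.card_univ] at hfib
    have h96 : Fintype.card Idx = 96 := rfl
    rw [h96] at hfib
    have := hfib.trans (Nat.mul_le_mul_left _ himg)
    omega
  set pr : Idx → Fin 2 × Fin 2 × Fin 3 × Fin 2 :=
    fun t => (t.1, t.2.1, t.2.2.2.2.1, t.2.2.2.2.2) with hpr
  have hinj : ∀ x ∈ Fb, Set.InjOn pr (T x : Set Idx) := by
    rintro x hx ⟨a, c, p, q, r, e⟩ h1 ⟨a', c', p', q', r', e'⟩ h2 hh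
    simp only [hpr, Prod.mk.injEq] at hh
    obtain ⟨rfl, rfl, rfl, rfl⟩ := hh
    have hfix : S.ι (vel (p + p') (q + q')) • x = x := by
      have e1 := (hTm x _).1 (Finset.mem_coe.1 h1)
      have e2 := (hTm x _).1 (Finset.mem_coe.1 h2)
      rw [← el_ratio a c p q p' q' r e, map_mul, map_inv, mul_smul,
        inv_smul_eq_iff.2 e2.symm, e1]
    have h0 : p + p' = 0 ∧ q + q' = 0 := by
      by_contra hne
      exact hvel _ _ (not_and_or.1 hne) x hx hfix
    obtain ⟨h3, h4⟩ := h0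
    have : ∀ i j : Fin 2, i + j = 0 → i = j := by decide
    rw [this _ _ h3, this _ _ h4]
  have htarget : (Finset.univ : Finset (Fin 2 × Fin 2 × Fin 3 × Fin 2)).card = 24 := rfl
  have hup : ∀ x ∈ Fb, (T x).card = 24 := by
    intro x hx
    refine le_antisymm ?_ (hlow x hx)
    rw [← Finset.card_image_of_injOn (hinj x hx), ← htarget]
    exact Finset.card_le_card (Finset.subset_univ _)
  obtain ⟨c, hcC, hcM⟩ := SetLike.not_le_iff_exists.1 hC
  have hx0 : c • S.p0 ∈ Fb := (hmem _).2 ⟨by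
    rw [← mul_smul, ← S.mem_C.1 hcC, mul_smul, hb0], fun e => hcM ((S.smul_p0_eq_iff c).1 e)⟩
  obtain ⟨⟨a, c', p, q, r, e⟩, ht, hh⟩ : ∃ t ∈ T (c • S.p0), pr t = (0, 0, 1, 0) := by
    have : (T (c • S.p0)).image pr = Finset.univ := Finset.eq_univ_of_card _ (by
      rw [Finset.card_image_of_injOn (hinj _ hx0), hup _ hx0]; rfl)
    exact Finset.mem_image.1 (by rw [this]; exact Finset.mem_univ _)
  simp only [hpr, Prod.mk.injEq] at hh
  obtain ⟨rfl, rfl, rfl, rfl⟩ := hh
  obtain ⟨p', q', h3⟩ := el_three p q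
  rw [hTm, ← h3, map_mul, map_mul, map_inv, mul_smul, mul_smul, smul_eq_iff_eq_inv_smul] at ht
  set x := (S.ι (vel p' q'))⁻¹ • c • S.p0 with hxdef
  have hx : x ∈ Fb := by
    obtain ⟨t, ht'⟩ := exists_el (a := (vel p' q')⁻¹) (by
      rw [(vel_orbit p' q').2.2]; exact (vel_orbit p' q').2.1)
    rw [hxdef, ← map_inv, ← ht']
    exact hD t _ hx0
  refine ⟨x, ((hmem x).1 hx).2, ((hmem x).1 hx).1, ?_, ?_⟩
  · have hTeq : T x = Finset.univ.filter (fun t : Idx => (el t : Equiv.Perm (Fin 8)) 4 = 4) := by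
      refine Finset.eq_of_subset_of_card_le (fun t ht' => ?_)
        (by rw [card_el_four, hup x hx])
      refine Finset.mem_filter.2 ⟨Finset.mem_univ _, ?_⟩
      by_contra hne
      obtain ⟨p2, q2, hpq, h⟩ := el_move t hne
      have hst : S.ι s0 • x = x := ht
      have het := (hTm x t).1 ht'
      refine hvel p2 q2 hpq x hx ?_
      have hinv : ∀ g : G, g • x = x → g⁻¹ • x = x := fun g hg => inv_smul_eq_iff.2 hg.symm
      rcases h with h | h <;> rw [← h] <;>
        simp only [map_mul, map_inv, mul_inv_rev, inv_inv, mul_smul, hst, het, hinv _ hst,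
          hinv _ het]
    intro t
    rw [← hTm, hTeq]
    simp
  · intro y hy
    by_cases hyp : y = S.p0
    · exact Or.inl hyp
    right
    have hyF : y ∈ Fb := (hmem y).2 ⟨hy, hyp⟩
    have hsub : (Finset.univ.image fun t : Fin 2 × Fin 2 => S.ι (vel t.1 t.2) • x) ⊆ Fb := by
      intro z hz
      obtain ⟨t, -, rfl⟩ := Finset.mem_image.1 hz
      obtain ⟨s, hs⟩ := exists_el (a := vel t.1 t.2) (vel_orbit t.1 t.2).2.1
      rw [← hs]
      exact hD s x hx
    have hinjv : Function.Injective fun t : Fin 2 × Fin 2 => S.ι (vel t.1 t.2) • x := by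
      rintro ⟨a1, a2⟩ ⟨c1, c2⟩ e
      replace e : S.ι (vel a1 a2) • x = S.ι (vel c1 c2) • x := e
      have hfix : S.ι (vel (a1 + c1) (a2 + c2)) • x = x := by
        rw [← vel_mul, map_mul, mul_smul, ← e, ← mul_smul, ← map_mul, vel_mul]
        have : ∀ i : Fin 2, i + i = 0 := by decide
        rw [this, this, vel_zero, map_one, one_smul]
      have h0 : a1 + c1 = 0 ∧ a2 + c2 = 0 := by
        by_contra hne
        exact hvel _ _ (not_and_or.1 hne) x hx hfix
      have : ∀ i j : Fin 2, i + j = 0 → i = j := by decide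
      rw [this _ _ h0.1, this _ _ h0.2]
    have heq := Finset.eq_of_subset_of_card_le hsub
      (by rw [Finset.card_image_of_injective _ hinjv]; exact hcard)
    rw [← heq] at hyF
    obtain ⟨t, -, rfl⟩ := Finset.mem_image.1 hyF
    exact ⟨t.1, t.2, rfl⟩

/-- The stabilizer in the image of that point is the stabilizer of the letter `4`. -/
theorem Setup.stab_point [Finite G] (hC : ¬ S.C ≤ S.ι.range) :
    ∃ q : G ⧸ S.ι.range, q ≠ S.p0 ∧
      (∀ a : A8, S.ι a • q = q ↔ (a : Equiv.Perm (Fin 8)) 4 = 4) ∧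
      ∀ x, S.ι b0 • x = x → x = S.p0 ∨ ∃ p r, x = S.ι (vel p r) • q := by
  obtain ⟨q, hqp, hqb, hst, hfix⟩ := S.exists_point hC
  refine ⟨q, hqp, ?_, hfix⟩
  let Mq : Subgroup A8 := (MulAction.stabilizer G q).comap S.ι
  have hMq : ∀ a, a ∈ Mq ↔ S.ι a • q = q := fun a => Iff.rfl
  have hD : ∀ a : A8, a * b0 = b0 * a → (a ∈ Mq ↔ (a : Equiv.Perm (Fin 8)) 4 = 4) := by
    intro a ha
    obtain ⟨t, rfl⟩ := exists_el ha
    exact hst t
  obtain ⟨hs4, hk4, ht4, hg4, hr4, hz4, hg7⟩ := gens_fix_four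
  obtain ⟨htb, hgt, hrt, hsb, hkb⟩ := gens_comm
  have hs : s0 ∈ Mq := (hD _ hsb).2 hs4
  have hk : k0 ∈ Mq := (hD _ hkb).2 hk4
  have htq : S.ι t0 • q = q := (hD _ htb).2 ht4
  have hz : z0 ∉ Mq := fun h => hqp (S.eq_p0_of_fix involution_z0 fpf_z0 h)
  -- the translate by `m0`
  set x := (S.ι m0)⁻¹ • q with hx
  have hxb : S.ι b0 • x = x := by
    rw [← m0_b0, map_mul, map_mul, map_inv, mul_smul, mul_smul] at htq
    exact eq_inv_smul_iff.2 htq
  obtain e | ⟨p, r, hpr⟩ := hfix x hxb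
  · exact absurd (by rw [hx, inv_smul_eq_iff, S.ι_smul_p0] at e; exact e) hqp
  set j := (vel p r : Equiv.Perm (Fin 8)) 4 with hj
  have hP : ∀ a : A8, a * t0 = t0 * a →
      (a ∈ Mq ↔ (a : Equiv.Perm (Fin 8)) ((m0 : Equiv.Perm (Fin 8)) j) =
        (m0 : Equiv.Perm (Fin 8)) j) := by
    intro a ha
    set c := (vel p r)⁻¹ * (m0⁻¹ * a * m0) * vel p r with hc
    have hcb : c * b0 = b0 * c := by
      have h1 : Commute (vel p r) b0 := (vel_orbit p r).2.1
      have h2 : Commute (m0⁻¹ * a * m0) b0 := by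
        show m0⁻¹ * a * m0 * b0 = b0 * (m0⁻¹ * a * m0)
        rw [show b0 = m0⁻¹ * t0 * m0 by rw [← m0_b0]; group,
          show m0⁻¹ * a * m0 * (m0⁻¹ * t0 * m0) = m0⁻¹ * (a * t0) * m0 by group, ha]
        group
      exact ((h1.inv_left.mul_left h2).mul_left h1).eq
    have e1 : a ∈ Mq ↔ c ∈ Mq := by
      rw [hMq, hMq, hc]
      simp only [map_mul, map_inv, mul_smul, ← hpr, hx, smul_inv_smul, inv_smul_eq_iff]
    rw [e1, hD c hcb, hc]
    simp only [Subgroup.coe_mul, Subgroup.coe_inv, Equiv.Perm.mul_apply, ← hj,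
      Equiv.Perm.inv_eq_iff_eq]
  have hb4 : (b0 : Equiv.Perm (Fin 8)) ((m0 : Equiv.Perm (Fin 8)) j) =
      (m0 : Equiv.Perm (Fin 8)) j :=
    (hP b0 htb.symm).1 hqb
  rcases letters j (vel_orbit p r).1 hb4 with e | e <;> rw [e] at hP
  · have hg : g5 ∈ Mq := (hP g5 hgt).2 hg4
    have hr : r7 ∈ Mq := (hP r7 hrt).2 hr4
    have h4 : ∀ a : A8, (a : Equiv.Perm (Fin 8)) 4 = 4 → a ∈ Mq := fun a ha =>
      mem_of_fix_four hs hk hg hr ha
    refine fun a => ⟨fun ha => ?_, h4 a⟩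
    by_contra hne
    exact hz (eq_top_of_move h4 (y := a) ha hne z0)
  · obtain ⟨hr47, hr4t, ho, hf⟩ := fix_seven
    have hg : g5 ∈ Mq := (hP g5 hgt).2 hg7
    have hr : r4 ∈ Mq := (hP r4 hr4t).2 hr47
    exact absurd (S.eq_p0_of_fix ho hf (mul_mem (mul_mem (mul_mem (mul_mem (mul_mem (mul_mem
      hs hk) hg) hk) hr) hk) hg : _ ∈ Mq)) hqp

theorem Setup.nonempty_equiv [Finite G] (hC : ¬ S.C ≤ S.ι.range) :
    Nonempty (G ≃* alternatingGroup (Fin 9)) := by
  classical
  obtain ⟨q, hqp, hst, hfix⟩ := S.stab_point hC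
  choose c hc using exists_carrier
  set f : Fin 8 → G ⧸ S.ι.range := fun i => S.ι (c i) • q with hf
  have hft : ∀ a i, S.ι a • f i = f ((a : Equiv.Perm (Fin 8)) i) := by
    intro a i
    show S.ι a • S.ι (c i) • q = S.ι (c ((a : Equiv.Perm (Fin 8)) i)) • q
    rw [← mul_smul, eq_comm, smul_eq_iff_eq_inv_smul, eq_comm, ← mul_smul, ← map_inv, ← map_mul,
      ← map_mul, hst]
    rw [Subgroup.coe_mul, Subgroup.coe_inv, Subgroup.coe_mul, Equiv.Perm.mul_apply,
      Equiv.Perm.mul_apply, hc, Equiv.Perm.inv_eq_iff_eq, hc]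
  have hinj : Function.Injective f := by
    intro i j e
    have h : S.ι ((c i)⁻¹ * c j) • q = q := by
      rw [map_mul, map_inv, mul_smul, inv_smul_eq_iff]
      exact e.symm
    rw [hst, Subgroup.coe_mul, Subgroup.coe_inv, Equiv.Perm.mul_apply, Equiv.Perm.inv_eq_iff_eq,
      hc, hc] at h
    exact h.symm
  have hfp : ∀ i, f i ≠ S.p0 := fun i e => hqp (by
    rw [← inv_smul_smul (S.ι (c i)) q]
    show (S.ι (c i))⁻¹ • f i = S.p0
    rw [e, ← map_inv, S.ι_smul_p0])
  have hffix : ∀ a i, S.ι a • f i = f i ↔ (a : Equiv.Perm (Fin 8)) i = i := fun a i => by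
    rw [hft, hinj.eq_iff]
  have hf4 : f 4 = q := (hst _).2 (hc 4)
  set Γ : Set (G ⧸ S.ι.range) := insert S.p0 (Set.range f) with hΓ
  have hΓmem : ∀ a, ∀ x ∈ Γ, S.ι a • x ∈ Γ := by
    rintro a _ (rfl | ⟨i, rfl⟩)
    · rw [S.ι_smul_p0]; exact Or.inl rfl
    · rw [hft]; exact Or.inr ⟨_, rfl⟩
  have hcardΓ : Γ.ncard = 9 := by
    rw [hΓ, Set.ncard_insert_of_notMem (by rintro ⟨i, hi⟩; exact hfp i hi) (Set.toFinite _),
      ← Set.image_univ, Set.ncard_image_of_injective _ hinj, Set.ncard_univ]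
    simp
  have hfixΓ : ∀ x, S.ι b0 • x = x → x ∈ Γ := by
    intro x hx
    rcases hfix x hx with rfl | ⟨p, r, rfl⟩
    · exact Or.inl rfl
    · rw [← hf4]; exact hΓmem _ _ (Or.inr ⟨_, rfl⟩)
  let U : (G ⧸ S.ι.range) → Set (G ⧸ S.ι.range) := fun p =>
    {r | ∃ g : G, (g * S.ι b0 * g⁻¹) • p = p ∧ (g * S.ι b0 * g⁻¹) • r = r}
  have hUsmul : ∀ (g : G) (p : G ⧸ S.ι.range), U (g • p) = (fun x => g • x) '' U p := by
    intro g p
    ext r
    constructor
    · rintro ⟨d, h1, h2⟩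
      refine ⟨g⁻¹ • r, ⟨g⁻¹ * d, ?_, ?_⟩, smul_inv_smul g r⟩
      · rw [show g⁻¹ * d * S.ι b0 * (g⁻¹ * d)⁻¹ = g⁻¹ * (d * S.ι b0 * d⁻¹) * g by group, mul_smul,
          mul_smul, h1, inv_smul_smul]
      · rw [show g⁻¹ * d * S.ι b0 * (g⁻¹ * d)⁻¹ = g⁻¹ * (d * S.ι b0 * d⁻¹) * g by group, mul_smul,
          mul_smul, smul_inv_smul, h2]
    · rintro ⟨r, ⟨d, h1, h2⟩, rfl⟩
      refine ⟨g * d, ?_, ?_⟩ <;>
        rw [show g * d * S.ι b0 * (g * d)⁻¹ = g * (d * S.ι b0 * d⁻¹) * g⁻¹ by group,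
          S.conj_smul_eq_iff] <;> assumption
  have hdouble : ∀ a : A8, orderOf a = 2 → ¬ Fpf a → ∀ p r, S.ι a • p = p → S.ι a • r = r →
      r ∈ U p := by
    intro a ha hnf p r h1 h2
    obtain ⟨d, rfl⟩ := exists_conj_b0 ha hnf
    rw [map_mul, map_mul, map_inv] at h1 h2
    exact ⟨_, h1, h2⟩
  have hbo : orderOf b0 = 2 := orderOf_eq_prime (by decide +kernel) (by decide +kernel)
  have hbn : ¬ Fpf b0 := by decide +kernel
  have hU0 : U S.p0 = Γ := by
    ext r
    constructor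
    · rintro ⟨g, h1, h2⟩
      obtain ⟨a, ha⟩ := (S.smul_p0_eq_iff _).1 h1
      have hcj : IsConj (S.ι b0) (S.ι a) := isConj_iff.2 ⟨g, ha.symm⟩
      have ha2 : orderOf a = 2 := by
        rw [← orderOf_injective S.ι S.inj, Involution.isConj_orderOf hcj,
          orderOf_injective S.ι S.inj, hbo]
      have hnf : ¬ Fpf a := fun h => S.ne ((S.isConj_z ha2 h).trans hcj.symm)
      obtain ⟨d, hd⟩ := exists_conj_b0 ha2 hnf
      rw [← ha, ← hd, map_mul, map_mul, map_inv, mul_smul, mul_smul,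
        smul_eq_iff_eq_inv_smul] at h2
      have := hΓmem d _ (hfixΓ _ h2)
      rwa [smul_inv_smul] at this
    · rintro (rfl | ⟨i, rfl⟩)
      · exact hdouble b0 hbo hbn _ _ (S.ι_smul_p0 _) (S.ι_smul_p0 _)
      · rcases (exists_double i).1 with h | h
        · exact hdouble b0 hbo hbn _ _ (S.ι_smul_p0 _) ((hffix _ _).2 h)
        · exact hdouble u0 involution_u0.1 involution_u0.2 _ _ (S.ι_smul_p0 _) ((hffix _ _).2 h)
  have hcardU : ∀ p, (U p).ncard = 9 := by
    intro p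
    obtain ⟨g, rfl⟩ := MulAction.exists_smul_eq G S.p0 p
    rw [hUsmul, hU0, Set.ncard_image_of_injective _ (MulAction.injective g), hcardΓ]
  have hb44 : (b0 : Equiv.Perm (Fin 8)) 4 = 4 := by decide +kernel
  have hU4 : U q = Γ := by
    refine (Set.eq_of_subset_of_ncard_le ?_ (by rw [hcardU, hcardΓ]) (Set.toFinite _)).symm
    rintro _ (rfl | ⟨i, rfl⟩)
    · exact hdouble b0 hbo hbn _ _ ((hst _).2 hb44) (S.ι_smul_p0 _)
    · rcases (exists_double i).2 with h | h | h
      · exact hdouble b0 hbo hbn _ _ ((hst _).2 hb44) ((hffix _ _).2 h)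
      · exact hdouble g5 involution_g5.1 involution_g5.2.1 _ _ ((hst _).2 involution_g5.2.2)
          ((hffix _ _).2 h)
      · exact hdouble h5 involution_h5.1 involution_h5.2.1 _ _ ((hst _).2 involution_h5.2.2)
          ((hffix _ _).2 h)
  have hΓimage : ∀ a, (fun x => S.ι a • x) '' Γ = Γ := fun a =>
    Set.eq_of_subset_of_ncard_le (by rintro _ ⟨x, hx, rfl⟩; exact hΓmem a x hx)
      (by rw [Set.ncard_image_of_injective _ (MulAction.injective _)]) (Set.toFinite _)
  have hUΓ : ∀ r ∈ Γ, U r = Γ := by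
    rintro _ (rfl | ⟨i, rfl⟩)
    · exact hU0
    · show U (S.ι (c i) • q) = Γ
      rw [hUsmul, hU4, hΓimage]
  have hkey : ∀ g : G, g • S.p0 ∈ Γ → ∀ x ∈ Γ, g • x ∈ Γ := by
    intro g hg x hx
    rw [← hUΓ _ hg, hUsmul, hU0]
    exact ⟨x, hx, rfl⟩
  have hbconj : ∀ v, IsConj (S.ι b0) v → ∀ x ∈ Γ, v • x ∈ Γ := by
    intro v hv
    obtain ⟨a, ha, hva⟩ := S.exists_commute hv
    by_cases hfa : Fpf a
    · obtain ⟨a', rfl⟩ := S.mem_of_commute ha hfa hva
      exact hΓmem a'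
    · refine hkey v ?_
      obtain ⟨d, rfl⟩ := exists_conj_b0 ha hfa
      have h1 : S.ι (d * b0 * d⁻¹) • v • S.p0 = v • S.p0 := by
        rw [← mul_smul, ← hva, mul_smul, S.ι_smul_p0]
      rw [map_mul, map_mul, map_inv, mul_smul, mul_smul, smul_eq_iff_eq_inv_smul] at h1
      have := hΓmem d _ (hfixΓ _ h1)
      rwa [smul_inv_smul] at this
  have hall : ∀ x, x ∈ Γ := by
    intro x
    obtain ⟨g, rfl⟩ := MulAction.exists_smul_eq G S.p0 x
    set v := g * S.ι z0 * g⁻¹ with hv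
    have hu := S.isConj_b involution_u0.1 involution_u0.2
    have hpres : ∀ y ∈ Γ, v • y ∈ Γ := by
      intro y hy
      rw [hv, show g * S.ι z0 * g⁻¹ = g * S.ι b0 * g⁻¹ * (g * S.ι u0 * g⁻¹) by
        rw [z0_eq, map_mul]; group, mul_smul]
      exact hbconj _ (isConj_iff.2 ⟨g, rfl⟩) _ (hbconj _ (hu.trans (isConj_iff.2 ⟨g, rfl⟩)) y hy)
    have hv2 : ∀ y : G ⧸ S.ι.range, v • v • y = y := fun y => by
      rw [← mul_smul, hv, show g * S.ι z0 * g⁻¹ * (g * S.ι z0 * g⁻¹) =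
        g * (S.ι z0 * S.ι z0) * g⁻¹ by group, ← map_mul,
        Involution.mul_self_eq_one involution_z0, map_one, mul_one, mul_inv_cancel, one_smul]
    let σ : Equiv.Perm Γ :=
      { toFun := fun y => ⟨v • y.1, hpres _ y.2⟩
        invFun := fun y => ⟨v • y.1, hpres _ y.2⟩
        left_inv := fun y => Subtype.ext (hv2 _)
        right_inv := fun y => Subtype.ext (hv2 _) }
    have := Fintype.ofFinite Γ
    have : Fact (Nat.Prime 2) := ⟨Nat.prime_two⟩
    obtain ⟨y, hy⟩ := Equiv.Perm.exists_fixed_point_of_prime (p := 2) (n := 1) (α := Γ) (σ := σ)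
      (by rw [← Nat.card_eq_fintype_card, Nat.card_coe_set_eq, hcardΓ]; omega)
      (Equiv.ext fun y => Subtype.ext (hv2 _))
    have hy' : v • y.1 = y.1 := congrArg Subtype.val hy
    have : g⁻¹ • y.1 = S.p0 := S.eq_p0_of_fix involution_z0 fpf_z0 (by
      have h := hy'
      rw [hv, mul_smul, mul_smul, smul_eq_iff_eq_inv_smul] at h
      exact h)
    rw [inv_smul_eq_iff] at this
    exact this ▸ y.2
  have hcardΩ : Nat.card (G ⧸ S.ι.range) = 9 := by
    rw [← Set.ncard_univ, ← hcardΓ]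
    congr
    exact (Set.eq_univ_of_forall hall).symm
  have hcardG : Nat.card G = 181440 := by
    rw [Subgroup.card_eq_card_quotient_mul_card_subgroup S.ι.range, hcardΩ,
      ← Nat.card_congr (MonoidHom.ofInjective S.inj).toEquiv, card_A8]
  let e9 : (G ⧸ S.ι.range) ≃ Fin 9 := Finite.equivFinOfCardEq hcardΩ
  let Φ : G →* Equiv.Perm (Fin 9) :=
    e9.permCongrHom.toMonoidHom.comp (MulAction.toPermHom G (G ⧸ S.ι.range))
  have hΦ : Function.Injective Φ := by
    rw [← MonoidHom.ker_eq_bot_iff, Subgroup.eq_bot_iff_forall]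
    intro g hg
    have hg' : MulAction.toPermHom G (G ⧸ S.ι.range) g = 1 :=
      e9.permCongrHom.map_eq_one_iff.1 hg
    have hfix' : ∀ x : G ⧸ S.ι.range, g • x = x := fun x => Equiv.congr_fun hg' x
    obtain ⟨a, rfl⟩ := (S.smul_p0_eq_iff g).1 (hfix' _)
    have : a = 1 := Subtype.ext (Equiv.ext fun i => (hffix a i).1 (hfix' _))
    rw [this, map_one]
  have hindex : Φ.range.index = 2 := by
    have h := Φ.range.index_mul_card
    rw [← Nat.card_congr (MonoidHom.ofInjective hΦ).toEquiv, hcardG, Nat.card_perm,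
      Nat.card_fin, show Nat.factorial 9 = 362880 by rfl] at h
    omega
  exact ⟨(MonoidHom.ofInjective hΦ).trans (MulEquiv.subgroupCongr
    (Equiv.Perm.eq_alternatingGroup_of_index_eq_two hindex))⟩

end

end Cfsg.Agent.Lib.S3344.AltNine

namespace Cfsg.Agent.Lib.S3344

open AltNine

/-- A subgroup isomorphic to the alternating group of degree 8 containing the centralizer of a
fixed-point-free involution, with the two classes of involutions not fused, is everything or the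
group is the alternating group of degree 9. -/
theorem eq_top_or_altNine {G : Type*} [Group G] [Finite G] (M : Subgroup G)
    (e : M ≃* alternatingGroup (Fin 8)) (z b : M)
    (hz : ((e z : alternatingGroup (Fin 8)) : Equiv.Perm (Fin 8)) =
      Equiv.swap 0 1 * Equiv.swap 2 3 * Equiv.swap 4 5 * Equiv.swap 6 7)
    (hb : ((e b : alternatingGroup (Fin 8)) : Equiv.Perm (Fin 8)) =
      Equiv.swap 0 1 * Equiv.swap 2 3)
    (hC : Subgroup.centralizer {(z : G)} ≤ M) (hne : ¬ IsConj (z : G) (b : G)) :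
    M = ⊤ ∨ Nonempty (G ≃* alternatingGroup (Fin 9)) := by
  have hze : e.symm z0 = z := e.symm_apply_eq.2 (Subtype.ext hz.symm)
  have hbe : e.symm b0 = b := e.symm_apply_eq.2 (Subtype.ext hb.symm)
  have hr : (M.subtype.comp e.symm.toMonoidHom).range = M := by
    rw [MonoidHom.range_comp, MonoidHom.range_eq_top.2 e.symm.surjective, ← MonoidHom.range_eq_map,
      Subgroup.range_subtype]
  let S : Setup G :=
    { ι := M.subtype.comp e.symm.toMonoidHom
      inj := fun a c h => e.symm.injective (Subtype.ext h)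
      cent := fun g hg => by
        rw [hr]
        refine hC (Subgroup.mem_centralizer_singleton_iff.2 ?_)
        rw [← hze]
        exact hg
      ne := by
        show ¬ IsConj ((e.symm z0 : M) : G) ((e.symm b0 : M) : G)
        rw [hze, hbe]; exact hne }
  by_cases h : S.C ≤ S.ι.range
  · exact Or.inl (hr.symm.trans (S.eq_top_of_C_le h))
  · exact Or.inr (S.nonempty_equiv h)

end Cfsg.Agent.Lib.S3344
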