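import Cfsg.Agent.Lib.S3344.AltNinePerm
import Cfsg.Agent.Lib.MTwelveInv.Four
import Cfsg.Agent.Lib.ZStar.Final
import Cfsg.Agent.Lib.Involution.Isolated

/-!
A group with a subgroup isomorphic to the alternating group of degree 8 that contains the
centralizer of a fixed-point-free involution: the centralizer of a double transposition.
-/

set_option autoImplicit false
set_option maxRecDepth 40000
set_option synthInstance.maxSize 2000

namespace Cfsg.Agent.Lib.S3344.AltNine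

open Cfsg.Agent.Lib

universe u

/-- The image of the alternating group contains the centralizer of `z0`, and the two classes of
its involutions do not fuse. -/
structure Setup (G : Type u) [Group G] where
  ι : A8 →* G
  inj : Function.Injective ι
  cent : ∀ g : G, g * ι z0 = ι z0 * g → g ∈ ι.range
  ne : ¬ IsConj (ι z0) (ι b0)

theorem card_centralizer {s : Set A8} (hb : b0 ∈ s) (P : Idx → Prop) [DecidablePred P]
    (hP : ∀ t, el t ∈ Subgroup.centralizer s ↔ P t) :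
    Nat.card (Subgroup.centralizer s) = (Finset.univ.filter P).card := by
  have hbij : Function.Bijective (fun t : {t : Idx // P t} =>
      (⟨el t, (hP _).2 t.2⟩ : Subgroup.centralizer s)) := by
    refine ⟨fun a b e => Subtype.ext (el_injective (congrArg Subtype.val e)), fun ⟨a, ha⟩ => ?_⟩
    obtain ⟨t, rfl⟩ := exists_el (Subgroup.mem_centralizer_iff.1 ha b0 hb).symm
    exact ⟨⟨t, (hP t).1 ha⟩, rfl⟩
  rw [← Nat.card_congr (Equiv.ofBijective _ hbij), Nat.card_eq_fintype_card, Fintype.card_subtype]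

/-- `C(b0, u0)`, a Sylow subgroup of `C(b0)`. -/
abbrev Tg : Subgroup A8 := Subgroup.centralizer {b0, u0}

/-- `C(b0, k0)`. -/
abbrev Xg : Subgroup A8 := Subgroup.centralizer {b0, k0}

/-- `C(b0, k0, u0)`, of order 16. -/
abbrev Sg : Subgroup A8 := Subgroup.centralizer {b0, k0, u0}

theorem mem_Tg {a : A8} : a ∈ Tg ↔ a * b0 = b0 * a ∧ a * u0 = u0 * a := by
  simp [Subgroup.mem_centralizer_iff, eq_comm]

theorem mem_Xg {a : A8} : a ∈ Xg ↔ a * b0 = b0 * a ∧ a * k0 = k0 * a := by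
  simp [Subgroup.mem_centralizer_iff, eq_comm]

theorem mem_Sg {a : A8} :
    a ∈ Sg ↔ a * b0 = b0 * a ∧ a * k0 = k0 * a ∧ a * u0 = u0 * a := by
  simp [Subgroup.mem_centralizer_iff, eq_comm]

theorem card_Dg : Nat.card (Subgroup.centralizer ({b0} : Set A8)) = 96 := by
  rw [card_centralizer (Set.mem_singleton _) (fun _ => True) fun t =>
    ⟨fun _ => trivial, fun _ => Subgroup.mem_centralizer_singleton_iff.2 (el_commute t)⟩]
  rw [Finset.filter_true_of_mem (fun _ _ => trivial), Finset.card_univ]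
  rfl

theorem card_Tg : Nat.card Tg = 32 := by
  rw [card_centralizer (by simp) (fun t => t.2.2.2.2.1 = 0) fun t => by
    rw [mem_Tg, el_comm_u0_iff]; exact ⟨fun h => h.2, fun h => ⟨el_commute t, h⟩⟩]
  decide +kernel

theorem card_Xg : Nat.card Xg = 48 := by
  rw [card_centralizer (by simp) (fun t => t.2.2.2.2.2 = 0) fun t => by
    rw [mem_Xg, el_comm_k0_iff]; exact ⟨fun h => h.2, fun h => ⟨el_commute t, h⟩⟩]
  decide +kernel

theorem card_Sg : Nat.card Sg = 16 := by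
  rw [card_centralizer (by simp) (fun t => t.2.2.2.2.1 = 0 ∧ t.2.2.2.2.2 = 0) fun t => by
    rw [mem_Sg, el_comm_u0_iff, el_comm_k0_iff]
    exact ⟨fun h => ⟨h.2.2, h.2.1⟩, fun h => ⟨el_commute t, h.2, h.1⟩⟩]
  decide +kernel

theorem isPGroup_Tg : IsPGroup 2 Tg := IsPGroup.of_card (n := 5) (by rw [card_Tg]; norm_num)

theorem isPGroup_Sg : IsPGroup 2 Sg := IsPGroup.of_card (n := 4) (by rw [card_Sg]; norm_num)

theorem z0_mem_Tg : z0 ∈ Tg := mem_Tg.2 (by decide +kernel)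

theorem bu_mem_Sg : b0 * u0 ∈ Sg := mem_Sg.2 (by decide +kernel)

/-- A 2-subgroup of `Y` containing a subgroup `P` of index 3. -/
theorem le_of_two_group {P Y Q : Subgroup A8} {n : ℕ} (hY : Nat.card Y = 3 * 2 ^ n)
    (hP : Nat.card P = 2 ^ n) (hPQ : P ≤ Q) (hQ : IsPGroup 2 Q) (hQY : Q ≤ Y) : Q ≤ P := by
  have : Fact (Nat.Prime 2) := ⟨Nat.prime_two⟩
  obtain ⟨m, hm⟩ := IsPGroup.iff_card.1 hQ
  have h := hm ▸ hY ▸ Subgroup.card_dvd_of_le hQY
  have hle : 2 ^ m ∣ 2 ^ n := (Nat.Coprime.pow_left _ (by norm_num)).dvd_of_dvd_mul_left h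
  exact (Subgroup.eq_of_le_of_card_ge hPQ (by
    rw [hm, hP]; exact Nat.le_of_dvd (by positivity) hle)).ge

section

variable {G : Type u} [Group G] (S : Setup G)

/-- Centralizer of the image of `b0`. -/
abbrev Setup.C : Subgroup G := Subgroup.centralizer {S.ι b0}

/-- Centralizer of the images of `b0` and `k0`. -/
abbrev Setup.X : Subgroup G := Subgroup.centralizer {S.ι b0, S.ι k0}

theorem Setup.mem_X {x : G} :
    x ∈ S.X ↔ x * S.ι b0 = S.ι b0 * x ∧ x * S.ι k0 = S.ι k0 * x := by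
  simp [Subgroup.mem_centralizer_iff, eq_comm]

theorem Setup.mem_C {x : G} : x ∈ S.C ↔ x * S.ι b0 = S.ι b0 * x :=
  Subgroup.mem_centralizer_singleton_iff

theorem Setup.ι_comm_iff {a x : A8} : S.ι a * S.ι x = S.ι x * S.ι a ↔ a * x = x * a := by
  rw [← map_mul, ← map_mul, S.inj.eq_iff]

theorem Setup.isConj_z {a : A8} (ha : orderOf a = 2) (hf : Fpf a) :
    IsConj (S.ι z0) (S.ι a) := by
  obtain ⟨c, rfl⟩ := exists_conj_z0 ha hf
  exact isConj_iff.2 ⟨S.ι c, by simp⟩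

theorem Setup.isConj_b {a : A8} (ha : orderOf a = 2) (hf : ¬ Fpf a) :
    IsConj (S.ι b0) (S.ι a) := by
  obtain ⟨c, rfl⟩ := exists_conj_b0 ha hf
  exact isConj_iff.2 ⟨S.ι c, by simp⟩

/-- Every element centralizing a fixed-point-free involution of the image lies in the image. -/
theorem Setup.mem_of_commute {a : A8} (ha : orderOf a = 2) (hf : Fpf a) {g : G}
    (hg : g * S.ι a = S.ι a * g) : g ∈ S.ι.range := by
  obtain ⟨c, rfl⟩ := exists_conj_z0 ha hf
  have h : (S.ι c)⁻¹ * g * S.ι c ∈ S.ι.range := by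
    refine S.cent _ ?_
    simp only [map_mul, map_inv] at hg
    calc (S.ι c)⁻¹ * g * S.ι c * S.ι z0
        = (S.ι c)⁻¹ * (g * (S.ι c * S.ι z0 * (S.ι c)⁻¹)) * S.ι c := by group
      _ = S.ι z0 * ((S.ι c)⁻¹ * g * S.ι c) := by rw [hg]; group
  have hc : S.ι c ∈ S.ι.range := ⟨c, rfl⟩
  simpa [mul_assoc] using mul_mem (mul_mem hc h) (inv_mem hc)

/-- The conjugates of `z0` in the image come from the image. -/
theorem Setup.mem_of_conj {a : A8} (ha : orderOf a = 2) (hf : Fpf a) {g : G}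
    (hg : g * S.ι a * g⁻¹ ∈ S.ι.range) : g ∈ S.ι.range := by
  obtain ⟨a', ha'⟩ := hg
  have ha2 : orderOf a' = 2 := by
    rw [← orderOf_injective S.ι S.inj, ha', Involution.orderOf_conj_eq,
      orderOf_injective S.ι S.inj, ha]
  have hc : IsConj (S.ι a) (S.ι a') := isConj_iff.2 ⟨g, ha'.symm⟩
  have hf' : Fpf a' := by
    by_contra hn
    exact S.ne (((S.isConj_z ha hf).trans hc).trans (S.isConj_b ha2 hn).symm)
  obtain ⟨c, hc⟩ := exists_conj_z0 ha2 hf'
  obtain ⟨d, hd⟩ := exists_conj_z0 ha hf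
  have h : (S.ι c)⁻¹ * g * S.ι d ∈ S.ι.range := by
    refine S.cent _ ?_
    rw [← hc, ← hd] at ha'
    simp only [map_mul, map_inv] at ha'
    calc (S.ι c)⁻¹ * g * S.ι d * S.ι z0
        = (S.ι c)⁻¹ * (g * (S.ι d * S.ι z0 * (S.ι d)⁻¹) * g⁻¹) * g * S.ι d := by group
      _ = S.ι z0 * ((S.ι c)⁻¹ * g * S.ι d) := by rw [← ha']; group
  have hm := mul_mem (mul_mem (S.ι.mem_range.2 ⟨c, rfl⟩) h) (inv_mem (S.ι.mem_range.2 ⟨d, rfl⟩))
  simpa [mul_assoc] using hm

/-- A 2-subgroup of the image, maximal inside `Z`, is a Sylow subgroup of `Z`. -/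
theorem Setup.sylow_of [Finite G] (Z : Subgroup G) (P : Subgroup A8) (hP : IsPGroup 2 P) {z : A8}
    (hz : z ∈ P) (hz2 : orderOf z = 2) (hzf : Fpf z) (hle : P.map S.ι ≤ Z)
    (hmax : ∀ Q : Subgroup A8, P ≤ Q → IsPGroup 2 Q → Q ≤ Z.comap S.ι → Q ≤ P) :
    ∃ Q : Sylow 2 Z, (Q : Subgroup Z) = (P.map S.ι).subgroupOf Z := by
  classical
  have : Fact (Nat.Prime 2) := ⟨Nat.prime_two⟩
  set R : Subgroup Z := (P.map S.ι).subgroupOf Z with hR
  have hRp : IsPGroup 2 R :=
    (hP.map S.ι).of_injective (Subgroup.subgroupOfEquivOfLe hle).toMonoidHom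
      (Subgroup.subgroupOfEquivOfLe hle).injective
  obtain ⟨Q, hQ⟩ := hRp.exists_le_sylow
  refine ⟨Q, ?_⟩
  by_contra hne
  have hlt : R.subgroupOf (Q : Subgroup Z) < ⊤ := lt_top_iff_ne_top.2 fun e =>
    hne (le_antisymm (Subgroup.subgroupOf_eq_top.1 e) hQ)
  have : Group.IsNilpotent (Q : Subgroup Z) := Q.2.isNilpotent
  obtain ⟨x, hxN, hx⟩ := SetLike.exists_of_lt (Group.normalizerCondition_of_isNilpotent _ hlt)
  have hzR : (⟨⟨S.ι z, hle (Subgroup.mem_map_of_mem S.ι hz)⟩,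
      hQ (show _ ∈ R from Subgroup.mem_subgroupOf.2 (Subgroup.mem_map_of_mem S.ι hz))⟩ :
      (Q : Subgroup Z)) ∈ R.subgroupOf (Q : Subgroup Z) :=
    Subgroup.mem_subgroupOf.2 (Subgroup.mem_subgroupOf.2 (Subgroup.mem_map_of_mem S.ι hz))
  have h1 := (Subgroup.mem_normalizer_iff.1 hxN _).1 hzR
  have hxr : ((x : Z) : G) ∈ S.ι.range := by
    refine S.mem_of_conj hz2 hzf ?_
    exact (Subgroup.map_le_range S.ι P) (Subgroup.mem_subgroupOf.1 (Subgroup.mem_subgroupOf.1 h1))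
  obtain ⟨a, ha⟩ := hxr
  let Q0 : Subgroup A8 := ((Q : Subgroup Z).map Z.subtype).comap S.ι
  have hPQ : P ≤ Q0 := fun p hp =>
    ⟨⟨S.ι p, hle (Subgroup.mem_map_of_mem S.ι hp)⟩,
      hQ (Subgroup.mem_subgroupOf.2 (Subgroup.mem_map_of_mem S.ι hp)), rfl⟩
  have hQ0 : IsPGroup 2 Q0 := (Q.2.map Z.subtype).comap_of_injective S.ι S.inj
  have hQZ : Q0 ≤ Z.comap S.ι := by
    rintro q ⟨y, -, hy⟩
    show S.ι q ∈ Z
    rw [← hy]
    exact y.2
  have haP : a ∈ P := hmax Q0 hPQ hQ0 hQZ ⟨(x : Z), x.2, ha.symm⟩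
  exact hx (Subgroup.mem_subgroupOf.2 (Subgroup.mem_subgroupOf.2 (ha ▸ Subgroup.mem_map_of_mem S.ι haP)))

theorem Setup.sylow_C [Finite G] :
    ∃ Q : Sylow 2 S.C, (Q : Subgroup S.C) = (Tg.map S.ι).subgroupOf S.C := by
  refine S.sylow_of S.C Tg isPGroup_Tg z0_mem_Tg
    (orderOf_eq_prime (by decide +kernel) (by decide +kernel)) (by decide +kernel) ?_ ?_
  · rintro _ ⟨a, ha, rfl⟩
    exact S.mem_C.2 (S.ι_comm_iff.2 (mem_Tg.1 ha).1)
  · intro Q hle hQ hQC
    refine le_of_two_group (Y := Subgroup.centralizer {b0}) (n := 5) (by rw [card_Dg]; norm_num)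
      (by rw [card_Tg]; norm_num) hle hQ fun a ha => ?_
    exact Subgroup.mem_centralizer_singleton_iff.2 (S.ι_comm_iff.1 (S.mem_C.1 (hQC ha)))

theorem Setup.sylow_X [Finite G] :
    ∃ Q : Sylow 2 S.X, (Q : Subgroup S.X) = (Sg.map S.ι).subgroupOf S.X := by
  refine S.sylow_of S.X Sg isPGroup_Sg bu_mem_Sg
    (orderOf_eq_prime (by decide +kernel) (by decide +kernel)) (by decide +kernel) ?_ ?_
  · rintro _ ⟨a, ha, rfl⟩
    exact S.mem_X.2 ⟨S.ι_comm_iff.2 (mem_Sg.1 ha).1, S.ι_comm_iff.2 (mem_Sg.1 ha).2.1⟩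
  · intro Q hle hQ hQC
    refine le_of_two_group (Y := Xg) (n := 4) (by rw [card_Xg]; norm_num)
      (by rw [card_Sg]; norm_num) hle hQ fun a ha => ?_
    have := S.mem_X.1 (hQC ha)
    exact mem_Xg.2 ⟨S.ι_comm_iff.1 this.1, S.ι_comm_iff.1 this.2⟩

/-- An element of the centralizer of `b0` fixes or moves `k0` to `k0 b0`. -/
theorem Setup.conj_k0 [Finite G] {g : G} (hg : g ∈ S.C) :
    g * S.ι k0 * g⁻¹ = S.ι k0 ∨ g * S.ι k0 * g⁻¹ = S.ι k0 * S.ι b0 := by
  classical
  have : Fact (Nat.Prime 2) := ⟨Nat.prime_two⟩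
  have hbC : S.ι b0 ∈ S.C := S.mem_C.2 rfl
  set bC : S.C := ⟨S.ι b0, hbC⟩ with hbdef
  have hbb : bC * bC = 1 := Subtype.ext (by
    show S.ι b0 * S.ι b0 = 1
    rw [← map_mul, show b0 * b0 = (1 : A8) by decide +kernel, map_one])
  set N : Subgroup S.C := Subgroup.zpowers bC with hNdef
  have hNn : N.Normal := ⟨fun n hn x => by
    obtain ⟨i, rfl⟩ := Subgroup.mem_zpowers_iff.1 hn
    have : Commute x bC := Subtype.ext (S.mem_C.1 x.2)
    rw [(this.zpow_right i).eq, mul_inv_cancel_right]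
    exact hn⟩
  have hN : ∀ x : S.C, x ∈ N → x = 1 ∨ x = bC := by
    intro x hx
    obtain ⟨i, rfl⟩ := Subgroup.mem_zpowers_iff.1 hx
    rcases Int.even_or_odd i with ⟨j, rfl⟩ | ⟨j, rfl⟩
    · left; rw [← two_mul, zpow_mul, zpow_two, hbb, one_zpow]
    · right; rw [zpow_add, zpow_mul, zpow_two, hbb, one_zpow, one_mul, zpow_one]
  let π := QuotientGroup.mk' N
  have hπ : ∀ x y : S.C, π x = π y ↔ ((x : G) = y ∨ (x : G) = y * S.ι b0) := by
    intro x y
    constructor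
    · intro e
      obtain h | h := hN (y⁻¹ * x) (QuotientGroup.eq.1 e.symm)
      · exact Or.inl (congrArg Subtype.val (inv_mul_eq_one.1 h).symm)
      · exact Or.inr (congrArg Subtype.val (inv_mul_eq_iff_eq_mul.1 h))
    · rintro (h | h)
      · rw [Subtype.ext h]
      · refine (QuotientGroup.eq.2 ?_).symm
        rw [show y⁻¹ * x = bC from inv_mul_eq_iff_eq_mul.2 (Subtype.ext h)]
        exact Subgroup.mem_zpowers bC
  have mC : ∀ a : A8, a * b0 = b0 * a → S.ι a ∈ S.C := fun a h => S.mem_C.2 (S.ι_comm_iff.2 h)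
  set kC : S.C := ⟨S.ι k0, mC k0 (by decide +kernel)⟩ with hkdef
  obtain ⟨Q, hQ⟩ := S.sylow_C
  have hmemQ : ∀ x : S.C, x ∈ (Q : Subgroup S.C) ↔ ∃ a ∈ Tg, S.ι a = (x : G) := fun x => by
    rw [hQ, Subgroup.mem_subgroupOf]; rfl
  set Qb : Sylow 2 (S.C ⧸ N) := Q.mapSurjective (QuotientGroup.mk'_surjective N) with hQb
  have hQbm : ∀ x, x ∈ Qb ↔ ∃ y ∈ (Q : Subgroup S.C), π y = x := fun x => Iff.rfl
  have hzC : S.ι z0 ∈ S.C := mC z0 (by decide +kernel)
  have hku : orderOf (π kC) = 2 := by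
    refine orderOf_eq_prime ?_ ?_
    · rw [← map_pow, show kC ^ 2 = 1 from Subtype.ext (by
        show S.ι k0 ^ 2 = 1
        rw [← map_pow, show k0 ^ 2 = (1 : A8) by decide +kernel, map_one]), map_one]
    · intro e
      rcases (hπ kC 1).1 (e.trans (map_one π).symm) with h | h
      · rw [OneMemClass.coe_one, ← map_one S.ι] at h
        exact absurd (S.inj h) (by decide +kernel)
      · rw [OneMemClass.coe_one, one_mul] at h
        exact absurd (S.inj h) (by decide +kernel)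
  -- the centralizer of the image of `k0` has the same Sylow subgroup
  set Ck : Subgroup (S.C ⧸ N) := Subgroup.centralizer {π kC} with hCk
  have hQCk : (Qb : Subgroup (S.C ⧸ N)) ≤ Ck := by
    intro x hx
    obtain ⟨y, hy, rfl⟩ := (hQbm x).1 hx
    obtain ⟨a, haT, ha⟩ := (hmemQ y).1 hy
    refine Subgroup.mem_centralizer_singleton_iff.2 ?_
    rw [← map_mul, ← map_mul, hπ]
    obtain ⟨t, rfl⟩ := exists_el (mem_Tg.1 haT).1
    show (y : G) * S.ι k0 = S.ι k0 * y ∨ (y : G) * S.ι k0 = S.ι k0 * y * S.ι b0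
    rw [← ha]
    rcases el_conj_k0 t with e | e
    · left; rw [← map_mul, ← map_mul, mul_inv_eq_iff_eq_mul.1 e]
    · right
      rw [← map_mul, ← map_mul, ← map_mul, mul_inv_eq_iff_eq_mul.1 e, mul_assoc, mul_assoc,
        el_commute t]
  have hiso : ∀ x : S.C ⧸ N, x * π kC * x⁻¹ ∈ Qb → x * π kC * x⁻¹ = π kC := by
    intro x hx
    obtain ⟨x, rfl⟩ := QuotientGroup.mk'_surjective N x
    obtain ⟨y, hy, hyx⟩ := (hQbm _).1 hx
    obtain ⟨a, haT, ha⟩ := (hmemQ y).1 hy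
    set zC : S.C := ⟨S.ι z0, hzC⟩
    have hcom : Commute y zC := Subtype.ext (by
      show (y : G) * S.ι z0 = S.ι z0 * y
      rw [← ha, S.ι_comm_iff]
      have := mem_Tg.1 haT
      rw [z0_eq, ← mul_assoc, this.1, mul_assoc, this.2, ← mul_assoc])
    set w := (π x)⁻¹ * π zC * π x with hw
    have hwk : w * π kC = π kC * w := by
      have h1 := (hcom.map π).eq
      rw [hyx] at h1
      calc w * π kC = (π x)⁻¹ * (π zC * (π x * π kC * (π x)⁻¹)) * π x := by rw [hw]; group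
        _ = (π x)⁻¹ * ((π x * π kC * (π x)⁻¹) * π zC) * π x := by
              rw [show π x * π kC * (π x)⁻¹ * π zC = π zC * (π x * π kC * (π x)⁻¹) from h1]
        _ = π kC * w := by rw [hw]; group
    have hw2 : w * w = 1 := by
      have hz2 : zC * zC = 1 := Subtype.ext (by
        show S.ι z0 * S.ι z0 = 1
        rw [← map_mul, show z0 * z0 = (1 : A8) by decide +kernel, map_one])
      calc w * w = (π x)⁻¹ * π (zC * zC) * π x := by rw [hw, map_mul]; group
        _ = 1 := by rw [hz2, map_one]; group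
    set wk : Ck := ⟨w, Subgroup.mem_centralizer_singleton_iff.2 hwk⟩
    have hwp : IsPGroup 2 (Subgroup.zpowers wk) := by
      rintro ⟨v, hv⟩
      refine ⟨1, Subtype.ext ?_⟩
      obtain ⟨i, rfl⟩ := Subgroup.mem_zpowers_iff.1 hv
      show (wk ^ i) ^ (2 ^ 1) = 1
      rw [pow_one, ← zpow_natCast, ← zpow_mul, mul_comm, zpow_mul, zpow_natCast, pow_two,
        show wk * wk = 1 from Subtype.ext hw2, one_zpow]
    obtain ⟨R, hR⟩ := hwp.exists_le_sylow
    obtain ⟨h, hh⟩ := MulAction.exists_smul_eq Ck R (Qb.subtype hQCk)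
    have hmem : h * wk * h⁻¹ ∈ (Qb.subtype hQCk : Subgroup Ck) := by
      rw [← hh]
      exact Subgroup.mem_map.2 ⟨wk, hR (Subgroup.mem_zpowers wk), rfl⟩
    have hmem' : ((h * wk * h⁻¹ : Ck) : S.C ⧸ N) ∈ Qb := hmem
    obtain ⟨h', hh'⟩ := QuotientGroup.mk'_surjective N (h : S.C ⧸ N)
    obtain ⟨y', hy', hyy⟩ := (hQbm _).1 hmem'
    have hyy' : π y' = π (h' * x⁻¹ * zC * (h' * x⁻¹)⁻¹) := by
      rw [hyy, Subgroup.coe_mul, Subgroup.coe_mul, Subgroup.coe_inv, ← hh']
      show π h' * w * (π h')⁻¹ = _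
      rw [hw, map_mul, map_mul, map_inv, map_mul, map_inv]
      group
    obtain ⟨a', ha'T, ha'⟩ := (hmemQ y').1 hy'
    have hr : ((h' * x⁻¹ : S.C) : G) ∈ S.ι.range := by
      refine S.mem_of_conj (orderOf_eq_prime (by decide +kernel) (by decide +kernel))
        (show Fpf z0 by decide +kernel) ?_
      rcases (hπ _ _).1 hyy'.symm with e | e
      · exact ⟨a', ha'.trans e.symm⟩
      · exact ⟨a' * b0, by rw [map_mul, ha']; exact e.symm⟩
    obtain ⟨a'', ha''⟩ := hr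
    obtain ⟨t, rfl⟩ := exists_el (a := a'') (S.ι_comm_iff.1 (by
      rw [ha'']; exact S.mem_C.1 (h' * x⁻¹).2))
    have hk : π (h' * x⁻¹) * π kC = π kC * π (h' * x⁻¹) := by
      rw [← map_mul, ← map_mul, hπ]
      show ((h' * x⁻¹ : S.C) : G) * S.ι k0 = S.ι k0 * ((h' * x⁻¹ : S.C) : G) ∨
        ((h' * x⁻¹ : S.C) : G) * S.ι k0 = S.ι k0 * ((h' * x⁻¹ : S.C) : G) * S.ι b0
      rw [← ha'']
      rcases el_conj_k0 t with e | e
      · left; rw [← map_mul, ← map_mul, mul_inv_eq_iff_eq_mul.1 e]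
      · right
        rw [← map_mul, ← map_mul, ← map_mul, mul_inv_eq_iff_eq_mul.1 e, mul_assoc, mul_assoc,
          el_commute t]
    have hh2 : π h' * π kC = π kC * π h' := by
      rw [hh']; exact Subgroup.mem_centralizer_singleton_iff.1 h.2
    have hx' : π x = (π (h' * x⁻¹))⁻¹ * π h' := by rw [map_mul, map_inv]; group
    show π x * π kC * (π x)⁻¹ = π kC
    rw [mul_inv_eq_iff_eq_mul, hx']
    calc (π (h' * x⁻¹))⁻¹ * π h' * π kC = (π (h' * x⁻¹))⁻¹ * (π h' * π kC) := by group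
      _ = (π (h' * x⁻¹))⁻¹ * π kC * π (h' * x⁻¹) * ((π (h' * x⁻¹))⁻¹ * π h') := by
            rw [hh2]; group
      _ = π kC * ((π (h' * x⁻¹))⁻¹ * π h') := by
            rw [mul_assoc (π (h' * x⁻¹))⁻¹ (π kC), ← hk]; group
  have hkQ : π kC ∈ Qb := (hQbm _).2 ⟨kC, (hmemQ _).2 ⟨k0, mem_Tg.2 (by decide +kernel), rfl⟩, rfl⟩
  have hisoI : Cfsg.IsIsolatedInvolution (π kC) := ⟨hku, fun a ha =>
    (Involution.eq_of_isolated_of_commute Qb hku hiso (IsConj.refl _)
      (isConj_iff.2 ⟨a, rfl⟩) ha).symm⟩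
  set x0 : S.C := ⟨g, hg⟩ with hx0
  set O : Subgroup (S.C ⧸ N) := Cfsg.oddCore _ with hO
  have hn : π kC * π x0 * (π kC)⁻¹ * (π x0)⁻¹ ∈ O := ZStar.zStar _ _ hisoI (π x0)
  have hOodd : Odd (Nat.card O) := Nat.coprime_two_right.1 PSolvable.pPrimeCore_coprime
  have hfix : ∀ (a : A8) (hab : a * b0 = b0 * a), orderOf a = 2 → (Fpf a ∨ Fpf (a * b0)) →
      orderOf (a * b0) = 2 →
      (∀ t, (el t * a * (el t)⁻¹ = a ∨ el t * a * (el t)⁻¹ = a * b0) → el t * u0 = u0 * el t) →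
      ∀ n ∈ O, π ⟨S.ι a, mC a hab⟩ * n = n * π ⟨S.ι a, mC a hab⟩ → n = 1 := by
    intro a hab ha hf hab2 hT n hn hcomm
    obtain ⟨y, rfl⟩ := QuotientGroup.mk'_surjective N n
    have hcase : (y : G) * S.ι a * (y : G)⁻¹ = S.ι a ∨
        (y : G) * S.ι a * (y : G)⁻¹ = S.ι (a * b0) := by
      rcases (hπ (y * ⟨S.ι a, mC a hab⟩) (⟨S.ι a, mC a hab⟩ * y)).1
        (by rw [map_mul, map_mul]; exact hcomm.symm) with e | e
      · left; rw [mul_inv_eq_iff_eq_mul]; exact e
      · right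
        have e' : (y : G) * S.ι a = S.ι a * (y : G) * S.ι b0 := e
        rw [mul_inv_eq_iff_eq_mul, map_mul, e', mul_assoc, mul_assoc, S.mem_C.1 y.2]
    have hyM : (y : G) ∈ S.ι.range := by
      rcases hf with hf | hf
      · refine S.mem_of_conj ha hf ?_
        rcases hcase with e | e <;> exact ⟨_, e.symm⟩
      · refine S.mem_of_conj hab2 hf ?_
        have hconj : (y : G) * S.ι (a * b0) * (y : G)⁻¹ =
            (y : G) * S.ι a * (y : G)⁻¹ * S.ι b0 := by
          rw [map_mul]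
          calc (y : G) * (S.ι a * S.ι b0) * (y : G)⁻¹
              = (y : G) * S.ι a * (y : G)⁻¹ * ((y : G) * S.ι b0 * (y : G)⁻¹) := by group
            _ = _ := by rw [show (y : G) * S.ι b0 * (y : G)⁻¹ = S.ι b0 from
                  mul_inv_eq_iff_eq_mul.2 (S.mem_C.1 y.2)]
        rw [hconj]
        rcases hcase with e | e <;> rw [e]
        · exact ⟨a * b0, by rw [map_mul]⟩
        · exact ⟨a * b0 * b0, by rw [map_mul (f := S.ι) (a * b0)]⟩
    obtain ⟨c, hc⟩ := hyM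
    obtain ⟨t, rfl⟩ := exists_el (a := c) (S.ι_comm_iff.1 (by rw [hc]; exact S.mem_C.1 y.2))
    have ht : el t * u0 = u0 * el t := hT t (by
      rw [← hc] at hcase
      rcases hcase with e | e <;> [left; right] <;>
        exact S.inj (by simpa only [map_mul, map_inv] using e))
    have hyQ : π y ∈ Qb := (hQbm _).2 ⟨y, (hmemQ _).2 ⟨el t, mem_Tg.2 ⟨el_commute t, ht⟩, hc⟩, rfl⟩
    obtain ⟨m, hm⟩ := IsPGroup.iff_orderOf.1 Qb.2 ⟨π y, hyQ⟩
    rw [Subgroup.orderOf_mk] at hm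
    have hd : Odd (orderOf (π y)) := hOodd.of_dvd_nat (Subgroup.orderOf_dvd_natCard _ hn)
    rw [hm] at hd
    rcases Nat.eq_zero_or_pos m with rfl | hm0
    · rw [pow_zero] at hm; exact orderOf_eq_one_iff.1 hm
    · exact absurd ((Nat.even_pow.2 ⟨by decide, by omega⟩ : Even (2 ^ m))) (Nat.not_even_iff_odd.2 hd)
  have hinv : ∀ f : S.C ⧸ N, f * f = 1 → (∀ n ∈ O, f * n = n * f → n = 1) →
      ∀ n ∈ O, f * n * f⁻¹ = n⁻¹ := by
    intro f hf hfix n hn
    let φ : ↥O →* ↥O :=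
      { toFun := fun x => ⟨f * x * f⁻¹, (inferInstance : O.Normal).conj_mem x x.2 f⟩
        map_one' := Subtype.ext (by simp)
        map_mul' := fun x y => Subtype.ext (by simp only [Subgroup.coe_mul]; group) }
    have hφ : MonoidHom.FixedPointFree φ := fun x hx =>
      Subtype.ext (hfix x x.2 (mul_inv_eq_iff_eq_mul.1 (congrArg Subtype.val hx)))
    have h2 : Function.Involutive φ := fun x => Subtype.ext (by
      show f * (f * x * f⁻¹) * f⁻¹ = x
      rw [Involution.inv_eq_self hf]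
      calc f * (f * x * f) * f = (f * f) * x * (f * f) := by group
        _ = x := by rw [hf, one_mul, mul_one])
    exact congrArg Subtype.val (congrFun (hφ.coe_eq_inv_of_involutive h2) ⟨n, hn⟩)
  have hsq : ∀ (a : A8) (hab : a * b0 = b0 * a), a * a = 1 →
      π ⟨S.ι a, mC a hab⟩ * π ⟨S.ι a, mC a hab⟩ = 1 := by
    intro a hab ha
    rw [← map_mul, show (⟨S.ι a, mC a hab⟩ * ⟨S.ι a, mC a hab⟩ : S.C) = 1 from Subtype.ext (by
      show S.ι a * S.ι a = 1
      rw [← map_mul, ha, map_one]), map_one]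
  set n0 := π kC * π x0 * (π kC)⁻¹ * (π x0)⁻¹ with hn0
  have hu := hinv _ (hsq u0 (by decide +kernel) (by decide +kernel))
    (hfix u0 (by decide +kernel) (orderOf_eq_prime (by decide +kernel) (by decide +kernel))
      (Or.inr (by decide +kernel)) (orderOf_eq_prime (by decide +kernel) (by decide +kernel))
      el_conj_u0) n0 hn
  have hku' := hinv _ (hsq (k0 * u0) (by decide +kernel) (by decide +kernel))
    (hfix (k0 * u0) (by decide +kernel) (orderOf_eq_prime (by decide +kernel) (by decide +kernel))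
      (Or.inl (by decide +kernel)) (orderOf_eq_prime (by decide +kernel) (by decide +kernel))
      el_conj_ku) n0 hn
  have hk0 : π kC * n0 * (π kC)⁻¹ = n0 := by
    set U := π (⟨S.ι u0, mC u0 (by decide +kernel)⟩ : S.C)
    set KU := π (⟨S.ι (k0 * u0), mC (k0 * u0) (by decide +kernel)⟩ : S.C)
    have hkeq : π kC = KU * U := by
      rw [← map_mul]
      refine congrArg π (Subtype.ext ?_)
      show S.ι k0 = S.ι (k0 * u0) * S.ι u0
      rw [← map_mul]
      exact congrArg S.ι (by decide +kernel)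
    rw [hkeq]
    calc KU * U * n0 * (KU * U)⁻¹ = KU * (U * n0 * U⁻¹) * KU⁻¹ := by group
      _ = KU * n0⁻¹ * KU⁻¹ := by rw [hu]
      _ = (KU * n0 * KU⁻¹)⁻¹ := by group
      _ = n0 := by rw [hku', inv_inv]
  have hkk : π kC * π kC = 1 := by
    rw [← pow_two, ← hku, pow_orderOf_eq_one]
  have hn1 : n0 = 1 := by
    have hkinv : (π kC)⁻¹ = π kC := Involution.inv_eq_self hkk
    set c := π x0 * π kC * (π x0)⁻¹ with hc
    have hn0' : n0 = π kC * c := by rw [hn0, hc, hkinv]; group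
    have hc2 : c * c = 1 := by
      rw [hc]
      calc π x0 * π kC * (π x0)⁻¹ * (π x0 * π kC * (π x0)⁻¹)
          = π x0 * (π kC * π kC) * (π x0)⁻¹ := by group
        _ = 1 := by rw [hkk]; group
    have hcomm : c * π kC = π kC * c := by
      have := hk0
      rw [hn0', hkinv] at this
      calc c * π kC = π kC * π kC * (c * π kC) := by rw [hkk, one_mul]
        _ = π kC * c := by rw [← this]; group
    have h2 : n0 ^ 2 = 1 := by
      rw [hn0', pow_two]
      calc π kC * c * (π kC * c) = π kC * (c * π kC) * c := by group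
        _ = (π kC * π kC) * (c * c) := by rw [hcomm]; group
        _ = 1 := by rw [hkk, hc2, one_mul]
    have hd : Odd (orderOf n0) := hOodd.of_dvd_nat (Subgroup.orderOf_dvd_natCard _ hn)
    rcases (Nat.dvd_prime Nat.prime_two).1 (orderOf_dvd_of_pow_eq_one h2) with e | e
    · exact orderOf_eq_one_iff.1 e
    · rw [e] at hd; exact absurd hd (by decide)
  have hfin : π (x0 * kC * x0⁻¹) = π kC := by
    rw [map_mul, map_mul, map_inv]
    have h1 : π kC * π x0 * (π kC)⁻¹ = π x0 := mul_inv_eq_one.1 hn1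
    rw [mul_inv_eq_iff_eq_mul]
    rw [mul_inv_eq_iff_eq_mul] at h1
    exact h1.symm
  exact (hπ _ _).1 hfin

end

theorem vel_mul : ∀ p q p' q', vel p q * vel p' q' = vel (p + p') (q + q') := by decide +kernel

theorem vel_zero : vel 0 0 = 1 := by decide +kernel

/-- `<u0, w0>`. -/
def Vg : Subgroup A8 where
  carrier := {a | ∃ p q, vel p q = a}
  one_mem' := ⟨0, 0, vel_zero⟩
  mul_mem' := by rintro _ _ ⟨p, q, rfl⟩ ⟨p', q', rfl⟩; exact ⟨_, _, (vel_mul p q p' q').symm⟩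
  inv_mem' := by
    rintro _ ⟨p, q, rfl⟩
    refine ⟨p, q, (inv_eq_of_mul_eq_one_left ?_).symm⟩
    revert p q
    decide +kernel

theorem mem_Vg {a : A8} : a ∈ Vg ↔ ∃ p q, vel p q = a := Iff.rfl

theorem card_Vg : Nat.card Vg = 4 := by
  have hi : ∀ a b : Fin 2 × Fin 2, vel a.1 a.2 = vel b.1 b.2 → a = b := by decide +kernel
  have hbij : Function.Bijective (fun t : Fin 2 × Fin 2 => (⟨vel t.1 t.2, _, _, rfl⟩ : Vg)) :=
    ⟨fun a b e => hi a b (congrArg Subtype.val e), fun ⟨_, p, q, rfl⟩ => ⟨(p, q), rfl⟩⟩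
  rw [← Nat.card_congr (Equiv.ofBijective _ hbij)]
  simp

theorem vel_mem_Sg : ∀ p q, vel p q ∈ Sg := fun p q => mem_Sg.2 (by revert p q; decide +kernel)

theorem s0_mem_Xg : s0 ∈ Xg := mem_Xg.2 (by decide +kernel)

/-- The image of the letter `0`, as a pair. -/
def quad (a : A8) : Fin 2 × Fin 2 :=
  (if ((a : Equiv.Perm (Fin 8)) 0).val < 2 then 0 else 1,
    if ((a : Equiv.Perm (Fin 8)) 0).val % 2 = 0 then 0 else 1)

theorem quad_el : ∀ a c p q, quad (el (a, c, p, q, 0, 0)) = (a, c) := by decide +kernel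

theorem quad_mul : ∀ a c p q a' c' p' q',
    quad (el (a, c, p, q, 0, 0) * el (a', c', p', q', 0, 0)) = (a + a', c + c') := by decide +kernel

theorem el_central : ∀ a c, el (a, c, 0, 0, 0, 0) = k0 ^ (a : ℕ) * b0 ^ (c : ℕ) ∧
    el (a, c, 0, 0, 0, 0) * el (a, c, 0, 0, 0, 0) = 1 := by decide +kernel

theorem el_quad_zero : ∀ p q, el (0, 0, p, q, 0, 0) = vel p q := by decide +kernel

theorem exists_el_S {a : A8} (h : a ∈ Sg) : ∃ i c p q, el (i, c, p, q, 0, 0) = a := by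
  obtain ⟨hb, hk, hu⟩ := mem_Sg.1 h
  obtain ⟨⟨i, c, p, q, r, e⟩, rfl⟩ := exists_el hb
  exact ⟨i, c, p, q, by
    rw [show r = 0 from (el_comm_u0_iff _).1 hu, show e = 0 from (el_comm_k0_iff _).1 hk]⟩

section

variable {G : Type u} [Group G] (S : Setup G)

/-- The centralizer of the images of `b0` and `k0` has order at most 240. -/
theorem Setup.card_X [Finite G] : Nat.card S.X ≤ 240 := by
  classical
  have : Fact (Nat.Prime 2) := ⟨Nat.prime_two⟩
  have hXmem : ∀ a : A8, a ∈ Xg → S.ι a ∈ S.X := fun a ha =>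
    S.mem_X.2 ⟨S.ι_comm_iff.2 (mem_Xg.1 ha).1, S.ι_comm_iff.2 (mem_Xg.1 ha).2⟩
  have hSX : Sg ≤ Xg := fun a ha => mem_Xg.2 ⟨(mem_Sg.1 ha).1, (mem_Sg.1 ha).2.1⟩
  obtain ⟨Q, hQ⟩ := S.sylow_X
  set S' : Subgroup S.X := (Sg.map S.ι).subgroupOf S.X with hS'def
  have hle : Sg.map S.ι ≤ S.X := by
    rintro _ ⟨a, ha, rfl⟩
    exact hXmem a (hSX ha)
  have hcS : Nat.card S' = 16 := by
    rw [hS'def, Nat.card_congr (Subgroup.subgroupOfEquivOfLe hle).toEquiv,
      ← Nat.card_congr (Sg.equivMapOfInjective S.ι S.inj).toEquiv, card_Sg]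
  have hodd : Odd S'.index := by
    rw [← Nat.not_even_iff_odd, even_iff_two_dvd, ← hQ]
    exact Q.not_dvd_index
  have hrep : ∀ x : S', ∃ i c p q, S.ι (el (i, c, p, q, 0, 0)) = ((x : S.X) : G) := by
    rintro ⟨x, hx⟩
    obtain ⟨a, ha, hax⟩ := Subgroup.mem_subgroupOf.1 hx
    obtain ⟨i, c, p, q, rfl⟩ := exists_el_S ha
    exact ⟨i, c, p, q, hax⟩
  have hinv : ∀ a, Function.invFun S.ι (S.ι a) = a := Function.leftInverse_invFun S.inj
  let ψ : S' →* Multiplicative (Fin 2 × Fin 2) :=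
    MonoidHom.mk' (fun x => Multiplicative.ofAdd (quad (Function.invFun S.ι ((x : S.X) : G))))
      (fun x y => by
        obtain ⟨i, c, p, q, hx⟩ := hrep x
        obtain ⟨i', c', p', q', hy⟩ := hrep y
        show Multiplicative.ofAdd (quad (Function.invFun S.ι (((x : S.X) : G) * ((y : S.X) : G)))) = _
        rw [← hx, ← hy, ← map_mul, hinv, hinv, hinv, quad_mul, quad_el, quad_el]
        rfl)
  let τ : S.X →* Multiplicative (Fin 2 × Fin 2) := MonoidHom.transfer ψ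
  -- on `<b0, k0>` the transfer is the identity
  have hK : ∀ i c, ∀ x : S.X, S.ι (el (i, c, 0, 0, 0, 0)) = (x : G) →
      τ x = Multiplicative.ofAdd (i, c) := by
    intro i c x hx
    have hx2 : x * x = 1 := Subtype.ext (by
      show (x : G) * (x : G) = 1
      rw [← hx, ← map_mul, (el_central i c).2, map_one])
    have hpow : x ^ S'.index = x := by
      obtain ⟨j, hj⟩ := hodd
      rw [hj, pow_succ, pow_mul, pow_two, hx2, one_pow, one_mul]
    have hcen : ∀ y : S.X, y * x = x * y := fun y => Subtype.ext (by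
      show (y : G) * (x : G) = (x : G) * (y : G)
      obtain ⟨h1, h2⟩ := S.mem_X.1 y.2
      rw [← hx, (el_central i c).1, map_mul, map_pow, map_pow]
      exact (((show Commute (y : G) (S.ι k0) from h2).pow_right _).mul_right
        ((show Commute (y : G) (S.ι b0) from h1).pow_right _)).eq)
    have key : ∀ (k : ℕ) (y : S.X), y⁻¹ * x ^ k * y ∈ S' → y⁻¹ * x ^ k * y = x ^ k := fun k y _ =>
      by rw [mul_assoc, ((show Commute y x from hcen y).pow_right k).symm.eq, inv_mul_cancel_left]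
    show MonoidHom.transfer ψ x = _
    rw [MonoidHom.transfer_eq_pow ψ x key]
    show Multiplicative.ofAdd (quad (Function.invFun S.ι ((x ^ S'.index : S.X) : G))) = _
    rw [hpow, ← hx, hinv, quad_el]
  have hV : ∀ p q, ∀ x : S.X, S.ι (vel p q) = (x : G) → τ x = 1 := by
    intro p q x hx
    obtain ⟨p', q', he⟩ := vel_commutator p q
    let v : S.X := ⟨S.ι (vel p' q'), hXmem _ (hSX (vel_mem_Sg p' q'))⟩
    let s : S.X := ⟨S.ι s0, hXmem _ s0_mem_Xg⟩
    have : x = v * s * v⁻¹ * s⁻¹ := Subtype.ext (by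
      show (x : G) = S.ι (vel p' q') * S.ι s0 * (S.ι (vel p' q'))⁻¹ * (S.ι s0)⁻¹
      rw [← hx, he, map_mul, map_mul, map_mul, map_inv, map_inv])
    rw [this, map_mul, map_mul, map_mul, map_inv, map_inv, mul_inv_eq_one, mul_inv_cancel_comm]
  set L : Subgroup S.X := τ.ker with hLdef
  have hindex : L.index = 4 := by
    have hs : Function.Surjective τ := fun m =>
      ⟨⟨S.ι (el ((Multiplicative.toAdd m).1, (Multiplicative.toAdd m).2, 0, 0, 0, 0)),
        hle (Subgroup.mem_map_of_mem S.ι (mem_Sg.2 ⟨el_commute _,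
          (el_comm_k0_iff _).2 rfl, (el_comm_u0_iff _).2 rfl⟩))⟩, hK _ _ _ rfl⟩
    rw [hLdef, Subgroup.index_ker, MonoidHom.range_eq_top.2 hs, Subgroup.card_top]
    simp
  set V : Subgroup L := ((Vg.map S.ι).subgroupOf S.X).subgroupOf L with hVdef
  have hleV : Vg.map S.ι ≤ S.X := by
    rintro _ ⟨a, ⟨p, q, rfl⟩, rfl⟩
    exact hXmem _ (hSX (vel_mem_Sg p q))
  have hleV' : (Vg.map S.ι).subgroupOf S.X ≤ L := by
    intro x hx
    obtain ⟨a, ⟨p, q, rfl⟩, hax⟩ := Subgroup.mem_subgroupOf.1 hx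
    exact hV p q x hax
  have hcV : Nat.card V = 4 := by
    rw [hVdef, Nat.card_congr (Subgroup.subgroupOfEquivOfLe hleV').toEquiv,
      Nat.card_congr (Subgroup.subgroupOfEquivOfLe hleV).toEquiv,
      ← Nat.card_congr (Vg.equivMapOfInjective S.ι S.inj).toEquiv, card_Vg]
  have hVodd : Odd V.index := by
    have h1 := L.index_mul_card
    have h2 := S'.index_mul_card
    have h3 := V.index_mul_card
    rw [hindex] at h1
    rw [hcS] at h2
    rw [hcV] at h3
    rwa [show V.index = S'.index by omega]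
  have hmemV : ∀ x : L, x ∈ V ↔ ∃ p q, S.ι (vel p q) = ((x : S.X) : G) := fun x => by
    rw [hVdef, Subgroup.mem_subgroupOf, Subgroup.mem_subgroupOf, Subgroup.mem_map]
    exact ⟨fun ⟨_, ⟨p, q, h⟩, e⟩ => ⟨p, q, by rw [h]; exact e⟩,
      fun ⟨p, q, e⟩ => ⟨_, ⟨p, q, rfl⟩, e⟩⟩
  have hexp : ∀ x ∈ V, x * x = 1 := by
    intro x hx
    obtain ⟨p, q, hx⟩ := (hmemV x).1 hx
    refine Subtype.ext (Subtype.ext ?_)
    show ((x : S.X) : G) * ((x : S.X) : G) = 1
    rw [← hx, ← map_mul, vel_mul, show p + p = 0 by fin_cases p <;> rfl,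
      show q + q = 0 by fin_cases q <;> rfl, vel_zero, map_one]
  have hW : ∀ v ∈ V, v ≠ 1 → Subgroup.centralizer ({v} : Set L) = V := by
    intro v hv hv1
    obtain ⟨p, q, hv⟩ := (hmemV v).1 hv
    have hne : p ≠ 0 ∨ q ≠ 0 := by
      by_contra hc
      push Not at hc
      rw [hc.1, hc.2, vel_zero, map_one] at hv
      exact hv1 (Subtype.ext (Subtype.ext hv.symm))
    refine le_antisymm (fun x hx => ?_) (fun x hx => ?_)
    · have hc : ((x : S.X) : G) * S.ι (vel p q) = S.ι (vel p q) * ((x : S.X) : G) := by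
        rw [hv]
        exact congrArg (fun y : L => ((y : S.X) : G)) (Subgroup.mem_centralizer_singleton_iff.1 hx)
      obtain ⟨hb, hk⟩ := S.mem_X.1 (x : S.X).2
      obtain ⟨-, hfp, hord⟩ := vel_not_fpf p q hne
      obtain ⟨a, ha⟩ : ((x : S.X) : G) ∈ S.ι.range := S.mem_of_commute hord hfp (by
        rw [map_mul]
        exact (show Commute ((x : S.X) : G) (S.ι b0) from hb).mul_right hc)
      rw [← ha, S.ι_comm_iff] at hc hb hk
      obtain ⟨t, rfl⟩ := exists_el hb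
      obtain ⟨hu, -⟩ := el_comm_vel t p q hk hne hc
      obtain ⟨i, c, p', q', rfl⟩ : ∃ i c p' q', t = (i, c, p', q', (0 : Fin 3), (0 : Fin 2)) := by
        obtain ⟨i, c, p', q', r, e⟩ := t
        exact ⟨i, c, p', q', by
          rw [show r = 0 from (el_comm_u0_iff _).1 hu, show e = 0 from (el_comm_k0_iff _).1 hk]⟩
      have hτ : τ (x : S.X) = 1 := x.2
      obtain ⟨hk1, hk2⟩ : i = 0 ∧ c = 0 := by
        have hy : S.ι (el (i, c, 0, 0, 0, 0)) ∈ S.X := hle (Subgroup.mem_map_of_mem S.ι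
          (mem_Sg.2 ⟨el_commute _, (el_comm_k0_iff _).2 rfl, (el_comm_u0_iff _).2 rfl⟩))
        let y : S.X := ⟨_, hy⟩
        let w : S.X := ⟨S.ι (vel p' q'), hXmem _ (hSX (vel_mem_Sg p' q'))⟩
        have hxy : (x : S.X) = y * w := Subtype.ext (by
          show ((x : S.X) : G) = S.ι (el (i, c, 0, 0, 0, 0)) * S.ι (vel p' q')
          rw [← ha, ← map_mul]
          exact congrArg S.ι (by clear * -; revert i c p' q'; decide +kernel))
        rw [hxy, map_mul, hK i c y rfl, hV p' q' w rfl, mul_one] at hτ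
        exact Prod.ext_iff.1 (Multiplicative.ofAdd.injective (hτ.trans ofAdd_zero.symm))
      subst hk1; subst hk2
      exact (hmemV x).2 ⟨p', q', by rw [← ha, el_quad_zero]⟩
    · obtain ⟨p', q', hx⟩ := (hmemV x).1 hx
      refine Subgroup.mem_centralizer_singleton_iff.2 (Subtype.ext (Subtype.ext ?_))
      show ((x : S.X) : G) * ((v : S.X) : G) = ((v : S.X) : G) * ((x : S.X) : G)
      rw [← hx, ← hv, ← map_mul, ← map_mul, vel_mul, vel_mul, add_comm p', add_comm q']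
  have hF : MTwelveInv.FourHyp V := ⟨hcV, hexp, hVodd, fun v hv => by
    have hp : IsPGroup 2 (Subgroup.zpowers v) :=
      IsPGroup.of_card (n := 1) (by rw [Nat.card_zpowers, hv, pow_one])
    obtain ⟨R, hR⟩ := hp.exists_le_sylow
    let T : Sylow 2 L := (IsPGroup.of_card (n := 2) (by rw [hcV]; norm_num) :
      IsPGroup 2 V).toSylow (by rw [← even_iff_two_dvd, Nat.not_even_iff_odd]; exact hVodd)
    obtain ⟨g, hg⟩ := MulAction.exists_smul_eq L R T
    have hmem : g * v * g⁻¹ ∈ V := by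
      show g * v * g⁻¹ ∈ (T : Subgroup L)
      rw [← hg]
      exact Subgroup.mem_map.2 ⟨v, hR (Subgroup.mem_zpowers v), rfl⟩
    have h1 : g * v * g⁻¹ ≠ 1 := fun e => by
      rw [conj_eq_one_iff] at e
      rw [e, orderOf_one] at hv
      omega
    rw [← hcV, ← hW _ hmem h1]
    refine Nat.card_congr (Equiv.subtypeEquiv (MulAut.conj g).toEquiv fun x => ?_)
    rw [Subgroup.mem_centralizer_singleton_iff, Subgroup.mem_centralizer_singleton_iff]
    show x * v = v * x ↔ g * x * g⁻¹ * (g * v * g⁻¹) = g * v * g⁻¹ * (g * x * g⁻¹)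
    rw [show g * x * g⁻¹ * (g * v * g⁻¹) = g * (x * v) * g⁻¹ by group,
      show g * v * g⁻¹ * (g * x * g⁻¹) = g * (v * x) * g⁻¹ by group, mul_left_inj, mul_right_inj]⟩
  have h1 := L.index_mul_card
  rw [hindex] at h1
  rcases hF.card_cases with e | ⟨e | e, -⟩ <;> omega

end

end Cfsg.Agent.Lib.S3344.AltNine
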