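import Mathlib

/-!
Facts about the alternating group of degree 8 used in the recognition of the alternating group of
degree 9: the two classes of involutions and the centralizer of a double transposition.
-/

set_option autoImplicit false
set_option maxRecDepth 40000
set_option synthInstance.maxSize 2000
set_option synthInstance.maxHeartbeats 200000

namespace Cfsg.Agent.Lib.S3344.AltNine

open Equiv

/-- The alternating group of degree 8. -/
abbrev A8 := ↥(alternatingGroup (Fin 8))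

/-- An even permutation as an element of the alternating group. -/
def mkA (p : Perm (Fin 8)) (h : Perm.sign p = 1) : A8 := ⟨p, Perm.mem_alternatingGroup.2 h⟩

/-- `(01)(23)`. -/
def b0 : A8 := mkA (swap 0 1 * swap 2 3) (by decide)
/-- `(01)(23)(45)(67)`. -/
def z0 : A8 := mkA (swap 0 1 * swap 2 3 * swap 4 5 * swap 6 7) (by decide)
/-- `(02)(13)`. -/
def k0 : A8 := mkA (swap 0 2 * swap 1 3) (by decide)
/-- `(45)(67)`. -/
def u0 : A8 := mkA (swap 4 5 * swap 6 7) (by decide)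
/-- `(46)(57)`. -/
def w0 : A8 := mkA (swap 4 6 * swap 5 7) (by decide)
/-- `(567)`. -/
def s0 : A8 := mkA (swap 5 6 * swap 6 7) (by decide)
/-- `(01)(56)`. -/
def t0 : A8 := mkA (swap 0 1 * swap 5 6) (by decide)

/-- `(01)(45)`. -/
def tau : A8 := mkA (swap 0 1 * swap 4 5) (by decide)

/-- No fixed letter. -/
def Fpf (a : A8) : Prop := ∀ i, (a : Perm (Fin 8)) i ≠ i

instance : DecidablePred Fpf := fun _ => inferInstanceAs (Decidable (∀ _, _))

/-- Indices for the centralizer of `b0`. -/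
abbrev Idx := Fin 2 × Fin 2 × Fin 2 × Fin 2 × Fin 3 × Fin 2

/-- The elements of the centralizer of `b0`. -/
def el : Idx → A8
  | (a, c, p, q, r, e) => k0 ^ (a : ℕ) * b0 ^ (c : ℕ) * u0 ^ (p : ℕ) * w0 ^ (q : ℕ) * s0 ^ (r : ℕ) *
      tau ^ (e : ℕ)

theorem el_commute : ∀ t, el t * b0 = b0 * el t := by decide +kernel

theorem z0_eq : z0 = b0 * u0 := by decide +kernel

theorem el_cover : ∀ x0 x2 x4 x5 : Fin 8, x0.val < 4 → x2.val < 4 → 4 ≤ x4.val → 4 ≤ x5.val →
    x2 ≠ x0 → x2 ≠ (b0 : Perm (Fin 8)) x0 → x4 ≠ x5 →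
    ∃ t, (el t : Perm (Fin 8)) 0 = x0 ∧ (el t : Perm (Fin 8)) 2 = x2 ∧
      (el t : Perm (Fin 8)) 4 = x4 ∧ (el t : Perm (Fin 8)) 5 = x5 := by
  decide +kernel

theorem perm_fix {g : Perm (Fin 8)} (p q : Fin 8) (hs : Perm.sign g = 1)
    (h : ∀ i : Fin 8, i ≠ p → i ≠ q → g i = i) : g = 1 := by
  by_contra hne
  have hsub : g.support ⊆ {p, q} := fun i hi => by
    rw [Perm.mem_support] at hi
    simp only [Finset.mem_insert, Finset.mem_singleton]
    by_contra hc
    push Not at hc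
    exact hi (h i hc.1 hc.2)
  have h2 := (Finset.card_le_card hsub).trans Finset.card_le_two
  have h1 : ¬ g.support.card ≤ 1 := fun e => hne (Perm.card_support_le_one.1 e)
  rw [(Perm.card_support_eq_two.1 (by omega)).sign_eq] at hs
  exact absurd hs (by decide)

theorem apply_fix_iff {a x : A8} (h : a * x = x * a) (i : Fin 8) :
    (x : Perm (Fin 8)) ((a : Perm (Fin 8)) i) = (a : Perm (Fin 8)) ((x : Perm (Fin 8)) i) := by
  have := congrArg (fun p : A8 => (p : Perm (Fin 8)) i) h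
  simpa using this.symm

/-- The centralizer of `b0` is listed by `el`. -/
theorem exists_el {a : A8} (h : a * b0 = b0 * a) : ∃ t, el t = a := by
  have hb : ∀ i : Fin 8, (b0 : Perm (Fin 8)) i = i ↔ 4 ≤ i.val := by decide +kernel
  have hc := fun i => apply_fix_iff h i
  have hlt : ∀ i : Fin 8, i.val < 4 → ((a : Perm (Fin 8)) i).val < 4 := fun i hi => by
    by_contra hx
    push Not at hx
    have e := ((hb _).2 hx).symm.trans (hc i)
    have := (hb i).1 ((a : Perm (Fin 8)).injective e).symm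
    omega
  have hge : ∀ i : Fin 8, 4 ≤ i.val → 4 ≤ ((a : Perm (Fin 8)) i).val := fun i hi => by
    refine (hb _).1 ?_
    rw [hc i, (hb i).2 hi]
  have h1 : (b0 : Perm (Fin 8)) 0 = 1 := by decide +kernel
  have h3 : (b0 : Perm (Fin 8)) 2 = 3 := by decide +kernel
  obtain ⟨t, e0, e2, e4, e5⟩ := el_cover ((a : Perm (Fin 8)) 0) ((a : Perm (Fin 8)) 2)
    ((a : Perm (Fin 8)) 4) ((a : Perm (Fin 8)) 5) (hlt 0 (by decide)) (hlt 2 (by decide))
    (hge 4 (by decide)) (hge 5 (by decide))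
    (fun e => absurd ((a : Perm (Fin 8)).injective e) (by decide))
    (fun e => by rw [hc 0, h1] at e; exact absurd ((a : Perm (Fin 8)).injective e) (by decide))
    (fun e => absurd ((a : Perm (Fin 8)).injective e) (by decide))
  refine ⟨t, ?_⟩
  have hg : ((el t : Perm (Fin 8)))⁻¹ * (a : Perm (Fin 8)) = 1 := by
    refine perm_fix 6 7 (by
      rw [map_mul, map_inv, Perm.mem_alternatingGroup.1 (el t).2,
        Perm.mem_alternatingGroup.1 a.2]; rfl) ?_
    intro i h6 h7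
    rw [Perm.mul_apply, Perm.inv_eq_iff_eq]
    have hct := fun i => apply_fix_iff (el_commute t) i
    fin_cases i
    · exact e0.symm
    · show (a : Perm (Fin 8)) 1 = (el t : Perm (Fin 8)) 1
      rw [← h1, ← hc 0, ← hct 0, e0]
    · exact e2.symm
    · show (a : Perm (Fin 8)) 3 = (el t : Perm (Fin 8)) 3
      rw [← h3, ← hc 2, ← hct 2, e2]
    · exact e4.symm
    · exact e5.symm
    · exact absurd rfl h6
    · exact absurd rfl h7
  exact Subtype.ext (inv_mul_eq_one.1 hg)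

theorem cycleType_of_involution {a : A8} (ha : orderOf a = 2) :
    Perm.cycleType (a : Perm (Fin 8)) = Multiset.replicate (if Fpf a then 4 else 2) 2 := by
  classical
  have ha' : orderOf (a : Perm (Fin 8)) = 2 := by rw [Subgroup.orderOf_coe]; exact ha
  obtain ⟨n, hn⟩ := Perm.cycleType_prime_order (σ := (a : Perm (Fin 8))) (by rw [ha']; decide)
  rw [ha'] at hn
  have hsum : (n + 1) * 2 = (a : Perm (Fin 8)).support.card := by
    rw [← Perm.sum_cycleType, hn, Multiset.sum_replicate, smul_eq_mul]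
  have hle : (a : Perm (Fin 8)).support.card ≤ 8 :=
    (Finset.card_le_univ _).trans (by simp)
  have hs : Perm.sign (a : Perm (Fin 8)) = 1 := Perm.mem_alternatingGroup.1 a.2
  rw [Perm.sign_of_cycleType, hn, Multiset.sum_replicate, Multiset.card_replicate] at hs
  have hiff : Fpf a ↔ (a : Perm (Fin 8)).support.card = 8 := by
    have h8 := Finset.card_eq_iff_eq_univ (a : Perm (Fin 8)).support
    rw [Fintype.card_fin] at h8
    rw [h8, Finset.eq_univ_iff_forall]
    simp [Fpf, Perm.mem_support]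
  rw [hn]
  congr 1
  split_ifs with hf
  · have := hiff.1 hf
    omega
  · have hne : (a : Perm (Fin 8)).support.card ≠ 8 := fun e => hf (hiff.2 e)
    have : n + 1 = 1 ∨ n + 1 = 2 ∨ n + 1 = 3 := by omega
    rcases this with e | e | e
    · rw [e] at hs; exact absurd hs (by decide)
    · exact e
    · rw [e] at hs; exact absurd hs (by decide)

theorem exists_conj_of_cycleType {a x : A8}
    (h : Perm.cycleType (x : Perm (Fin 8)) = Perm.cycleType (a : Perm (Fin 8)))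
    (hx : (swap 0 1 : Perm (Fin 8)) * (x : Perm (Fin 8)) = (x : Perm (Fin 8)) * swap 0 1) : ∃ c : A8, c * x * c⁻¹ = a := by
  obtain ⟨c, hc⟩ := isConj_iff.1 (Perm.isConj_iff_cycleType_eq.2 h)
  rcases Int.units_eq_one_or (Perm.sign c) with hs | hs
  · exact ⟨mkA c hs, Subtype.ext hc⟩
  · refine ⟨mkA (c * swap 0 1) (by rw [map_mul, hs, Perm.sign_swap (by decide)]; rfl),
      Subtype.ext ?_⟩
    show c * swap 0 1 * (x : Perm (Fin 8)) * (c * swap 0 1)⁻¹ = _
    rw [← hc, mul_inv_rev, mul_assoc c, hx]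
    simp [mul_assoc]

theorem exists_conj_z0 {a : A8} (ha : orderOf a = 2) (hf : Fpf a) :
    ∃ c : A8, c * z0 * c⁻¹ = a := by
  refine exists_conj_of_cycleType ?_ (by decide +kernel)
  rw [cycleType_of_involution ha, cycleType_of_involution (orderOf_eq_prime (by decide +kernel)
    (by decide +kernel)), if_pos hf, if_pos (by decide +kernel)]

theorem exists_conj_b0 {a : A8} (ha : orderOf a = 2) (hf : ¬ Fpf a) :
    ∃ c : A8, c * b0 * c⁻¹ = a := by
  refine exists_conj_of_cycleType ?_ (by decide +kernel)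
  rw [cycleType_of_involution ha, cycleType_of_involution (orderOf_eq_prime (by decide +kernel)
    (by decide +kernel)), if_neg hf, if_neg (by decide +kernel)]

/-- `(25)(36)`. -/
def m0 : A8 := mkA (swap 2 5 * swap 3 6) (by decide)
/-- `(05)(16)`. -/
def g5 : A8 := mkA (swap 0 5 * swap 1 6) (by decide)
/-- `(237)`. -/
def r7 : A8 := mkA (swap 2 3 * swap 3 7) (by decide)
/-- `(234)`. -/
def r4 : A8 := mkA (swap 2 3 * swap 3 4) (by decide)
/-- `(23)(57)`. -/
def h5 : A8 := mkA (swap 2 3 * swap 5 7) (by decide)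

/-- The three nontrivial elements of the second four-group. -/
def vel (p q : Fin 2) : A8 := u0 ^ (p : ℕ) * w0 ^ (q : ℕ)

theorem el_injective : Function.Injective el := by
  have h : ∀ a b, el a = el b → a = b := by decide +kernel
  exact fun a b => h a b

theorem el_conj_k0 : ∀ t, el t * k0 * (el t)⁻¹ = k0 ∨ el t * k0 * (el t)⁻¹ = k0 * b0 := by
  decide +kernel

theorem tau_k0 : tau * k0 * tau⁻¹ = k0 * b0 := by decide +kernel

theorem el_conj_u0 : ∀ t, (el t * u0 * (el t)⁻¹ = u0 ∨ el t * u0 * (el t)⁻¹ = u0 * b0) →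
    el t * u0 = u0 * el t := by decide +kernel

theorem el_conj_ku : ∀ t, (el t * (k0 * u0) * (el t)⁻¹ = k0 * u0 ∨
    el t * (k0 * u0) * (el t)⁻¹ = k0 * u0 * b0) → el t * u0 = u0 * el t := by decide +kernel

theorem el_comm_u0_iff : ∀ t, el t * u0 = u0 * el t ↔ t.2.2.2.2.1 = 0 := by decide +kernel

theorem el_comm_k0_iff : ∀ t, el t * k0 = k0 * el t ↔ t.2.2.2.2.2 = 0 := by decide +kernel

theorem el_comm_vel : ∀ t p q, el t * k0 = k0 * el t → (p ≠ 0 ∨ q ≠ 0) →
    el t * vel p q = vel p q * el t → el t * u0 = u0 * el t ∧ el t * w0 = w0 * el t := by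
  decide +kernel

theorem el_mem_S : ∀ t, el t * k0 = k0 * el t → el t * u0 = u0 * el t →
    el t = k0 ^ (t.1 : ℕ) * b0 ^ (t.2.1 : ℕ) * vel t.2.2.1 t.2.2.2.1 := by decide +kernel

theorem vel_commutator : ∀ p q, ∃ p' q', vel p q = vel p' q' * s0 * (vel p' q')⁻¹ * s0⁻¹ := by decide +kernel

theorem vel_not_fpf : ∀ p q, (p ≠ 0 ∨ q ≠ 0) →
    orderOf (vel p q) = 2 ∧ Fpf (b0 * vel p q) ∧ orderOf (b0 * vel p q) = 2 := by
  intro p q h
  have h1 : vel p q ^ 2 = 1 ∧ vel p q ≠ 1 ∧ Fpf (b0 * vel p q) ∧ (b0 * vel p q) ^ 2 = 1 ∧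
      b0 * vel p q ≠ 1 := by
    revert p q
    decide +kernel
  exact ⟨orderOf_eq_prime h1.1 h1.2.1, h1.2.2.1, orderOf_eq_prime h1.2.2.2.1 h1.2.2.2.2⟩

theorem el_ratio : ∀ a c p q p' q' r e,
    el (a, c, p, q, r, e) * (el (a, c, p', q', r, e))⁻¹ = vel (p + p') (q + q') := by
  decide +kernel

theorem el_three : ∀ p q, ∃ p' q',
    vel p' q' * s0 * (vel p' q')⁻¹ = el (0, 0, p, q, 1, 0) := by decide +kernel

theorem el_move : ∀ t, (el t : Perm (Fin 8)) 4 ≠ 4 → ∃ p q, (p ≠ 0 ∨ q ≠ 0) ∧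
    (s0 * (el t * s0 * (el t)⁻¹) = vel p q ∨ s0 * (el t * s0 * (el t)⁻¹)⁻¹ = vel p q) := by
  decide +kernel

theorem card_el_four :
    (Finset.univ.filter fun t : Idx => (el t : Perm (Fin 8)) 4 = 4).card = 24 := by decide +kernel

theorem m0_b0 : m0 * b0 * m0⁻¹ = t0 := by decide +kernel

theorem letters : ∀ j : Fin 8, 4 ≤ j.val →
    ((b0 : Perm (Fin 8)) ((m0 : Perm (Fin 8)) j) = (m0 : Perm (Fin 8)) j) →
    (m0 : Perm (Fin 8)) j = 4 ∨ (m0 : Perm (Fin 8)) j = 7 := by decide +kernel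

theorem fix_seven : (r4 : Perm (Fin 8)) 7 = 7 ∧ (r4 * t0 = t0 * r4) ∧
    orderOf (s0 * k0 * g5 * k0 * r4 * k0 * g5) = 2 ∧ Fpf (s0 * k0 * g5 * k0 * r4 * k0 * g5) := by
  have h : (r4 : Perm (Fin 8)) 7 = 7 ∧ (r4 * t0 = t0 * r4) ∧
      (s0 * k0 * g5 * k0 * r4 * k0 * g5) ^ 2 = 1 ∧ (s0 * k0 * g5 * k0 * r4 * k0 * g5) ≠ 1 ∧
      Fpf (s0 * k0 * g5 * k0 * r4 * k0 * g5) := by decide +kernel
  exact ⟨h.1, h.2.1, orderOf_eq_prime h.2.2.1 h.2.2.2.1, h.2.2.2.2⟩

/-- The three-cycle `(01i)`. -/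
def cyc (i : Fin 8) : A8 :=
  if h : Perm.sign (swap (0 : Fin 8) i * swap 0 1) = 1 then mkA _ h else 1

theorem cyc_words : cyc 2 = g5 * r7 * s0 * g5 * r7 * r7 ∧ cyc 3 = g5 * r7 * r7 * s0 * g5 * r7 ∧
    cyc 5 = s0 * k0 * r7 * s0 * s0 * k0 ∧ cyc 6 = s0 * s0 * k0 * r7 * s0 * k0 ∧
    cyc 7 = k0 * r7 * k0 := by decide +kernel

/-- An element carrying the letter `j` to the letter `i`. -/
def mov (j i : Fin 8) : A8 :=
  if i = j then 1 else if i = 0 then cyc j else if i = 1 then cyc j ^ 2 else cyc i ^ 2 * cyc j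

theorem mov_spec : ∀ j i : Fin 8, j ≠ 0 → j ≠ 1 → j ≠ 4 → i ≠ 4 →
    (mov j i : Perm (Fin 8)) j = i ∧
    ∀ l : Fin 8, l ≠ 0 → l ≠ 1 → l ≠ i → l ≠ j → (mov j i : Perm (Fin 8)) l = l := by
  decide +kernel

theorem sift {X : Subgroup A8} (hX : ∀ i : Fin 8, i ≠ 4 → cyc i ∈ X) (L : List (Fin 8)) :
    (∀ j ∈ L, j ≠ 0 ∧ j ≠ 1 ∧ j ≠ 4) →
      ∀ a : A8, (∀ l, l ≠ 0 → l ≠ 1 → l ∉ L → (a : Perm (Fin 8)) l = l) → a ∈ X := by
  induction L with
  | nil =>
    intro _ a ha
    have : a = 1 := Subtype.ext (perm_fix 0 1 (Perm.mem_alternatingGroup.1 a.2)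
      fun i h0 h1 => ha i h0 h1 List.not_mem_nil)
    rw [this]; exact X.one_mem
  | cons j L ih =>
    intro hL a ha
    obtain ⟨hj0, hj1, hj4⟩ := hL j (List.mem_cons_self ..)
    set i := (a : Perm (Fin 8)) j with hi
    have hi4 : i ≠ 4 := fun e => hj4 ((a : Perm (Fin 8)).injective (e.trans (ha 4 (by decide)
      (by decide) (fun h => (hL 4 h).2.2 rfl)).symm))
    have hil : ∀ l, l ≠ 0 → l ≠ 1 → l ∉ j :: L → l ≠ i := fun l h0 h1 hl e =>
      hl (List.mem_cons.2 (Or.inl ((a : Perm (Fin 8)).injective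
        ((ha l h0 h1 hl).trans e))))
    have hmov : mov j i ∈ X := by
      unfold mov
      split_ifs
      · exact X.one_mem
      · exact hX j hj4
      · exact X.pow_mem (hX j hj4) 2
      · exact X.mul_mem (X.pow_mem (hX i hi4) 2) (hX j hj4)
    have hm := mov_spec j i hj0 hj1 hj4 hi4
    have h2 : (mov j i)⁻¹ * a ∈ X := by
      refine ih (fun x hx => hL x (List.mem_cons_of_mem _ hx)) _ fun l h0 h1 hl => ?_
      rw [Subgroup.coe_mul, Subgroup.coe_inv, Perm.mul_apply, Perm.inv_eq_iff_eq]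
      by_cases hlj : l = j
      · subst hlj; exact hm.1.symm
      · have hl' : l ∉ j :: L := fun h => (List.mem_cons.1 h).elim hlj hl
        rw [ha l h0 h1 hl', hm.2 l h0 h1 (hil l h0 h1 hl') hlj]
    simpa using X.mul_mem hmov h2

/-- A subgroup containing the four generators contains the stabilizer of the letter `4`. -/
theorem mem_of_fix_four {X : Subgroup A8} (hs : s0 ∈ X) (hk : k0 ∈ X) (hg : g5 ∈ X) (hr : r7 ∈ X)
    {a : A8} (ha : (a : Perm (Fin 8)) 4 = 4) : a ∈ X := by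
  obtain ⟨c2, c3, c5, c6, c7⟩ := cyc_words
  have hX : ∀ i : Fin 8, i ≠ 4 → cyc i ∈ X := by
    intro i hi
    fin_cases i
    · have : cyc (0 : Fin 8) = 1 := by decide +kernel
      exact this ▸ X.one_mem
    · have : cyc (1 : Fin 8) = 1 := by decide +kernel
      exact this ▸ X.one_mem
    · show cyc (2 : Fin 8) ∈ X
      rw [c2]; exact X.mul_mem (X.mul_mem (X.mul_mem (X.mul_mem (X.mul_mem hg hr) hs) hg) hr) hr
    · show cyc (3 : Fin 8) ∈ X
      rw [c3]; exact X.mul_mem (X.mul_mem (X.mul_mem (X.mul_mem (X.mul_mem hg hr) hr) hs) hg) hr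
    · exact absurd rfl hi
    · show cyc (5 : Fin 8) ∈ X
      rw [c5]; exact X.mul_mem (X.mul_mem (X.mul_mem (X.mul_mem (X.mul_mem hs hk) hr) hs) hs) hk
    · show cyc (6 : Fin 8) ∈ X
      rw [c6]; exact X.mul_mem (X.mul_mem (X.mul_mem (X.mul_mem (X.mul_mem hs hs) hk) hr) hs) hk
    · show cyc (7 : Fin 8) ∈ X
      rw [c7]; exact X.mul_mem (X.mul_mem hk hr) hk
  refine sift hX [7, 6, 5, 3, 2] (by decide) a fun l h0 h1 hl => ?_
  have : l = 4 := by
    revert l
    decide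
  rw [this, ha]

/-- A subgroup containing that stabilizer and a further element is everything. -/
theorem eq_top_of_move {X : Subgroup A8} (h4 : ∀ a : A8, (a : Perm (Fin 8)) 4 = 4 → a ∈ X)
    {y : A8} (hy : y ∈ X) (hy4 : (y : Perm (Fin 8)) 4 ≠ 4) (a : A8) : a ∈ X := by
  by_cases ha : (a : Perm (Fin 8)) 4 = 4
  · exact h4 a ha
  · have hc : ∀ j i : Fin 8, j ≠ 4 → i ≠ 4 → ∃ k : Fin 8,
        Perm.sign (swap j k * swap j i) = 1 ∧ (swap j k * swap j i) 4 = 4 ∧
          (swap j k * swap j i) j = i ∨ j = i := by decide +kernel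
    set j := (y : Perm (Fin 8)) 4 with hj
    set i := (a : Perm (Fin 8)) 4 with hi
    obtain ⟨c, hcX, hcj⟩ : ∃ c : A8, c ∈ X ∧ (c : Perm (Fin 8)) j = i := by
      obtain ⟨k, ⟨hs, h44, hji⟩ | e⟩ := hc j i hy4 ha
      · exact ⟨mkA _ hs, h4 _ h44, hji⟩
      · exact ⟨1, X.one_mem, by simpa using e⟩
    have h : (c * y)⁻¹ * a ∈ X := h4 _ (by
      rw [Subgroup.coe_mul, Subgroup.coe_inv, Perm.mul_apply, Perm.inv_eq_iff_eq,
        Subgroup.coe_mul, Perm.mul_apply, ← hj, hcj, hi])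
    simpa [mul_assoc] using X.mul_mem (X.mul_mem hcX hy) h

end Cfsg.Agent.Lib.S3344.AltNine
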