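import Cfsg.Agent.Lib.S3344.Pack

/-!
Automorphisms of the table with exchanged quaternion groups.
-/

set_option autoImplicit false
set_option maxRecDepth 20000

namespace Cfsg.Agent.Lib.S3344

/-- Packed automorphism carrying the class of `5` to the class of `6`. -/
def autSix : ℕ := 0x9b9a9998979695949f9e9d9c939291908b8a8988878685848f8e8d8c838281807b7a7978777675747f7e7d7c737271706b6a6968676665646f6e6d6c63626160bbbab9b8b7b6b5b4bfbebdbcb3b2b1b0abaaa9a8a7a6a5a4afaeadaca3a2a1a05b5a5958575655545f5e5d5c535251504b4a4948474645444f4e4d4c434241403b3a3938373635343f3e3d3c333231302b2a2928272625242f2e2d2c232221201b1a1918171615141f1e1d1c131211100b0a0908070605040f0e0d0c03020100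

/-- Packed automorphism carrying the class of `5` to the class of `7`. -/
def autSeven : ℕ := 0x777675747f7e7d7c7b7a797873727170676665646f6e6d6c6b6a696863626160b7b6b5b4bfbebdbcbbbab9b8b3b2b1b0a7a6a5a4afaeadacabaaa9a8a3a2a1a0979695949f9e9d9c9b9a999893929190878685848f8e8d8c8b8a898883828180575655545f5e5d5c5b5a595853525150474645444f4e4d4c4b4a494843424140373635343f3e3d3c3b3a393833323130272625242f2e2d2c2b2a292823222120171615141f1e1d1c1b1a191813121110070605040f0e0d0c0b0a090803020100

/-- Packed automorphism exchanging the classes of `6` and `7`. -/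
def autSwap : ℕ := 0x9a8b99988e9f8d8c96879594928391908a9b89889e8f9d9c8697858482938180b0a1a3a2a4b5b7b6acbdbfbea8b9bbbaa0b1b3b2b4a5a7a6bcadafaeb8a9abaa7f7e7c6d7b7a786973727061676664756f6e6c7d6b6a6879636260717776746530212322243537362c3d3f3e28393b3a20313332342527263c2d2f2e38292b2a5f5e5c4d5b5a584953525041474644554f4e4c5d4b4a485943424051575654451a0b19180e1f0d0c16071514120311100a1b09081e0f1d1c0617050402130100

/-- A packed map is an automorphism of the table with exchanged quaternion groups fixing the centre. -/
noncomputable def autOK (code : ℕ) : Bool :=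
  ((List.range 192).all fun i => Nat.blt (ent code i) 192) &&
  (Nat.beq (ent code 0) 0 && Nat.beq (ent code 16) 16) &&
  ((List.range 192).all fun i => (List.range 192).all fun j =>
    Nat.beq (ent code (mulB i j)) (mulB (ent code i) (ent code j))) &&
  ((List.range 192).all fun i => (List.range 192).any fun j => Nat.beq (ent code j) i)

theorem autSix_ok : autOK autSix = true := by decide +kernel

theorem autSeven_ok : autOK autSeven = true := by decide +kernel

theorem autSwap_ok : autOK autSwap = true := by decide +kernel

theorem orbit_check : ((List.range 32).all fun q => Nat.beq q 0 || Nat.beq q 16 || !(Nat.beq (mulB q q) 0) ||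
    (List.range 192).any fun g => Nat.beq (mulB g q) (mulB 5 g) ||
      Nat.beq (mulB g q) (mulB (ent autSix 5) g) || Nat.beq (mulB g q) (mulB (ent autSeven 5) g)) = true := by
  decide +kernel

end Cfsg.Agent.Lib.S3344
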