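import Cfsg.Agent.Lib.S3344.Model8

/-!
A copy of the alternating group of degree eight from the relators of the whole table.
-/

set_option autoImplicit false
set_option maxRecDepth 20000
set_option maxHeartbeats 1000000

namespace Cfsg.Agent.Lib.S3344

open Equiv

attribute [local irreducible] f8

/-- Words in four generators for the elements of the table. -/
def wordsT : List (List ℕ) :=
[
  [],
  [1],
  [32, 1, 32, 32],
  [32, 32, 1, 32],
  [4],
  [1, 4],
  [4, 32, 1, 32, 32],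
  [4, 32, 32, 1, 32],
  [32, 4, 32, 32],
  [1, 32, 4, 32, 32],
  [32, 1, 4, 32, 32],
  [32, 4, 32, 1, 32],
  [32, 32, 4, 32],
  [1, 32, 32, 4, 32],
  [32, 1, 32, 4, 32],
  [32, 32, 1, 4, 32],
  [1, 1],
  [1, 1, 1],
  [1, 32, 32, 1, 32],
  [32, 1, 32, 32, 1],
  [1, 1, 4],
  [1, 1, 1, 4],
  [1, 4, 32, 32, 1, 32],
  [4, 32, 1, 32, 32, 1],
  [4, 32, 32, 4, 32],
  [1, 4, 32, 32, 4, 32],
  [1, 32, 4, 32, 1, 32],
  [4, 32, 32, 1, 4, 32],
  [32, 4, 32, 32, 4],
  [1, 32, 4, 32, 32, 4],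
  [1, 32, 32, 1, 4, 32],
  [32, 1, 32, 4, 32, 1],
  [32],
  [1, 32],
  [32, 1],
  [1, 32, 1],
  [4, 32],
  [1, 4, 32],
  [4, 32, 1],
  [1, 4, 32, 1],
  [32, 4],
  [1, 32, 4],
  [32, 1, 4],
  [1, 32, 1, 4],
  [4, 32, 4],
  [1, 4, 32, 4],
  [4, 32, 1, 4],
  [1, 4, 32, 1, 4],
  [1, 1, 32],
  [1, 1, 1, 32],
  [1, 1, 32, 1],
  [1, 1, 1, 32, 1],
  [1, 1, 4, 32],
  [1, 1, 1, 4, 32],
  [1, 1, 4, 32, 1],
  [1, 1, 1, 4, 32, 1],
  [1, 1, 32, 4],
  [1, 1, 1, 32, 4],
  [1, 1, 32, 1, 4],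
  [1, 1, 1, 32, 1, 4],
  [1, 1, 4, 32, 4],
  [1, 1, 1, 4, 32, 4],
  [1, 1, 4, 32, 1, 4],
  [1, 1, 1, 4, 32, 1, 4],
  [32, 32],
  [1, 32, 32],
  [32, 1, 32],
  [32, 32, 1],
  [4, 32, 32],
  [1, 4, 32, 32],
  [4, 32, 1, 32],
  [4, 32, 32, 1],
  [32, 4, 32],
  [1, 32, 4, 32],
  [32, 1, 4, 32],
  [32, 4, 32, 1],
  [32, 32, 4],
  [1, 32, 32, 4],
  [32, 1, 32, 4],
  [32, 32, 1, 4],
  [1, 1, 32, 32],
  [96, 4, 32, 96],
  [1, 32, 32, 1],
  [96, 32, 4, 96],
  [96, 1, 32, 96],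
  [1, 96, 1, 32, 96],
  [1, 4, 32, 32, 1],
  [4, 96, 32, 4, 96],
  [4, 32, 32, 4],
  [1, 4, 32, 32, 4],
  [1, 32, 4, 32, 1],
  [4, 32, 32, 1, 4],
  [96, 32, 1, 96],
  [1, 96, 32, 1, 96],
  [1, 32, 32, 1, 4],
  [96, 32, 1, 96, 1],
  [96],
  [1, 96],
  [32, 1, 96, 32],
  [1, 32, 1, 96, 32],
  [4, 96],
  [1, 4, 96],
  [4, 32, 1, 96, 32],
  [1, 4, 32, 1, 96, 32],
  [32, 4, 96, 32],
  [1, 32, 4, 96, 32],
  [32, 1, 4, 96, 32],
  [1, 32, 1, 4, 96, 32],
  [4, 32, 4, 96, 32],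
  [1, 4, 32, 4, 96, 32],
  [4, 32, 1, 4, 96, 32],
  [32, 32, 1, 4, 32, 96],
  [1, 1, 96],
  [96, 4],
  [32, 96, 4, 32],
  [1, 32, 96, 4, 32],
  [96, 1],
  [1, 96, 1],
  [4, 32, 96, 4, 32],
  [1, 4, 32, 96, 4, 32],
  [32, 96, 1, 32],
  [1, 32, 96, 1, 32],
  [32, 1, 96, 1, 32],
  [1, 32, 1, 96, 1, 32],
  [4, 32, 96, 1, 32],
  [1, 4, 32, 96, 1, 32],
  [4, 32, 1, 96, 1, 32],
  [1, 4, 32, 1, 96, 1, 32],
  [32, 96],
  [1, 32, 96],
  [32, 1, 96],
  [1, 32, 1, 96],
  [4, 32, 96],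
  [1, 4, 32, 96],
  [4, 32, 1, 96],
  [1, 4, 32, 1, 96],
  [32, 4, 96],
  [1, 32, 4, 96],
  [32, 1, 4, 96],
  [1, 32, 1, 4, 96],
  [4, 32, 4, 96],
  [1, 4, 32, 4, 96],
  [4, 32, 1, 4, 96],
  [96, 32, 1, 4, 32],
  [1, 1, 32, 96],
  [96, 4, 32, 32],
  [32, 96, 4],
  [1, 32, 96, 4],
  [96, 1, 32, 32],
  [1, 96, 1, 32, 32],
  [4, 32, 96, 4],
  [1, 4, 32, 96, 4],
  [32, 96, 1],
  [1, 32, 96, 1],
  [32, 1, 96, 1],
  [1, 32, 1, 96, 1],
  [4, 32, 96, 1],
  [1, 4, 32, 96, 1],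
  [4, 32, 1, 96, 1],
  [1, 4, 32, 1, 96, 1],
  [96, 32],
  [1, 96, 32],
  [1, 96, 32, 4],
  [32, 32, 1, 96],
  [4, 96, 32],
  [1, 4, 96, 32],
  [1, 4, 96, 32, 4],
  [96, 1, 32, 4],
  [4, 96, 32, 1],
  [1, 4, 96, 32, 1],
  [32, 1, 4, 32, 96],
  [32, 4, 32, 1, 96],
  [32, 32, 4, 96],
  [96, 4, 32, 1],
  [32, 1, 32, 4, 96],
  [96, 32, 1, 4],
  [1, 1, 96, 32],
  [96, 4, 32],
  [96, 4, 32, 4],
  [96, 32, 4],
  [96, 1, 32],
  [1, 96, 1, 32],
  [1, 96, 1, 32, 4],
  [4, 96, 32, 4],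
  [96, 1, 32, 1],
  [1, 96, 1, 32, 1],
  [1, 32, 4, 32, 1, 96],
  [4, 96, 32, 1, 4],
  [96, 32, 1],
  [1, 96, 32, 1],
  [1, 96, 32, 1, 4],
  [32, 32, 1, 96, 1]]

theorem wordsT_check : ((List.range 192).all fun l =>
    synW (wordsT.getD l []) == (l, []) && (wordsT.getD l []).all fun g => List.elem g [1, 4, 32, 96]) = true := by
  decide +kernel

/-- The generators of the table in the pair of groups, with the two further elements. -/
def gens6 : List ℕ := [1, 4, 32, 96, 192, 193]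

theorem pow_check : ([1, 4, 32, 96].all fun g =>
    (synW (List.replicate 12 g) == (0, [])) && decide (g < 192)) = true := by
  decide +kernel

theorem evalE_prod {G H : Type*} [Group G] [Group H] (φ : ℕ → G) (ψ : ℕ → H) (w : List ℕ) :
    evalE (fun i => (φ i, ψ i)) w = (evalE φ w, evalE ψ w) := by
  induction w with
  | nil => rfl
  | cons g w ih => rw [evalE_cons, evalE_cons, evalE_cons, ih]; rfl

/-- The table extends to an embedding of the alternating group of degree eight. -/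
theorem exists_altEight {G : Type*} [Group G] {f : ℕ → G} {h h' : G} (F : FTab f)
    (hh : h * h = 1) (hh' : h' * h' = 1) (hr : ∀ w ∈ relsM, evalE (letE f h h') w = 1) :
    ∃ ψ : alternatingGroup (Fin 8) →* G, Function.Injective ψ ∧
      ∀ g, ∀ hg : g < 192, ψ ⟨f8 g, Equiv.Perm.mem_alternatingGroup.2 (even8.1 g hg)⟩ = f g := by
  set F2 : ℕ → G × Perm (Fin 8) := fun i => (f i, f8 i) with hF2
  have FT : FTab F2 :=
    { one := Prod.ext F.one ftab8.one
      mul := fun i hi j hj => Prod.ext (F.mul i hi j hj) (ftab8.mul i hi j hj)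
      inj := fun i hi j hj e => F.inj i hi j hj (congrArg Prod.fst e) }
  set φ := letE F2 (h, pH) (h', pK) with hφdef
  have hφ : φ = fun i => (letE f h h' i, letE f8 pH pK i) := by
    funext i
    simp only [hφdef, letE, hF2]
    split_ifs <;> rfl
  have hr2 : ∀ w ∈ relsM, evalE φ w = 1 := fun w hw => by
    rw [hφ, evalE_prod, hr w hw, rels8 w hw]; rfl
  obtain ⟨-, c, hc0, hc⟩ := closedTbl_sound FT hr2 closedM_check
  set gs : Set (G × Perm (Fin 8)) := φ '' {g | g ∈ gens6} with hgs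
  let S : Set (G × Perm (Fin 8)) := Set.range fun p : Fin 105 × Fin 192 => F2 p.2 * c p.1
  -- the translates are closed under the generators
  have hclosed : ∀ x ∈ Submonoid.closure gs, ∀ y ∈ S, y * x ∈ S := by
    intro x hx
    induction hx using Submonoid.closure_induction with
    | mem x hx =>
      obtain ⟨g, hg, rfl⟩ := hx
      rintro _ ⟨⟨a, l⟩, rfl⟩
      obtain ⟨b, hb, m, hm, e⟩ := hc a a.2 g hg
      refine ⟨(⟨b, hb⟩, ⟨mulB l m, mulB_lt l.2 hm⟩), ?_⟩
      show F2 (mulB l m) * c b = F2 l * c a * φ g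
      rw [FT.mul l l.2 m hm, mul_assoc (F2 l) (c a), e, mul_assoc]
    | one => intro y hy; rwa [mul_one]
    | mul x y _ _ hx hy => intro z hz; rw [← mul_assoc]; exact hy _ (hx z hz)
  have hpow : ∀ x ∈ gs, ∃ n, 0 < n ∧ x ^ n = 1 := by
    rintro _ ⟨g, hg, rfl⟩
    simp only [Set.mem_setOf_eq, gens6, List.mem_cons, List.not_mem_nil, or_false] at hg
    have hsmall : ∀ g ∈ [1, 4, 32, 96], φ g ^ 12 = 1 := by
      intro g hg
      have hpc := pow_check
      simp only [List.all_eq_true, Bool.and_eq_true, beq_iff_eq, decide_eq_true_eq] at hpc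
      have e := evalE_label (h := (h, pH)) (h' := (h', pK)) FT (hpc g hg).1
      rw [FT.one] at e
      rwa [evalE, List.map_replicate, List.prod_replicate] at e
    rcases hg with rfl | rfl | rfl | rfl | rfl | rfl
    · exact ⟨12, by norm_num, hsmall _ (by simp)⟩
    · exact ⟨12, by norm_num, hsmall _ (by simp)⟩
    · exact ⟨12, by norm_num, hsmall _ (by simp)⟩
    · exact ⟨12, by norm_num, hsmall _ (by simp)⟩
    · exact ⟨2, by norm_num, by
        rw [hφ, sq]; exact Prod.ext hh (by decide +kernel : pH * pH = 1)⟩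
    · exact ⟨2, by norm_num, by
        rw [hφ, sq]; exact Prod.ext hh' (by decide +kernel : pK * pK = 1)⟩
  set K := Subgroup.closure gs with hKdef
  have hKM : ∀ x ∈ K, x ∈ Submonoid.closure gs := by
    intro x hx
    have h1 : x ∈ K.toSubmonoid := hx
    rw [hKdef, Subgroup.closure_toSubmonoid] at h1
    refine (Submonoid.closure_le.mpr ?_) h1
    rintro y (hy | hy)
    · exact Submonoid.subset_closure hy
    · obtain ⟨n, hn, hn1⟩ := hpow _ (Set.mem_inv.mp hy)
      rw [show y = (y⁻¹) ^ (n - 1) from (mul_inv_eq_one.1 (by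
        rw [← pow_succ, Nat.sub_add_cancel hn, hn1])).symm]
      exact Submonoid.pow_mem _ (Submonoid.subset_closure (Set.mem_inv.mp hy)) _
  have hKS : (K : Set (G × Perm (Fin 8))) ⊆ S := fun x hx => by
    have := hclosed x (hKM x hx) 1 ⟨(⟨0, by norm_num⟩, ⟨0, by norm_num⟩), by
      show F2 0 * c 0 = 1
      rw [FT.one, hc0, one_mul]⟩
    rwa [one_mul] at this
  have : Finite K := Set.Finite.subset (Set.finite_range _) hKS
  have hKcard : Nat.card K ≤ 20160 := by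
    refine (Nat.card_mono (Set.finite_range _) hKS).trans ?_
    refine (Finite.card_range_le _).trans ?_
    simp
  have hFK : ∀ l < 192, F2 l ∈ K := by
    intro l hl
    have hwt := wordsT_check
    simp only [List.all_eq_true, List.mem_range, Bool.and_eq_true, beq_iff_eq, List.elem_eq_mem,
      decide_eq_true_eq] at hwt
    obtain ⟨e, hg⟩ := hwt l hl
    rw [← evalE_label (h := (h, pH)) (h' := (h', pK)) FT e]
    refine Subgroup.list_prod_mem _ fun x hx => ?_
    obtain ⟨g, hg', rfl⟩ := List.mem_map.1 hx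
    refine Subgroup.subset_closure ⟨g, ?_, rfl⟩
    have := hg g hg'
    simp only [List.mem_cons, List.not_mem_nil, or_false] at this
    simp [gens6]; tauto
  have hH : (h, pH) ∈ K := Subgroup.subset_closure ⟨192, by simp [gens6], by simp [hφ, letE]⟩
  have hK' : (h', pK) ∈ K := Subgroup.subset_closure ⟨193, by simp [gens6], by simp [hφ, letE]⟩
  -- the projection to the alternating group
  have hsnd : ∀ x : K, (x : G × Perm (Fin 8)).2 ∈ alternatingGroup (Fin 8) := by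
    rintro ⟨x, hx⟩
    suffices K ≤ (alternatingGroup (Fin 8)).comap (MonoidHom.snd G (Perm (Fin 8))) from this hx
    rw [hKdef, Subgroup.closure_le]
    rintro _ ⟨g, hg, rfl⟩
    simp only [SetLike.mem_coe, Subgroup.mem_comap, MonoidHom.coe_snd, hφ,
      Equiv.Perm.mem_alternatingGroup, letE]
    split_ifs with h1 h2
    · exact even8.1 g h1
    · exact even8.2.1
    · exact even8.2.2
  let π : K →* alternatingGroup (Fin 8) :=
    ((MonoidHom.snd G (Perm (Fin 8))).comp K.subtype).codRestrict _ hsnd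
  have hA : Nat.card (alternatingGroup (Fin 8)) = 20160 := by
    rw [nat_card_alternatingGroup, Nat.card_fin]; rfl
  have hπ : π.range = ⊤ := by
    set P := π.range
    have hsimple : IsSimpleGroup (alternatingGroup (Fin 8)) := alternatingGroup.isSimpleGroup (by simp)
    -- the order is divisible by 192 * 35
    let inj : Fin 192 → P := fun l =>
      ⟨⟨f8 l, Equiv.Perm.mem_alternatingGroup.2 (even8.1 l l.2)⟩, ⟨F2 l, hFK l l.2⟩, Subtype.ext rfl⟩
    have h192 : 192 ∣ Nat.card P := by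
      let L : Subgroup P :=
        { carrier := Set.range inj
          one_mem' := ⟨⟨0, by norm_num⟩, Subtype.ext (Subtype.ext ftab8.one)⟩
          mul_mem' := by
            rintro _ _ ⟨a, rfl⟩ ⟨b, rfl⟩
            exact ⟨⟨_, mulB_lt a.2 b.2⟩, Subtype.ext (Subtype.ext (ftab8.mul a a.2 b b.2))⟩
          inv_mem' := by
            rintro _ ⟨a, rfl⟩
            exact ⟨⟨_, (invB_spec a.2).1⟩, Subtype.ext (Subtype.ext (ftab8.inv a.2))⟩ }
      have hi : Function.Injective inj := fun a b e => Fin.ext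
        (ftab8.inj a a.2 b b.2 (congrArg (fun x : P => ((x : alternatingGroup (Fin 8)) : Perm (Fin 8))) e))
      have : Nat.card L = 192 := by
        show Nat.card (Set.range inj) = 192
        rw [Nat.card_range_of_injective hi, Nat.card_fin]
      exact this ▸ L.card_subgroup_dvd_card
    have hprime : ∀ (p : ℕ) (x : K), p.Prime → (x : G × Perm (Fin 8)).2 ^ p = 1 →
        (x : G × Perm (Fin 8)).2 ≠ 1 → p ∣ Nat.card P := by
      intro p x hp h1 h2
      have : Fact p.Prime := ⟨hp⟩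
      have e : orderOf (⟨π x, x, rfl⟩ : P) = p :=
        orderOf_eq_prime (Subtype.ext (Subtype.ext h1))
          (fun e => h2 (congrArg (fun y : P => ((y : alternatingGroup (Fin 8)) : Perm (Fin 8))) e))
      exact e ▸ orderOf_dvd_natCard _
    have h7 := hprime 7 (⟨F2 32, hFK 32 (by norm_num)⟩ * ⟨_, hH⟩) (by norm_num) seven8.1 seven8.2.1
    have h5 := hprime 5 (⟨F2 32, hFK 32 (by norm_num)⟩ * ⟨F2 96, hFK 96 (by norm_num)⟩ * ⟨_, hH⟩ * ⟨_, hK'⟩)
      (by norm_num) seven8.2.2.1 seven8.2.2.2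
    have h6720 : 6720 ∣ Nat.card P := by
      have := Nat.Coprime.mul_dvd_of_dvd_of_dvd (by norm_num : Nat.Coprime 7 5) h7 h5
      exact Nat.Coprime.mul_dvd_of_dvd_of_dvd (by norm_num : Nat.Coprime 192 35) h192 this
    have hidx : P.index ≤ 3 := by
      have := P.card_mul_index
      rw [hA] at this
      have hpos : 0 < Nat.card P := Nat.card_pos
      have := Nat.le_of_dvd hpos h6720
      nlinarith
    rcases P.normalCore_normal.eq_bot_or_eq_top with hb | ht
    · exfalso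
      have hd : P.normalCore.index ∣ P.index.factorial := by
        rw [Subgroup.normalCore_eq_ker, Subgroup.index_ker, Subgroup.index_eq_card, ← Nat.card_perm]
        exact Subgroup.card_subgroup_dvd_card _
      rw [hb, Subgroup.index_bot, hA] at hd
      have : P.index.factorial ≤ 6 := (Nat.factorial_le hidx).trans (by norm_num [Nat.factorial])
      have := Nat.le_of_dvd (Nat.factorial_pos _) hd
      omega
    · exact top_le_iff.1 (ht ▸ P.normalCore_le)
  have hπs : Function.Surjective π := MonoidHom.range_eq_top.1 hπ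
  have hπb : Function.Bijective π := by
    refine ⟨?_, hπs⟩
    have h1 : Nat.card K = Nat.card (alternatingGroup (Fin 8)) :=
      le_antisymm (hA ▸ hKcard) (Nat.card_le_card_of_surjective _ hπs)
    exact ((Nat.bijective_iff_surjective_and_card π).2 ⟨hπs, h1⟩).1
  let e := MulEquiv.ofBijective π hπb
  let ψ : alternatingGroup (Fin 8) →* G :=
    ((MonoidHom.fst G (Perm (Fin 8))).comp K.subtype).comp e.symm.toMonoidHom
  have hψ : ∀ g, ∀ hg : g < 192,
      ψ ⟨f8 g, Equiv.Perm.mem_alternatingGroup.2 (even8.1 g hg)⟩ = f g := by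
    intro g hg
    have he : e.symm ⟨f8 g, Equiv.Perm.mem_alternatingGroup.2 (even8.1 g hg)⟩ = ⟨F2 g, hFK g hg⟩ :=
      e.symm_apply_eq.2 (Subtype.ext rfl)
    simp [ψ, he, hF2]
  refine ⟨ψ, ?_, hψ⟩
  have hsimple : IsSimpleGroup (alternatingGroup (Fin 8)) := alternatingGroup.isSimpleGroup (by simp)
  rcases ψ.normal_ker.eq_bot_or_eq_top with hb | ht
  · exact (MonoidHom.ker_eq_bot_iff ψ).1 hb
  · exfalso
    have h16 := hψ 16 (by norm_num)
    rw [MonoidHom.ker_eq_top_iff] at ht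
    rw [ht, MonoidHom.one_apply, ← F.one] at h16
    exact absurd (F.inj 0 (by norm_num) 16 (by norm_num) h16) (by norm_num)

end Cfsg.Agent.Lib.S3344
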