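import Cfsg.Agent.Lib.MTwelveInv.Main
import Cfsg.Agent.Lib.S3344.Quotient168

/-!
A group with the table centraliser in which the central involution fuses to a further involution of
the table is an extension of an elementary abelian group of order 8 by `PSL(3,2)` or is `M₁₂`.
-/

set_option autoImplicit false
set_option maxRecDepth 20000

namespace Cfsg.Agent.Lib.S3344

open Cfsg.Agent.Lib
open Cfsg.Agent.Lib.MTwelveInv

/-- The indices of the elementary abelian subgroup of order 8. -/
def vMask : ℕ := 0x8c0000000000000000d3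

/-- The products of two elements of classes 1, 2, 4. -/
def pairMask : ℕ := 0x12cff341aff5145ffa213ffcfffffeb8753f478bf3ffffff

/-- Identity or an involution of class 1, 2 or 4. -/
noncomputable def inS124 (i : ℕ) : Bool :=
  Nat.beq i 0 || Nat.beq (cls i) 1 || Nat.beq (cls i) 2 || Nat.beq (cls i) 4

theorem v_closed_check : allI (fun i => allI fun j =>
    !(Nat.testBit vMask i && Nat.testBit vMask j) || Nat.testBit vMask (mulT i j)) = true := by
  decide +kernel

theorem v_check : (Nat.testBit vMask 0 && Nat.testBit vMask 1 &&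
    Nat.beq (cntI (Nat.testBit vMask)) 8 &&
    allI (fun i => Nat.testBit vMask i ==
      (Nat.beq i 0 || Nat.beq (cls i) 1 || Nat.beq (cls i) 4)) &&
    allI (fun i => !(Nat.testBit sylMask i && Nat.testBit vMask i) || Nat.testBit missMask i)) =
    true := by decide +kernel

theorem v_cent_check : allI (fun i => Nat.testBit vMask i ||
    !allI (fun j => !Nat.testBit vMask j || commT i j)) = true := by decide +kernel

theorem v_comm_check : allI (fun i => allI fun j =>
    !(Nat.testBit vMask i && Nat.testBit vMask j) || commT i j) = true := by decide +kernel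

theorem v_normal_check : allI (fun i => allI fun j => !Nat.testBit vMask j ||
    (List.range 192).any fun k => Nat.testBit vMask k && Nat.beq (mulT i j) (mulT k i)) = true := by
  decide +kernel

theorem gen_check : (allI (fun i => (List.range 192).any fun j =>
      inS124 j && Nat.testBit pairMask (mulT j i)) &&
    allI (fun i => !Nat.testBit pairMask i || (List.range 192).any fun j =>
      inS124 j && inS124 (mulT j i))) = true := by decide +kernel

theorem three_prod_check : ((List.range 192).any fun i => (List.range 192).any fun j =>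
    Nat.beq (cls i) 3 && Nat.beq (cls j) 3 && Nat.beq (mulT i j) 1) = true := by decide +kernel

variable {G : Type*} [Group G] [Finite G] (H : Base G)

/-- The elementary abelian subgroup of order 8. -/
noncomputable def vSub : Subgroup G :=
  H.table.subgroupOfMask vMask v_closed_check (by
    have h := v_check; simp only [Bool.and_eq_true] at h; exact h.1.1.1.1)

theorem card_vSub : Nat.card (vSub H) = 8 := by
  rw [vSub, Table.card_subgroupOfMask]
  have h := v_check
  simp only [Bool.and_eq_true] at h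
  exact Nat.eq_of_beq_eq_true h.1.1.2

theorem v_bit {i : ℕ} (hi : i < 192) :
    Nat.testBit vMask i = true ↔ i = 0 ∨ cls i = 1 ∨ cls i = 4 := by
  have h := v_check
  simp only [Bool.and_eq_true] at h
  have h2 := allI_spec h.1.2 hi
  rw [beq_iff_eq] at h2
  simp [h2, MTwelveInv.beq_true_iff, or_assoc]

theorem mem_vSub {x : G} :
    x ∈ vSub H ↔ ∃ i < 192, (i = 0 ∨ cls i = 1 ∨ cls i = 4) ∧ H.f i = x := by
  constructor
  · rintro ⟨i, hi, hb, rfl⟩; exact ⟨i, hi, (v_bit hi).1 hb, rfl⟩
  · rintro ⟨i, hi, hb, rfl⟩; exact ⟨i, hi, (v_bit hi).2 hb, rfl⟩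

theorem v_comm_t {x : G} (hx : x ∈ vSub H) : x * H.t = H.t * x := by
  obtain ⟨i, hi, -, rfl⟩ := hx
  exact H.table.commute_t hi

theorem t_mem_vSub : H.t ∈ vSub H :=
  (mem_vSub H).2 ⟨1, by norm_num, Or.inr (Or.inl rep_cls.2.2.2.2.2.2), H.table.inv_eq⟩

theorem v_sq {x : G} (hx : x ∈ vSub H) : x * x = 1 := by
  obtain ⟨i, hi, h, rfl⟩ := (mem_vSub H).1 hx
  rcases h with rfl | h
  · simp [H.table.one]
  · exact Involution.mul_self_eq_one (H.table.orderOf_eq_two hi (by omega))

theorem v_comm {x y : G} (hx : x ∈ vSub H) (hy : y ∈ vSub H) : x * y = y * x := by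
  obtain ⟨i, hi, hbi, rfl⟩ := hx
  obtain ⟨j, hj, hbj, rfl⟩ := hy
  refine ((H.table.commute_iff hi hj).2 ?_).eq
  simpa [hbi, hbj] using allI_spec (allI_spec v_comm_check hi) hj

theorem v_cent {x : G} (h : ∀ v ∈ vSub H, x * v = v * x) : x ∈ vSub H := by
  obtain ⟨i, hi, rfl⟩ := (H.table.range x).1 (h _ (t_mem_vSub H))
  have h1 := allI_spec v_cent_check hi
  simp only [Bool.or_eq_true, Bool.not_eq_true'] at h1
  rcases h1 with h1 | h1
  · exact ⟨i, hi, h1, rfl⟩
  · exfalso
    obtain ⟨j, hj, hjf⟩ := List.all_eq_false.1 h1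
    rw [List.mem_range] at hj
    simp only [Bool.not_eq_true, Bool.or_eq_false_iff, Bool.not_eq_false'] at hjf
    have := (H.table.commute_iff hi hj).1 (h _ ⟨j, hj, hjf.1, rfl⟩)
    rw [hjf.2] at this
    simp at this

theorem v_conj {c x : G} (hc : c * H.t = H.t * c) (hx : x ∈ vSub H) :
    c * x * c⁻¹ ∈ vSub H := by
  obtain ⟨i, hi, rfl⟩ := (H.table.range c).1 hc
  obtain ⟨j, hj, hbj, rfl⟩ := hx
  have h := allI_spec (allI_spec v_normal_check hi) hj
  simp only [hbj, Bool.not_true, Bool.false_or, List.any_eq_true, List.mem_range,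
    Bool.and_eq_true, MTwelveInv.beq_true_iff] at h
  obtain ⟨k, hk, hbk, he⟩ := h
  refine ⟨k, hk, hbk, ?_⟩
  rw [← H.table.mul i hi j hj, he, H.table.mul k hk i hi, mul_inv_cancel_right]

variable (hd : IsConj H.t H.d)
include hd

theorem conj_of_cls14 {i : ℕ} (hi : i < 192) (h : cls i = 1 ∨ cls i = 4) :
    IsConj H.t (H.f i) := by
  have hrep := H.conj_of_cls hi (by omega)
  rcases h with e | e
  · rw [(cls_eq_one_iff hi).1 e, H.table.inv_eq]
  · rw [e] at hrep; exact hd.trans hrep

variable (ha : ¬ IsConj H.t H.a)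
include ha

theorem mem_class_iff (x : G) :
    (IsConj H.t x ∧ x * H.t = H.t * x) ↔ (x ∈ vSub H ∧ x ≠ 1) := by
  constructor
  · rintro ⟨hx, hxt⟩
    have ho := (Involution.isConj_orderOf hx).trans H.ht
    obtain ⟨i, hi, hi0, rfl⟩ := H.table.exists_index_of_involution
      (Involution.mul_self_eq_one ho) (Involution.ne_one ho) hxt
    refine ⟨(mem_vSub H).2 ⟨i, hi, ?_, rfl⟩, Involution.ne_one ho⟩
    have hrep := hx.trans (H.conj_of_cls hi hi0).symm
    rcases H.cls_cases hi hi0 with e | e | e | e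
    · omega
    · rw [e] at hrep; exact absurd hrep ha
    · rw [e] at hrep; exact absurd hrep H.b_not_conj
    · omega
  · rintro ⟨hx, hx1⟩
    refine ⟨?_, v_comm_t H hx⟩
    obtain ⟨i, hi, h, rfl⟩ := (mem_vSub H).1 hx
    rcases h with rfl | h
    · exact absurd H.table.one hx1
    · exact conj_of_cls14 H hd hi h

theorem card_class_v : Nat.card {x : G // IsConj H.t x ∧ x * H.t = H.t * x} = 7 := by
  classical
  rw [H.table.card_subtype _ (fun i => Nat.beq (cls i) 1 || Nat.beq (cls i) 4) (fun i hi => ?_)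
    fun _ h => h.2]
  · exact zero_four_count
  · rw [mem_class_iff H hd ha, vSub, Table.mem_subgroupOfMask_index _ hi, v_bit hi]
    simp only [Bool.or_eq_true, MTwelveInv.beq_true_iff]
    constructor
    · rintro ⟨rfl | h, h1⟩
      · exact absurd H.table.one h1
      · exact h
    · intro h
      exact ⟨Or.inr h, Involution.ne_one (H.table.orderOf_eq_two hi (by omega))⟩

theorem mem_normalizer_of_t {g : G} (hg : g * H.t * g⁻¹ ∈ vSub H) :
    g ∈ Subgroup.normalizer (vSub H : Set G) := by
  refine Subgroup.inv_mem_iff _ |>.1 (Subgroup.mem_normalizer_fintype fun v hv => ?_)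
  show g⁻¹ * v * g⁻¹⁻¹ ∈ vSub H
  rw [inv_inv]
  by_cases hv1 : v = 1
  · subst hv1; simp
  refine ((mem_class_iff H hd ha _).1
    ⟨((mem_class_iff H hd ha v).2 ⟨hv, hv1⟩).1.trans (isConj_iff.2 ⟨g⁻¹, by group⟩), ?_⟩).1
  calc g⁻¹ * v * g * H.t = g⁻¹ * (v * (g * H.t * g⁻¹)) * g := by group
    _ = g⁻¹ * ((g * H.t * g⁻¹) * v) * g := by rw [v_comm H hv hg]
    _ = _ := by group

theorem centralizer_le_normalizer {g : G} (hg : g * H.t = H.t * g) :
    g ∈ Subgroup.normalizer (vSub H : Set G) :=
  mem_normalizer_of_t H hd ha (by rw [conj_eq_iff_comm.2 hg]; exact t_mem_vSub H)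

theorem card_normalizer : Nat.card (Subgroup.normalizer (vSub H : Set G)) = 7 * 192 := by
  set N := Subgroup.normalizer (vSub H : Set G) with hN
  have htN : H.t ∈ N := centralizer_le_normalizer H hd ha rfl
  let t' : N := ⟨H.t, htN⟩
  have h1 : Nat.card {y : N // IsConj t' y} = 7 := by
    rw [← card_class_v H hd ha]
    refine Nat.card_eq_of_bijective
      (fun y => ⟨(y.1 : G), N.subtype.map_isConj y.2, ?_⟩) ⟨?_, ?_⟩
    · obtain ⟨g, hg⟩ := isConj_iff.1 y.2
      refine (v_comm H ?_ (t_mem_vSub H))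
      rw [← hg]
      exact (Subgroup.mem_normalizer_iff.1 g.2 _).1 (t_mem_vSub H)
    · intro y y' h
      exact Subtype.ext (Subtype.ext (Subtype.mk.inj h))
    · rintro ⟨x, hx, hxt⟩
      obtain ⟨g, rfl⟩ := isConj_iff.1 hx
      have hgN : g ∈ N := mem_normalizer_of_t H hd ha ((mem_class_iff H hd ha _).1 ⟨hx, hxt⟩).1
      exact ⟨⟨⟨g, hgN⟩ * t' * ⟨g, hgN⟩⁻¹, isConj_iff.2 ⟨_, rfl⟩⟩, rfl⟩
  have h2 : Nat.card (Subgroup.centralizer ({t'} : Set N)) = 192 := by
    rw [← H.table.card_centralizer]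
    refine Nat.card_congr
      { toFun := fun x => ⟨((x : N) : G), Subgroup.mem_centralizer_singleton_iff.2
          (congrArg Subtype.val (Subgroup.mem_centralizer_singleton_iff.1 x.2))⟩
        invFun := fun x => ⟨⟨x.1, centralizer_le_normalizer H hd ha
            (Subgroup.mem_centralizer_singleton_iff.1 x.2)⟩,
          Subgroup.mem_centralizer_singleton_iff.2
            (Subtype.ext (Subgroup.mem_centralizer_singleton_iff.1 x.2))⟩
        left_inv := fun x => rfl
        right_inv := fun x => rfl }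
  rw [← Involution.card_isConj_mul_card_centralizer t', h1, h2]

/-- The class 2 representative is fused. -/
theorem a_fused : IsConj H.b H.a := by
  classical
  by_contra hb
  haveI : Fact (Nat.Prime 2) := ⟨Nat.prime_two⟩
  haveI : Fact (Nat.Prime 7) := ⟨by norm_num⟩
  have hchk := miss_check
  simp only [Bool.and_eq_true] at hchk
  obtain ⟨⟨⟨hclosed, hcnt⟩, h0⟩, hsub⟩ := hchk
  set T := H.table.subgroupOfMask missMask hclosed h0 with hTdef
  have hTS : T ≤ H.syl := by
    rintro x ⟨i, hi, hb, rfl⟩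
    have := allI_spec hsub hi
    simp only [hb, Bool.not_true, Bool.false_or, Bool.and_eq_true] at this
    exact ⟨i, hi, this.1, rfl⟩
  have hT : 2 * Nat.card T = Nat.card H.syl := by
    rw [hTdef, Table.card_subgroupOfMask, Nat.eq_of_beq_eq_true hcnt, H.card_syl]
  obtain ⟨χ, hχ1, hχ2⟩ := exists_sign_hom H.syl T H.odd_syl_index hTS hT
  have hao : orderOf H.a = 2 := H.table.orderOf_eq_two rep_lt.1 (by rw [rep_cls.1]; norm_num)
  have hχa : χ H.a ≠ 1 := by
    refine hχ2 _ (Involution.mul_self_eq_one hao) fun g _ hgT => ?_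
    obtain ⟨i, hi, hbit, hgi⟩ := hgT
    have hio : orderOf (H.f i) = 2 := by rw [hgi, Involution.orderOf_conj_eq]; exact hao
    have hi0 : cls i ≠ 0 := (cls_ne_zero_iff hi).2
      ⟨fun e => Involution.ne_one hio (by rw [e, H.table.one]),
        (H.table.mul_self_eq_one_iff hi).1 (Involution.mul_self_eq_one hio)⟩
    have hrep : IsConj (H.f (clsRep (cls i))) H.a := (H.conj_of_cls hi hi0).trans
      (by rw [hgi]; exact (isConj_iff.2 ⟨g, rfl⟩ : IsConj H.a _).symm)
    have h2 := allI_spec hsub hi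
    simp only [hbit, Bool.not_true, Bool.false_or, Bool.and_eq_true, Bool.not_eq_true',
      MTwelveInv.beq_false_iff] at h2
    rcases H.cls_cases hi hi0 with e | e | e | e
    · rw [e] at hrep; exact ha (H.table.inv_eq ▸ hrep)
    · exact h2.2 e
    · rw [e] at hrep; exact hb hrep
    · rw [e] at hrep; exact ha (hd.trans hrep)
  have hχV : ∀ v ∈ vSub H, χ v = 1 := by
    intro v hv
    refine hχ1 v (v_sq H hv) fun g hg => ?_
    by_cases hv1 : v = 1
    · subst hv1; simpa using T.one_mem
    have hconj := ((mem_class_iff H hd ha v).2 ⟨hv, hv1⟩).1.trans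
      (isConj_iff.2 ⟨g, rfl⟩ : IsConj v (g * v * g⁻¹))
    obtain ⟨i, hi, hbit, hie⟩ := ((mem_class_iff H hd ha _).1 ⟨hconj, H.syl_comm hg⟩).1
    refine ⟨i, hi, ?_, hie⟩
    obtain ⟨j, hj, hbj, hje⟩ := hg
    obtain rfl : i = j := H.table.inj i hi j hj (hie.trans hje.symm)
    have h := v_check
    simp only [Bool.and_eq_true] at h
    simpa [hbit, hbj] using allI_spec h.2 hi
  set N := Subgroup.normalizer (vSub H : Set G) with hN
  set W := (vSub H).subgroupOf N with hW
  haveI : W.Normal := Subgroup.normal_in_normalizer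
  have hWcard : Nat.card W = 8 := by
    rw [hW, Nat.card_congr (Subgroup.subgroupOfEquivOfLe Subgroup.le_normalizer).toEquiv, card_vSub]
  have hQ : Nat.card (N ⧸ W) = 168 := by
    have h := W.card_mul_index
    rw [hWcard, card_normalizer H hd ha, Subgroup.index_eq_card] at h
    omega
  let ψ : N ⧸ W →* Multiplicative (ZMod 2) := QuotientGroup.lift W (χ.comp N.subtype)
    fun x hx => hχV _ (Subgroup.mem_subgroupOf.1 hx)
  have haN : H.a ∈ N := centralizer_le_normalizer H hd ha (H.table.commute_t rep_lt.1)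
  have hidx : ψ.ker.index = 2 :=
    index_ker_sign ψ (x := ((⟨H.a, haN⟩ : N) : N ⧸ W)) hχa
  have hK : Nat.card ψ.ker = 84 := by
    have h := ψ.ker.card_mul_index
    rw [hidx, hQ] at h
    omega
  obtain ⟨P⟩ : Nonempty (Sylow 7 ψ.ker) := inferInstance
  have hn7 : Nat.card (Sylow 7 ψ.ker) = 1 := by
    have h1 := card_sylow_modEq_one 7 ψ.ker
    have hPc : Nat.card (P : Subgroup ψ.ker) = 7 := by
      rw [Sylow.card_eq_multiplicity, hK]
      decide +kernel
    have h2 : Nat.card (Sylow 7 ψ.ker) ∣ 12 := by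
      have h3 := P.card_dvd_index
      have h4 := (P : Subgroup ψ.ker).card_mul_index
      rw [hPc, hK] at h4
      rwa [show (P : Subgroup ψ.ker).index = 12 by omega] at h3
    have h5 := Nat.le_of_dvd (by norm_num) h2
    unfold Nat.ModEq at h1
    interval_cases h : Nat.card (Sylow 7 ψ.ker) <;> omega
  haveI : Subsingleton (Sylow 7 ψ.ker) := (Nat.card_eq_one_iff_unique.1 hn7).1
  haveI : (P : Subgroup ψ.ker).Characteristic :=
    Sylow.characteristic_of_normal P (P.normal_of_subsingleton)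
  set R := (P : Subgroup ψ.ker).map ψ.ker.subtype with hR
  haveI : R.Normal := by rw [hR]; infer_instance
  have hR7 : Nat.card R = 7 := by
    rw [hR, Subgroup.card_map_of_injective Subtype.coe_injective, Sylow.card_eq_multiplicity, hK]
    decide +kernel
  obtain ⟨cb, hcb⟩ := exists_prime_orderOf_dvd_card' (G := R) 7 (by rw [hR7])
  obtain ⟨c, hc⟩ := QuotientGroup.mk_surjective (cb : N ⧸ W)
  have hco : orderOf (c : N ⧸ W) = 7 := by
    rw [hc]; simpa using hcb
  -- the translates of `t` under `c`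
  let x : Fin 7 → {y : G // IsConj H.t y ∧ y * H.t = H.t * y} := fun j =>
    ⟨((c ^ (j : ℕ) : N) : G) * H.t * ((c ^ (j : ℕ) : N) : G)⁻¹, isConj_iff.2 ⟨_, rfl⟩,
      v_comm H ((Subgroup.mem_normalizer_iff.1 (c ^ (j : ℕ)).2 _).1 (t_mem_vSub H))
        (t_mem_vSub H)⟩
  have hxinj : Function.Injective x := by
    suffices ∀ i j : Fin 7, (i : ℕ) ≤ j → x i = x j → i = j by
      intro i j h
      rcases le_total (i : ℕ) j with h' | h'
      · exact this i j h' h
      · exact (this j i h' h.symm).symm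
    intro i j hle h
    have h' := congrArg Subtype.val h
    simp only [x] at h'
    obtain ⟨k, hk⟩ := Nat.exists_eq_add_of_le hle
    rw [hk, pow_add] at h'
    set u := ((c ^ (i : ℕ) : N) : G)
    set w := ((c ^ k : N) : G) with hw
    simp only [Subgroup.coe_mul] at h'
    have hwt : w * H.t = H.t * w := by
      refine conj_eq_iff_comm.1 ?_
      calc w * H.t * w⁻¹ = u⁻¹ * ((u * w) * H.t * (u * w)⁻¹) * u := by group
        _ = u⁻¹ * (u * H.t * u⁻¹) * u := by rw [← h']
        _ = H.t := by group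
    obtain ⟨m, hm, hmw⟩ := (H.table.range w).1 hwt
    -- an element of order dividing 192 and 7
    have hwd : orderOf w ∣ 192 := by
      rw [← H.table.card_centralizer]
      have := orderOf_dvd_natCard
        (⟨w, Subgroup.mem_centralizer_singleton_iff.2 hwt⟩ :
          Subgroup.centralizer ({H.t} : Set G))
      rwa [← Subgroup.orderOf_coe] at this
    have hd1 : orderOf ((c ^ k : N) : N ⧸ W) ∣ 192 :=
      (orderOf_map_dvd (QuotientGroup.mk' W) (c ^ k)).trans (by
        rw [← Subgroup.orderOf_coe]; exact hwd)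
    have hd2 : orderOf ((c ^ k : N) : N ⧸ W) ∣ 7 := by
      rw [QuotientGroup.mk_pow, ← hco]; exact orderOf_pow_dvd _
    have h1 : ((c : N ⧸ W)) ^ k = 1 := by
      rw [← QuotientGroup.mk_pow, ← orderOf_eq_one_iff]
      exact Nat.dvd_one.1 ((Nat.dvd_gcd hd1 hd2).trans (by norm_num))
    have h7 : 7 ∣ k := hco ▸ orderOf_dvd_of_pow_eq_one h1
    apply Fin.ext
    have := j.2
    omega
  have hxbij : Function.Bijective x :=
    (Nat.bijective_iff_injective_and_card x).2 ⟨hxinj, by rw [card_class_v H hd ha]; simp⟩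
  -- two elements of the centraliser acting in the same way on `c`
  let C := Subgroup.centralizer ({H.t} : Set G)
  let π : C → N ⧸ W := fun s => ((⟨s.1, centralizer_le_normalizer H hd ha
    (Subgroup.mem_centralizer_singleton_iff.1 s.2)⟩ : N) : N ⧸ W)
  let F : C → R := fun s => ⟨π s * cb * (π s)⁻¹,
    Subgroup.Normal.conj_mem inferInstance _ cb.2 _⟩
  obtain ⟨s, s', hss, hne⟩ : ∃ s s' : C, F s = F s' ∧ (s : G)⁻¹ * s' ∉ vSub H := by
    by_contra hcon
    push Not at hcon
    haveI : Nonempty C := ⟨1⟩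
    let g : R → C := Function.invFun F
    have hg : ∀ s, F (g (F s)) = F s := fun s => Function.invFun_eq ⟨s, rfl⟩
    let E : C → R × vSub H := fun s => (F s, ⟨(g (F s) : G)⁻¹ * s, hcon _ _ (hg s)⟩)
    have hE : Function.Injective E := by
      intro s s' h
      simp only [E, Prod.ext_iff, Subtype.ext_iff] at h
      obtain ⟨h1, h2⟩ := h
      have h1' : F s = F s' := Subtype.ext h1
      rw [h1'] at h2
      exact Subtype.ext (mul_left_cancel h2)
    have := Nat.card_le_card_of_injective E hE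
    rw [Nat.card_prod, hR7, card_vSub, H.table.card_centralizer] at this
    omega
  set r := (s : G)⁻¹ * s' with hr
  have hrt : r * H.t = H.t * r :=
    Subgroup.mem_centralizer_singleton_iff.1 (C.mul_mem (C.inv_mem s.2) s'.2)
  have hrN := centralizer_le_normalizer H hd ha hrt
  let r' : N := ⟨r, hrN⟩
  have hrc : Commute (r' : N ⧸ W) (c : N ⧸ W) := by
    have h1 := congrArg Subtype.val hss
    simp only [F] at h1
    have e : (r' : N ⧸ W) = (π s)⁻¹ * π s' := rfl
    rw [hc, e]
    show _ * _ = _ * _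
    calc (π s)⁻¹ * π s' * (cb : N ⧸ W)
        = (π s)⁻¹ * (π s' * cb * (π s')⁻¹) * π s' := by group
      _ = (π s)⁻¹ * (π s * cb * (π s)⁻¹) * π s' := by rw [h1]
      _ = cb * ((π s)⁻¹ * π s') := by group
  refine hne (v_cent H fun v hv => ?_)
  by_cases hv1 : v = 1
  · simp [hv1]
  obtain ⟨j, hj⟩ := hxbij.2 ⟨v, (mem_class_iff H hd ha v).2 ⟨hv, hv1⟩⟩
  have hj' : ((c ^ (j : ℕ) : N) : G) * H.t * ((c ^ (j : ℕ) : N) : G)⁻¹ = v :=
    congrArg Subtype.val hj
  have hcomm : ((r' * c ^ (j : ℕ) : N) : N ⧸ W) = ((c ^ (j : ℕ) * r' : N) : N ⧸ W) := by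
    rw [QuotientGroup.mk_mul, QuotientGroup.mk_mul, QuotientGroup.mk_pow]
    exact (hrc.pow_right _).eq
  obtain ⟨w, hw, hwe⟩ : ∃ w ∈ vSub H,
      r * ((c ^ (j : ℕ) : N) : G) = ((c ^ (j : ℕ) : N) : G) * r * w := by
    have h := QuotientGroup.eq.1 hcomm.symm
    refine ⟨_, Subgroup.mem_subgroupOf.1 h, ?_⟩
    simp only [Subgroup.coe_mul, Subgroup.coe_inv, r']
    group
  set u := ((c ^ (j : ℕ) : N) : G)
  show r * v = v * r
  refine conj_eq_iff_comm.1 ?_
  rw [← hj']
  calc r * (u * H.t * u⁻¹) * r⁻¹ = (r * u) * H.t * (r * u)⁻¹ := by group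
    _ = u * r * (w * H.t * w⁻¹) * (u * r)⁻¹ := by rw [hwe]; group
    _ = u * (r * H.t * r⁻¹) * u⁻¹ := by rw [conj_eq_iff_comm.2 (v_comm_t H hw)]; group
    _ = u * H.t * u⁻¹ := by rw [conj_eq_iff_comm.2 hrt]

omit hd ha

theorem no_odd_normal (hd : IsConj H.t H.d) (M : Subgroup G) [hM : M.Normal]
    (hodd : Odd (Nat.card M)) : M = ⊥ := by
  have hone : ∀ x ∈ M, x * x = 1 → x = 1 := by
    intro x hx h
    have h2 : orderOf (⟨x, hx⟩ : M) ∣ 2 :=
      orderOf_dvd_of_pow_eq_one (Subtype.ext (by simp [pow_two, h]))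
    rcases (Nat.dvd_prime Nat.prime_two).1 h2 with e | e
    · exact congrArg Subtype.val (orderOf_eq_one_iff.1 e)
    · exact absurd (even_iff_two_dvd.2 (e ▸ orderOf_dvd_natCard (⟨x, hx⟩ : M)))
        (Nat.not_even_iff_odd.2 hodd)
  have hfix : ∀ y ∈ M, y * H.t = H.t * y → y = 1 := by
    intro y hy hyt
    refine hone y hy (v_sq H (v_cent H fun v hv => ?_))
    refine conj_eq_iff_comm.1 ?_
    rw [← mul_inv_eq_one]
    refine hone _ ?_ (v_sq H ((vSub H).mul_mem (v_conj H hyt hv) ((vSub H).inv_mem hv)))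
    rw [show y * v * y⁻¹ * v⁻¹ = y * (v * y⁻¹ * v⁻¹) by group]
    exact M.mul_mem hy (hM.conj_mem _ (M.inv_mem hy) v)
  have hinv : ∀ u, IsConj H.t u → ∀ m ∈ M, u * m * u⁻¹ = m⁻¹ := by
    intro u hu m hm
    have huu : u * u = 1 := Involution.mul_self_eq_one ((Involution.isConj_orderOf hu).trans H.ht)
    obtain ⟨g, hg⟩ := isConj_iff.1 hu
    have hfixu : ∀ y ∈ M, y * u = u * y → y = 1 := by
      intro y hy hyu
      have h1 : (g⁻¹ * y * g) * H.t = H.t * (g⁻¹ * y * g) := by
        calc (g⁻¹ * y * g) * H.t = g⁻¹ * (y * (g * H.t * g⁻¹)) * g := by group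
          _ = g⁻¹ * ((g * H.t * g⁻¹) * y) * g := by rw [hg, hyu]
          _ = _ := by group
      have h2 := hfix _ (by simpa using hM.conj_mem y hy g⁻¹) h1
      calc y = g * (g⁻¹ * y * g) * g⁻¹ := by group
        _ = 1 := by rw [h2]; group
    let K : M → M := fun k => ⟨(k : G)⁻¹ * (u * k * u⁻¹),
      M.mul_mem (M.inv_mem k.2) (hM.conj_mem _ k.2 u)⟩
    have hK : Function.Injective K := by
      intro k k' h
      have h' : (k : G)⁻¹ * (u * k * u⁻¹) = (k' : G)⁻¹ * (u * k' * u⁻¹) := congrArg Subtype.val h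
      have h1 : ((k' : G) * (k : G)⁻¹) * u = u * ((k' : G) * (k : G)⁻¹) := by
        calc ((k' : G) * (k : G)⁻¹) * u
            = (k' : G) * ((k : G)⁻¹ * (u * k * u⁻¹)) * u * (k : G)⁻¹ := by group
          _ = (k' : G) * ((k' : G)⁻¹ * (u * k' * u⁻¹)) * u * (k : G)⁻¹ := by rw [h']
          _ = _ := by group
      have := hfixu _ (M.mul_mem k'.2 (M.inv_mem k.2)) h1
      exact Subtype.ext (mul_inv_eq_one.1 this).symm
    obtain ⟨k, hk⟩ := (Finite.injective_iff_surjective.1 hK) ⟨m, hm⟩
    have hk' : (k : G)⁻¹ * (u * k * u⁻¹) = m := congrArg Subtype.val hk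
    rw [← hk']
    have hui : u⁻¹ = u := Involution.inv_eq_self huu
    simp only [hui, mul_inv_rev, inv_inv, mul_assoc, huu, mul_one]
  refine (Subgroup.eq_bot_iff_forall M).2 fun m hm => hone m hm ?_
  have h1 := hinv _ (IsConj.refl H.t) m hm
  have h2 := hinv _ hd m hm
  have h3 := hinv (H.d * H.t) (by
    have := conj_of_cls14 H hd (mulT_lt rep_lt.2.2.1 (by norm_num : 1 < 192))
      (Or.inr rep_cls.2.2.2.2.2.1)
    rwa [H.table.mul _ rep_lt.2.2.1 1 (by norm_num), H.table.inv_eq] at this) m hm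
  have h4 : H.d * H.t * m * (H.d * H.t)⁻¹ = m := by
    calc H.d * H.t * m * (H.d * H.t)⁻¹ = H.d * (H.t * m * H.t⁻¹) * H.d⁻¹ := by group
      _ = (H.d * m * H.d⁻¹)⁻¹ := by rw [h1]; group
      _ = m := by rw [h2, inv_inv]
  rw [h4] at h3
  nth_rw 2 [h3]
  exact mul_inv_cancel m

theorem isSimple (H : Hyp G) (ha : IsConj H.t H.a) : IsSimpleGroup G := by
  haveI : Nontrivial G := ⟨⟨H.t, 1, Involution.ne_one H.ht⟩⟩
  refine { eq_bot_or_eq_top_of_normal := fun M hM => ?_ }
  haveI := hM
  rcases Nat.even_or_odd (Nat.card M) with hev | hodd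
  · refine Or.inr ?_
    haveI : Fact (Nat.Prime 2) := ⟨Nat.prime_two⟩
    have hclosed : ∀ {x y : G}, IsConj x y → x ∈ M → y ∈ M := by
      intro x y h hx
      obtain ⟨g, rfl⟩ := isConj_iff.1 h
      exact hM.conj_mem x hx g
    obtain ⟨z, hz⟩ := exists_prime_orderOf_dvd_card' (G := M) 2 (even_iff_two_dvd.1 hev)
    rw [← Subgroup.orderOf_coe] at hz
    have htM : H.t ∈ M := by
      rcases H.two_classes _ hz with h | h
      · exact hclosed h.symm z.2
      · have hb := hclosed h.symm z.2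
        have hp := three_prod_check
        simp only [List.any_eq_true, List.mem_range, Bool.and_eq_true,
          MTwelveInv.beq_true_iff] at hp
        obtain ⟨i, hi, j, hj, ⟨hi3, hj3⟩, hij⟩ := hp
        rw [← H.table.inv_eq, ← hij, H.table.mul i hi j hj]
        exact M.mul_mem (hclosed ((H.conj_class hi (by omega)).2.1 hi3) hb)
          (hclosed ((H.conj_class hj (by omega)).2.1 hj3) hb)
    have hS : ∀ i, i < 192 → inS124 i = true → H.f i ∈ M := by
      intro i hi h
      simp only [inS124, Bool.or_eq_true, MTwelveInv.beq_true_iff] at h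
      rcases h with ((rfl | h) | h) | h
      · rw [H.table.one]; exact M.one_mem
      · exact hclosed ((H.conj_class hi (by omega)).1 (Or.inl h)) htM
      · exact hclosed (ha.trans ((H.conj_class hi (by omega)).2.2 h)) htM
      · exact hclosed ((H.conj_class hi (by omega)).1 (Or.inr h)) htM
    have hgen := gen_check
    simp only [Bool.and_eq_true] at hgen
    have hC : ∀ x : G, x * H.t = H.t * x → x ∈ M := by
      intro x hx
      obtain ⟨i, hi, rfl⟩ := (H.table.range x).1 hx
      have h1 := allI_spec hgen.1 hi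
      simp only [List.any_eq_true, List.mem_range, Bool.and_eq_true] at h1
      obtain ⟨j, hj, hjS, hjb⟩ := h1
      have h2 := allI_spec hgen.2 (mulT_lt hj hi)
      simp only [hjb, Bool.not_true, Bool.false_or, List.any_eq_true, List.mem_range,
        Bool.and_eq_true] at h2
      obtain ⟨k, hk, hkS, hkb⟩ := h2
      have h3 := hS _ (mulT_lt hk (mulT_lt hj hi)) hkb
      rw [H.table.mul _ hk _ (mulT_lt hj hi), H.table.mul j hj i hi] at h3
      exact (Subgroup.mul_mem_cancel_left M (hS j hj hjS)).1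
        ((Subgroup.mul_mem_cancel_left M (hS k hk hkS)).1 h3)
    have hle : H.syl ≤ M := fun x hx => hC x (H.syl_comm hx)
    let S : Sylow 2 G := (IsPGroup.of_card (n := 6) (by rw [H.card_syl]; norm_num) :
      IsPGroup 2 H.syl).toSylow (by
        rw [← even_iff_two_dvd, Nat.not_even_iff_odd]; exact H.odd_syl_index)
    have hF := Sylow.normalizer_sup_eq_top (S.subtype (show (S : Subgroup G) ≤ M from hle))
    rw [eq_top_iff, ← hF, sup_le_iff]
    refine ⟨fun g hg => hC g ?_, le_rfl⟩
    have hmap : ((S.subtype (show (S : Subgroup G) ≤ M from hle) : Subgroup M)).map M.subtype =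
        H.syl := by
      show (H.syl.subgroupOf M).map M.subtype = H.syl
      rw [Subgroup.subgroupOf_map_subtype, inf_eq_left.2 hle]
    rw [hmap] at hg
    have hg' := Subgroup.mem_normalizer_iff.1 hg
    rcases H.syl_centre ((hg' _).1 H.t_mem_syl) (fun y hy => by
      have hy' : g⁻¹ * y * g ∈ H.syl := by
        rw [hg' (g⁻¹ * y * g)]
        simpa [mul_assoc] using hy
      have := (conj_comm_iff g H.t (g⁻¹ * y * g)).2 (H.syl_comm hy').symm
      rwa [show g * (g⁻¹ * y * g) * g⁻¹ = y by group] at this) with e | e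
    · exact absurd (conj_eq_one_iff.1 e) (Involution.ne_one H.ht)
    · exact conj_eq_iff_comm.1 e
  · exact Or.inl (no_odd_normal H.toBase H.d_conj M hodd)

/-- Case A: the table centraliser with fusion of the central involution to a class 3 or 4
involution. -/
theorem caseA {G : Type*} [Group G] [Finite G] (t : G) (f : ℕ → G) (T : MTwelveInv.Table t f)
    (hq : ∃ i < 192, (MTwelveInv.cls i = 3 ∨ MTwelveInv.cls i = 4) ∧ IsConj t (f i)) :
    (∃ (N : Subgroup G) (_ : N.Normal), IsMulCommutative N ∧ (∀ n ∈ N, n ^ 2 = 1) ∧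
        Nat.card N = 8 ∧
        Nonempty (G ⧸ N ≃* Matrix.ProjectiveSpecialLinearGroup (Fin 3) (ZMod 2))) ∨
      Cfsg.Spor.IsoM12 G := by
  let B : Base G := ⟨t, f, T⟩
  have hd : IsConj B.t B.d := by
    obtain ⟨i, hi, h | h, hc⟩ := hq
    · have hrep := B.conj_of_cls hi (by omega)
      rw [h] at hrep
      exact absurd (hc.trans hrep.symm) B.b_not_conj
    · have hrep := B.conj_of_cls hi (by omega)
      rw [h] at hrep
      exact hc.trans hrep.symm
  by_cases ha : IsConj B.t B.a
  · let H : Hyp G := ⟨B, hd, Or.inl ha⟩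
    refine Or.inr ?_
    haveI := isSimple H ha
    have hcard : Nat.card G = 95040 := by
      rcases H.card_cases with ⟨-, h⟩ | ⟨hb, -, -⟩
      · exact h
      · exact (H.not_both ha hb).elim
    have hK : Cfsg.IsM12 ↥Cfsg.Spor.M12 := ⟨by
        rw [← Compute.Mathieu.m12_eq_spor]; exact Compute.Mathieu.isSimpleGroup_m12,
      Fusion.Mathieu.card_M12⟩
    exact Recog95040.nonempty_mulEquiv_of_isM12 ⟨inferInstance, hcard⟩ hK
  · let H : Hyp G := ⟨B, hd, Or.inr (a_fused B hd ha)⟩
    have hG : Nat.card G = 1344 := by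
      rcases H.card_cases with ⟨h, -⟩ | ⟨-, h, hdvd⟩
      · exact absurd h ha
      · rcases h with h | h
        · rw [h] at hdvd; norm_num at hdvd
        · exact h
    have htop : Subgroup.normalizer (vSub B : Set G) = ⊤ :=
      Subgroup.eq_top_of_card_eq _ (by rw [card_normalizer B hd ha, hG])
    haveI hVn : (vSub B).Normal := Subgroup.normalizer_eq_top_iff.1 htop
    refine Or.inl ⟨vSub B, hVn, ⟨⟨fun u v => Subtype.ext (v_comm B u.2 v.2)⟩⟩,
      fun n hn => by rw [pow_two, v_sq B hn], card_vSub B,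
      quotient_psl32 (vSub B) (card_vSub B) (fun u hu => v_sq B hu)
        (fun u hu v hv => v_comm B hu hv) (fun x hx => v_cent B hx) hG⟩

end Cfsg.Agent.Lib.S3344
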