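import Cfsg.Agent.Lib.S3344.Quotient168
import Cfsg.Agent.Lib.BrauerSuzukiQ.ZStarFinal
import Cfsg.Agent.Lib.Coprime.Generation
import Cfsg.Agent.Lib.SECount.Basic
import Cfsg.Agent.Lib.Involution.Basic
import Cfsg.Agent.Lib.Involution.StronglyEmbedded
import Cfsg.Agent.Lib.Signalizer.LayerBasic

/-!
An elementary abelian subgroup of order 8 containing every conjugate of an involution `s` which
commutes with `s`: if there is a further class of involutions, it is normal with quotient `PSL(3,2)`.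
-/

set_option autoImplicit false
set_option linter.unusedSectionVars false

namespace Cfsg.Agent.Lib.S3344

open Cfsg.Agent.Lib

universe u

theorem conj_commute_iff {G : Type*} [Group G] (g x y : G) :
    g * x * g⁻¹ * (g * y * g⁻¹) = g * y * g⁻¹ * (g * x * g⁻¹) ↔ x * y = y * x := by
  rw [show g * x * g⁻¹ * (g * y * g⁻¹) = g * (x * y) * g⁻¹ by group,
    show g * y * g⁻¹ * (g * x * g⁻¹) = g * (y * x) * g⁻¹ by group]
  exact ⟨fun h => mul_left_cancel (mul_right_cancel h), fun h => by rw [h]⟩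

/-- The hypotheses of case I. -/
structure EightHyp (G : Type u) [Group G] where
  s : G
  V : Subgroup G
  hs : orderOf s = 2
  card_V : Nat.card V = 8
  sq : ∀ u ∈ V, u * u = 1
  comm : ∀ u ∈ V, ∀ v ∈ V, u * v = v * u
  mem : s ∈ V
  cent : ∀ x : G, (∀ v ∈ V, x * v = v * x) → x ∈ V
  cls_mem : ∀ x : G, IsConj s x → x * s = s * x → x ∈ V
  conj : ∀ v ∈ V, v ≠ 1 → IsConj s v
  card_cent : Nat.card (Subgroup.centralizer ({s} : Set G)) = 192

namespace EightHyp

variable {G : Type u} [Group G] [Finite G] (H : EightHyp G)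
include H

/-- A conjugate of `s` commuting with some element of `V∖1` lies in `V`. -/
theorem mem_of_comm {v x : G} (hv : v ∈ H.V) (hv1 : v ≠ 1) (hx : IsConj H.s x)
    (hxv : x * v = v * x) : x ∈ H.V := by
  obtain ⟨g, hg⟩ := isConj_iff.1 (H.conj v hv hv1)
  have h1 : ∀ w ∈ H.V, w ≠ 1 → g⁻¹ * w * g ∈ H.V := fun w hw hw1 => by
    refine H.cls_mem _ ((H.conj w hw hw1).trans (isConj_iff.2 ⟨g⁻¹, by group⟩)) ?_
    rw [← conj_commute_iff g, hg, show g * (g⁻¹ * w * g) * g⁻¹ = w by group]
    exact H.comm w hw v hv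
  have hmap : ∀ w ∈ H.V, g⁻¹ * w * g ∈ H.V := fun w hw => by
    by_cases hw1 : w = 1
    · subst hw1; simp
    · exact h1 w hw hw1
  have hn : g⁻¹ ∈ Subgroup.normalizer (H.V : Set G) :=
    Subgroup.mem_normalizer_fintype fun w hw => by simpa using hmap w hw
  have hx' : g⁻¹ * x * g ∈ H.V := by
    refine H.cls_mem _ (hx.trans (isConj_iff.2 ⟨g⁻¹, by group⟩)) ?_
    rw [← conj_commute_iff g, hg, show g * (g⁻¹ * x * g) * g⁻¹ = x by group]
    exact hxv
  exact (Subgroup.mem_normalizer_iff.1 hn x).2 (by simpa using hx')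

/-- An element carrying one element of `V∖1` into `V` normalises `V`. -/
theorem mem_normalizer {g v : G} (hv : v ∈ H.V) (hv1 : v ≠ 1) (hgv : g * v * g⁻¹ ∈ H.V) :
    g ∈ Subgroup.normalizer (H.V : Set G) := by
  refine Subgroup.mem_normalizer_fintype fun w hw => ?_
  show g * w * g⁻¹ ∈ H.V
  by_cases hw1 : w = 1
  · subst hw1; simp
  refine H.mem_of_comm hgv (fun h => hv1 (conj_eq_one_iff.1 h))
    ((H.conj w hw hw1).trans (isConj_iff.2 ⟨g, rfl⟩)) ?_
  exact (conj_commute_iff g w v).2 (H.comm w hw v hv)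

theorem centralizer_le {v : G} (hv : v ∈ H.V) (hv1 : v ≠ 1) :
    Subgroup.centralizer ({v} : Set G) ≤ Subgroup.normalizer (H.V : Set G) := fun g hg =>
  H.mem_normalizer hv hv1 (by
    rwa [Subgroup.mem_centralizer_singleton_iff.1 hg, mul_inv_cancel_right])

theorem conj_mem {g v : G} (hg : g ∈ Subgroup.normalizer (H.V : Set G)) (hv : v ∈ H.V) :
    g * v * g⁻¹ ∈ H.V :=
  (Subgroup.mem_normalizer_iff.1 hg v).1 hv

theorem card_normalizer : Nat.card (Subgroup.normalizer (H.V : Set G)) = 7 * 192 := by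
  classical
  set N := Subgroup.normalizer (H.V : Set G)
  have hsN : H.s ∈ N := Subgroup.le_normalizer H.mem
  have hs1 : H.s ≠ 1 := Involution.ne_one H.hs
  let s' : N := ⟨H.s, hsN⟩
  have h1 : Nat.card {y : N // IsConj s' y} = 7 := by
    have h7 : Nat.card {v : H.V // v ≠ 1} = 7 := by
      haveI := Fintype.ofFinite H.V
      rw [Nat.card_eq_fintype_card, Fintype.card_subtype_compl, Fintype.card_subtype_eq,
        ← Nat.card_eq_fintype_card, H.card_V]
    rw [← h7]
    refine Nat.card_eq_of_bijective (fun y => ⟨⟨(y.1 : G), ?_⟩, ?_⟩) ⟨?_, ?_⟩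
    · obtain ⟨g, hg⟩ := isConj_iff.1 y.2
      rw [← hg]
      exact H.conj_mem g.2 H.mem
    · intro h
      have h' : (y.1 : G) = 1 := congrArg Subtype.val h
      have hc : IsConj H.s (y.1 : G) := N.subtype.map_isConj y.2
      rw [h', isConj_one_left] at hc
      exact hs1 hc
    · intro y y' h
      exact Subtype.ext (Subtype.ext (congrArg (fun z => ((z.1 : H.V) : G)) h))
    · rintro ⟨⟨x, hx⟩, hx1⟩
      obtain ⟨g, hg⟩ := isConj_iff.1 (H.conj x hx fun h => hx1 (Subtype.ext h))
      have hgN : g ∈ N := H.mem_normalizer H.mem hs1 (by rw [hg]; exact hx)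
      exact ⟨⟨⟨g, hgN⟩ * s' * ⟨g, hgN⟩⁻¹, isConj_iff.2 ⟨_, rfl⟩⟩, Subtype.ext (Subtype.ext hg)⟩
  have h2 : Nat.card (Subgroup.centralizer ({s'} : Set N)) = 192 := by
    rw [← H.card_cent]
    refine Nat.card_congr
      { toFun := fun x => ⟨((x : N) : G), Subgroup.mem_centralizer_singleton_iff.2
          (congrArg Subtype.val (Subgroup.mem_centralizer_singleton_iff.1 x.2))⟩
        invFun := fun x => ⟨⟨x.1, H.centralizer_le H.mem hs1 x.2⟩,
          Subgroup.mem_centralizer_singleton_iff.2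
            (Subtype.ext (Subgroup.mem_centralizer_singleton_iff.1 x.2))⟩
        left_inv := fun x => rfl
        right_inv := fun x => rfl }
  rw [← Involution.card_isConj_mul_card_centralizer s', h1, h2]

/-- For an involution of the normaliser outside `V`: a fixed element of `V∖1` invariant under its
centraliser in the normaliser, and four centralised elements of `V`. -/
theorem transvection {j : G} (hj : orderOf j = 2) (hjM : j ∈ Subgroup.normalizer (H.V : Set G))
    (hjV : j ∉ H.V) : Nat.card (H.V ⊓ Subgroup.centralizer ({j} : Set G) : Subgroup G) = 4 ∧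
      ∃ c ∈ H.V, c ≠ 1 ∧ c * j = j * c ∧
        ∀ g ∈ Subgroup.normalizer (H.V : Set G), g * j = j * g → g * c * g⁻¹ = c := by
  classical
  have hjj := Involution.mul_self_eq_one hj
  have hji := Involution.inv_eq_self hjj
  have hσ : ∀ v ∈ H.V, j * v * j ∈ H.V := fun v hv => by
    have := H.conj_mem hjM hv
    rwa [hji] at this
  let φ : H.V →* H.V :=
    { toFun := fun v => ⟨v * (j * v * j), H.V.mul_mem v.2 (hσ v v.2)⟩
      map_one' := Subtype.ext (by simp [hjj])
      map_mul' := fun u v => Subtype.ext (by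
        show (u : G) * v * (j * (u * v) * j) = u * (j * u * j) * (v * (j * v * j))
        rw [show (u : G) * (j * u * j) * (v * (j * v * j)) =
            u * ((j * u * j) * v) * (j * v * j) by group, H.comm _ (hσ u u.2) v v.2,
          show (u : G) * (v * (j * u * j)) * (j * v * j) = u * v * (j * u * (j * j) * v * j) by group,
          hjj]
        group) }
  have hφ : ∀ v : H.V, φ v = 1 ↔ (v : G) * j = j * v := fun v => by
    constructor
    · intro h
      have h' : (v : G) * (j * v * j) = 1 := congrArg Subtype.val h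
      have h2 : j * (v : G) * j = v := by
        rw [← inv_eq_of_mul_eq_one_right h', Involution.inv_eq_self (H.sq v v.2)]
      calc (v : G) * j = j * v * j * j := by rw [h2]
        _ = j * v * (j * j) := by group
        _ = j * v := by rw [hjj, mul_one]
    · intro h
      refine Subtype.ext ?_
      show (v : G) * (j * v * j) = 1
      rw [← h, show (v : G) * (v * j * j) = (v * v) * (j * j) by group, H.sq v v.2, hjj, one_mul]
  have hrange : ∀ w ∈ φ.range, (w : G) * j = j * w := by
    rintro _ ⟨v, rfl⟩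
    show (v : G) * (j * v * j) * j = j * (v * (j * v * j))
    rw [show j * ((v : G) * (j * v * j)) = j * v * j * v * j by group,
      show j * (v : G) * j * v * j = (j * v * j) * v * j by group, H.comm _ (hσ v v.2) v v.2]
  have hmul : Nat.card φ.ker * Nat.card φ.range = 8 := by
    rw [← Subgroup.index_ker φ, φ.ker.card_mul_index, H.card_V]
  have hrk : Nat.card φ.range ≤ Nat.card φ.ker :=
    Nat.le_of_dvd Nat.card_pos (Subgroup.card_dvd_of_le fun w hw =>
      (φ.mem_ker).2 ((hφ w).2 (hrange w hw)))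
  have hr1 : Nat.card φ.range ≠ 1 := fun h => by
    refine hjV (H.cent j fun v hv => ((hφ ⟨v, hv⟩).1 ?_).symm)
    have : φ ⟨v, hv⟩ ∈ φ.range := ⟨_, rfl⟩
    rwa [Subgroup.card_eq_one.1 h, Subgroup.mem_bot] at this
  have hr : Nat.card φ.range = 2 := by
    have hle : Nat.card φ.range ≤ 8 := Nat.le_of_dvd (by norm_num) (hmul ▸ Nat.dvd_mul_left _ _)
    have hk8 : Nat.card φ.ker ≤ 8 := Nat.le_of_dvd (by norm_num) (hmul ▸ Nat.dvd_mul_right _ _)
    interval_cases hR : Nat.card φ.range <;> omega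
  have hk : Nat.card φ.ker = 4 := by rw [hr] at hmul; omega
  refine ⟨?_, ?_⟩
  · rw [← hk]
    refine Nat.card_congr
      { toFun := fun x => ⟨⟨x.1, x.2.1⟩,
          (hφ _).2 (Subgroup.mem_centralizer_singleton_iff.1 x.2.2)⟩
        invFun := fun x => ⟨x.1.1, x.1.2,
          Subgroup.mem_centralizer_singleton_iff.2 ((hφ x.1).1 x.2)⟩
        left_inv := fun x => rfl
        right_inv := fun x => rfl }
  obtain ⟨c, hc⟩ := exists_prime_orderOf_dvd_card' (G := φ.range) 2 (by rw [hr])
  have hc1 : (c : H.V) ≠ 1 := fun h => by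
    rw [show c = 1 from Subtype.ext h, orderOf_one] at hc
    omega
  have huniq : ∀ w ∈ φ.range, w ≠ 1 → w = (c : H.V) := by
    intro w hw hw1
    by_contra hwc
    haveI := Fintype.ofFinite φ.range
    have hcard : ({1, c, ⟨w, hw⟩} : Finset φ.range).card = 3 := by
      rw [Finset.card_insert_of_notMem, Finset.card_pair]
      · exact fun h => hwc (congrArg Subtype.val h).symm
      · simp only [Finset.mem_insert, Finset.mem_singleton, not_or]
        exact ⟨fun h => hc1 (congrArg Subtype.val h).symm, fun h => hw1 (congrArg Subtype.val h).symm⟩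
    have := Finset.card_le_univ ({1, c, ⟨w, hw⟩} : Finset φ.range)
    rw [hcard, ← Nat.card_eq_fintype_card, hr] at this
    omega
  refine ⟨(c : H.V), (c : H.V).2, fun h => hc1 (Subtype.ext h), hrange _ c.2, fun g hg hgj => ?_⟩
  obtain ⟨v, hv⟩ := c.2
  have hv' : ((c : H.V) : G) = (v : G) * (j * v * j) := by rw [← hv]; rfl
  have himg : (φ ⟨g * v * g⁻¹, H.conj_mem hg v.2⟩ : G) = g * ((c : H.V) : G) * g⁻¹ := by
    show g * v * g⁻¹ * (j * (g * v * g⁻¹) * j) = g * ((c : H.V) : G) * g⁻¹
    have hgi : g⁻¹ * j = j * g⁻¹ := (Commute.inv_left hgj).eq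
    rw [hv', show j * (g * v * g⁻¹) * j = (j * g) * v * (g⁻¹ * j) by group, hgi, ← hgj]
    group
  have hne : φ ⟨g * v * g⁻¹, H.conj_mem hg v.2⟩ ≠ 1 := fun h => by
    rw [h] at himg
    exact hc1 (Subtype.ext (conj_eq_one_iff.1 himg.symm))
  rw [← himg, huniq _ ⟨_, rfl⟩ hne]

/-- Conjugates of `s` in the normaliser lie in `V`. -/
theorem mem_of_conj_normalizer {x : G} (hx : IsConj H.s x)
    (hxM : x ∈ Subgroup.normalizer (H.V : Set G)) : x ∈ H.V := by
  by_contra hxV
  obtain ⟨-, c, hc, hc1, hcx, -⟩ :=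
    H.transvection ((Involution.isConj_orderOf hx).trans H.hs) hxM hxV
  exact hxV (H.mem_of_comm hc hc1 hx hcx.symm)

/-- The centraliser of an involution of the normaliser outside `V` lies in the normaliser. -/
theorem centralizer_le_of_not_mem {j : G} (hj : orderOf j = 2)
    (hjM : j ∈ Subgroup.normalizer (H.V : Set G)) (hjV : j ∉ H.V) :
    Subgroup.centralizer ({j} : Set G) ≤ Subgroup.normalizer (H.V : Set G) := by
  classical
  set M := Subgroup.normalizer (H.V : Set G)
  set C := Subgroup.centralizer ({j} : Set G)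
  obtain ⟨hA4, c, hc, hc1, hcj, hfix⟩ := H.transvection hj hjM hjV
  set A := H.V ⊓ C with hA
  have hcC : c ∈ C := Subgroup.mem_centralizer_singleton_iff.2 hcj
  have hiso : Cfsg.IsIsolatedInvolution (⟨c, hcC⟩ : C) := by
    refine ⟨?_, fun g hg => ?_⟩
    · rw [← Subgroup.orderOf_coe]
      exact Involution.orderOf_eq_two (H.sq c hc) hc1
    · have hg' : c * ((g : G) * c * (g : G)⁻¹) = (g : G) * c * (g : G)⁻¹ * c :=
        congrArg Subtype.val hg.eq
      have hmem : (g : G) * c * (g : G)⁻¹ ∈ H.V :=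
        H.mem_of_comm hc hc1 ((H.conj c hc hc1).trans (isConj_iff.2 ⟨g, rfl⟩)) hg'.symm
      exact Subtype.ext (hfix g (H.mem_normalizer hc hc1 hmem)
        (Subgroup.mem_centralizer_singleton_iff.1 g.2))
  set O := (Cfsg.oddCore C).map C.subtype with hO
  have hOodd : Odd (Nat.card O) := by
    rw [hO, Subgroup.card_map_of_injective C.subtype_injective]
    exact PLayerBasic.oddCore_odd
  have hOM : O ≤ M := by
    haveI : IsMulCommutative A :=
      ⟨⟨fun u v => Subtype.ext (H.comm u u.2.1 v v.2.1)⟩⟩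
    have hcyc : ¬ IsCyclic A := by
      intro h
      obtain ⟨a, ha⟩ := IsCyclic.exists_ofOrder_eq_natCard (α := A)
      have : orderOf a ∣ 2 := orderOf_dvd_of_pow_eq_one (Subtype.ext (by
        rw [pow_two]; exact H.sq a a.2.1))
      rw [ha, hA4] at this
      norm_num at this
    refine Coprime.le_of_noncyclic hcyc ?_ ?_ fun x hx hx1 => ?_
    · intro a ha
      rw [Subgroup.mem_normalizer_iff]
      intro y
      have hn : (Cfsg.oddCore C).Normal := inferInstance
      constructor
      · rintro ⟨o, ho, rfl⟩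
        exact ⟨⟨a, ha.2⟩ * o * ⟨a, ha.2⟩⁻¹, hn.conj_mem o ho _, rfl⟩
      · rintro ⟨o, ho, he⟩
        refine ⟨⟨a, ha.2⟩⁻¹ * o * ⟨a, ha.2⟩, by simpa using hn.conj_mem o ho ⟨a, ha.2⟩⁻¹, ?_⟩
        show a⁻¹ * (o : G) * a = y
        rw [show (o : G) = a * y * a⁻¹ from he]
        group
    · rw [hA4, show 4 = 2 ^ 2 by norm_num]
      exact (Nat.coprime_two_left.2 hOodd).pow_left 2
    · exact inf_le_right.trans (H.centralizer_le hx.1 hx1)
  intro g hg
  have hz := BrauerSuzukiQ.zstar hiso ⟨g, hg⟩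
  have hmem : g * c * g⁻¹ ∈ M := by
    have hd : c * g * c⁻¹ * g⁻¹ ∈ O := ⟨_, hz, rfl⟩
    have e : g * c * g⁻¹ = c * (c * g * c⁻¹ * g⁻¹) := by
      have hcc := H.sq c hc
      rw [Involution.inv_eq_self hcc, show c * (c * g * c * g⁻¹) = (c * c) * (g * c * g⁻¹) by group,
        hcc, one_mul]
    rw [e]
    exact M.mul_mem (Subgroup.le_normalizer hc) (hOM hd)
  exact H.mem_normalizer hc hc1
    (H.mem_of_conj_normalizer ((H.conj c hc hc1).trans (isConj_iff.2 ⟨g, rfl⟩)) hmem)

theorem normalizer_eq_top (hother : ∃ i : G, orderOf i = 2 ∧ ¬ IsConj H.s i) :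
    Subgroup.normalizer (H.V : Set G) = ⊤ := by
  by_contra hne
  set M := Subgroup.normalizer (H.V : Set G)
  obtain ⟨i, hi, hni⟩ := hother
  refine hni (SECount.isConj_invo (H := M) ?_ H.hs hi)
  refine (Involution.isStronglyEmbedded_iff M).2 ⟨hne, ?_, fun t htM ht g hg => ?_⟩
  · rw [even_iff_two_dvd, H.card_normalizer]; norm_num
  have hgo : orderOf (g * t * g⁻¹) = 2 := by rw [Involution.orderOf_conj_eq]; exact ht
  by_cases htV : t ∈ H.V
  · have ht1 := Involution.ne_one ht
    exact H.mem_normalizer htV ht1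
      (H.mem_of_conj_normalizer ((H.conj t htV ht1).trans (isConj_iff.2 ⟨g, rfl⟩)) hg)
  · have htV' : g * t * g⁻¹ ∉ H.V := fun h => by
      have hc : IsConj H.s t :=
        (H.conj _ h (Involution.ne_one hgo)).trans (isConj_iff.2 ⟨g, rfl⟩).symm
      exact htV (H.mem_of_conj_normalizer hc htM)
    obtain ⟨-, c, hc, hc1, hct, -⟩ := H.transvection ht htM htV
    have hmem : g * c * g⁻¹ ∈ M := H.centralizer_le_of_not_mem hgo hg htV'
      (Subgroup.mem_centralizer_singleton_iff.2 ((conj_commute_iff g c t).2 hct))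
    exact H.mem_normalizer hc hc1
      (H.mem_of_conj_normalizer ((H.conj c hc hc1).trans (isConj_iff.2 ⟨g, rfl⟩)) hmem)

end EightHyp

theorem caseI {G : Type*} [Group G] [Finite G] (s : G) (hs : orderOf s = 2) (V : Subgroup G)
    (hV : Nat.card V = 8) (hsq : ∀ u ∈ V, u * u = 1) (hcomm : ∀ u ∈ V, ∀ v ∈ V, u * v = v * u)
    (hsV : s ∈ V) (hcent : ∀ x : G, (∀ v ∈ V, x * v = v * x) → x ∈ V)
    (hclass : ∀ x : G, IsConj s x → x * s = s * x → x ∈ V)
    (hconj : ∀ v ∈ V, v ≠ 1 → IsConj s v)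
    (hL : Nat.card (Subgroup.centralizer ({s} : Set G)) = 192)
    (hother : ∃ i : G, orderOf i = 2 ∧ ¬ IsConj s i) :
    ∃ (N : Subgroup G) (_ : N.Normal), IsMulCommutative N ∧ (∀ n ∈ N, n ^ 2 = 1) ∧
      Nat.card N = 8 ∧
      Nonempty (G ⧸ N ≃* Matrix.ProjectiveSpecialLinearGroup (Fin 3) (ZMod 2)) := by
  let H : EightHyp G := ⟨s, V, hs, hV, hsq, hcomm, hsV, hcent, hclass, hconj, hL⟩
  have htop : Subgroup.normalizer (V : Set G) = ⊤ := H.normalizer_eq_top hother
  haveI hVn : V.Normal := Subgroup.normalizer_eq_top_iff.1 htop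
  have hG : Nat.card G = 1344 := by
    have h := H.card_normalizer
    rw [show Subgroup.normalizer (H.V : Set G) = ⊤ from htop, Subgroup.card_top] at h
    omega
  exact ⟨V, hVn, ⟨⟨fun u v => Subtype.ext (hcomm u u.2 v v.2)⟩⟩,
    fun n hn => by rw [pow_two, hsq n hn], hV, quotient_psl32 V hV hsq hcomm hcent hG⟩

end Cfsg.Agent.Lib.S3344
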