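import Cfsg.Agent.Lib.S3344.DataM

/-!
The relators of the whole table from the local facts.
-/

set_option autoImplicit false
set_option maxRecDepth 20000

namespace Cfsg.Agent.Lib.S3344

/-- The local facts about the two further elements. -/
structure Gen {G : Type*} [Group G] (f : ℕ → G) (h h' : G) : Prop where
  tab : FTab f
  swapsA : Swaps f domA swapA h
  swapsB : Swaps f domB swapB h'
  namA : ∀ w ∈ namedA, evalE (letE f h h') w = 1
  namB : ∀ w ∈ namedB, evalE (letE f h h') w = 1
  cube : evalE (letE f h h') cubeAB = 1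
  wA : ∃ c ∈ vA, evalE (letE f h h') wordA = f c
  wB : ∃ c ∈ vB, evalE (letE f h h') wordB = f c
  wE : ∃ c ∈ eAB, evalE (letE f h h') wordE = f c

theorem Gen.relsM {G : Type*} [Group G] {f : ℕ → G} {h h' : G} (H : Gen f h h') :
    ∀ w ∈ relsM, evalE (letE f h h') w = 1 := by
  have F := H.tab
  have SA : Swaps f domA swapA (letE f h h' 192) := by simpa [letE] using H.swapsA
  have SB : Swaps f domB swapB (letE f h h' 193) := by simpa [letE] using H.swapsB
  have hA := List.all_eq_true.1 knownA_check
  have hB := List.all_eq_true.1 knownB_check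
  have kA : ∀ w ∈ relsA, evalE (letE f h h') w = 1 := fun w hw =>
    knownOK_sound F SA H.namA (hA w hw)
  have kB : ∀ w ∈ relsB, evalE (letE f h h') w = 1 := fun w hw =>
    knownOK_sound F SB H.namB (hB w hw)
  obtain ⟨a, ha, ea⟩ := H.wA
  obtain ⟨b, hb, eb⟩ := H.wB
  obtain ⟨e, he, ee⟩ := H.wE
  have pA := pinOK_sound F kA pinA_check ha ea
  have pB := pinOK_sound F kB pinB_check hb eb
  have lA := (closedTbl_sound F (rels := wordA :: relsA)
    (List.forall_mem_cons.2 ⟨pA, kA⟩) closedA_check).1
  have lB := (closedTbl_sound F (rels := wordB :: relsB)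
    (List.forall_mem_cons.2 ⟨pB, kB⟩) closedB_check).1
  have nA : ∀ w ∈ namedA ++ cubeAB :: loopsA, evalE (letE f h h') w = 1 := by
    simp only [List.mem_append, List.mem_cons]
    rintro w (hw | rfl | hw)
    exacts [H.namA w hw, H.cube, lA w hw]
  have nB : ∀ w ∈ namedB ++ cubeAB :: loopsB, evalE (letE f h h') w = 1 := by
    simp only [List.mem_append, List.mem_cons]
    rintro w (hw | rfl | hw)
    exacts [H.namB w hw, H.cube, lB w hw]
  have kP : ∀ w ∈ relsP, evalE (letE f h h') w = 1 := fun w hw => by
    rcases Bool.or_eq_true_iff.1 (List.all_eq_true.1 knownP_check w hw) with h1 | h1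
    exacts [knownOK_sound F SA nA h1, knownOK_sound F SB nB h1]
  have hsyn : synW wordP = synW wordE := by simpa using syn_word_check
  have pP := pinOK_sound F kP pinP_check he (by rw [evalE_eq_of_syn F hsyn, ee])
  rw [evalE_eq_of_syn F hsyn] at pP
  intro w hw
  rcases Bool.or_eq_true_iff.1 (List.all_eq_true.1 knownM_check w hw) with h1 | h1
  · refine knownOK_sound F SA ?_ h1
    simp only [List.mem_append, List.mem_cons]
    rintro v (hv | rfl | rfl | hv)
    exacts [H.namA v hv, H.cube, pP, lA v hv]
  · refine knownOK_sound F SB ?_ h1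
    simp only [List.mem_append, List.mem_cons]
    rintro v (hv | rfl | rfl | hv)
    exacts [H.namB v hv, H.cube, pP, lB v hv]

end Cfsg.Agent.Lib.S3344
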