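import Cfsg.Agent.Lib.S3344.Act
import Cfsg.Agent.Lib.S3344.Relators
import Cfsg.Agent.Lib.S3344.Build8

/-!
The local facts follow from the actions of the two swapping elements.
-/

set_option autoImplicit false
set_option maxRecDepth 20000

namespace Cfsg.Agent.Lib.S3344

/-- The map of a letter. -/
noncomputable def stepOf (g : ℕ) : ℕ → Option ℕ :=
  if g < 192 then inL g else if g = 192 then inS domA swapA else inS domB swapB

/-- The action of a word. -/
noncomputable def actW (w : List ℕ) : ℕ → Option ℕ := chain (w.map stepOf)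

/-- The power of a word is pinned to a list of elements by its action and by commuting with the word. -/
noncomputable def pinW (w : List ℕ) (k : ℕ) (tests allowed : List ℕ) : Bool :=
  (actW (List.replicate k w).flatten 16 == some 16) &&
    (List.range 192).all fun a => allowed.elem a ||
      (actW w a).any (fun y => !(y == a)) ||
      tests.any fun x => (actW (List.replicate k w).flatten x).any fun y => !(inL a x == some y)

/-- A word is a pinned power times an element of the table. -/
noncomputable def namedOK (tests : List ℕ) (item : List ℕ) (w : List ℕ) (k c : ℕ) (tail : List ℕ) : Bool :=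
  pinW w k tests [c] && decide (c < 192) && synW item == synW ((List.replicate k w).flatten ++ tail) &&
    synW tail == (invB c, [])

variable {G : Type*} [Group G] {s : G} {f : ℕ → G} {h h' : G}

theorem moves_word (F : FTab f) (SA : Swaps f domA swapA h) (SB : Swaps f domB swapB h')
    (w : List ℕ) : Moves f (evalE (letE f h h') w) (actW w) := by
  refine moves_chain ?_
  rw [List.forall₂_map_left_iff, List.forall₂_map_right_iff, List.forall₂_same]
  intro g _
  simp only [letE, stepOf]
  split_ifs
  exacts [moves_inL F g, moves_inS SA, moves_inS SB]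

theorem evalE_flatten (φ : ℕ → G) (w : List ℕ) : ∀ k,
    evalE φ (List.replicate k w).flatten = evalE φ w ^ k
  | 0 => by simp [evalE]
  | k + 1 => by
    rw [List.replicate_succ, List.flatten_cons, evalE_append, evalE_flatten φ w k, pow_succ']

theorem pinW_sound (T : Tab mulB s f) (SA : Swaps f domA swapA h) (SB : Swaps f domB swapB h')
    {w tests allowed : List ℕ} {k : ℕ} (hp : pinW w k tests allowed = true) :
    ∃ a ∈ allowed, evalE (letE f h h') w ^ k = f a := by
  simp only [pinW, Bool.and_eq_true, beq_iff_eq, List.all_eq_true, List.mem_range,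
    Bool.or_eq_true, List.any_eq_true, Option.any_eq_true, Bool.not_eq_true', beq_eq_false_iff_ne,
    List.elem_eq_mem, decide_eq_true_eq] at hp
  have F := T.ftab
  obtain ⟨a, ha, e, hact⟩ := (moves_word F SA SB _).exists_index T hp.1
  rw [evalE_flatten] at e
  rcases hp.2 a ha with (h1 | ⟨y, hy, hne⟩) | ⟨x, -, y, hy, hne⟩
  · exact ⟨a, h1, e⟩
  · exfalso
    obtain ⟨-, hy', e2⟩ := moves_word F SA SB w a y hy
    refine hne (F.inj y hy' a ha ?_)
    rw [← e2, ← e, ← pow_succ', pow_succ, mul_inv_cancel_right]
  · exact absurd (hact x y hy) hne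

theorem namedOK_sound (T : Tab mulB s f) (SA : Swaps f domA swapA h) (SB : Swaps f domB swapB h')
    {tests item w tail : List ℕ} {k c : ℕ} (hn : namedOK tests item w k c tail = true) :
    evalE (letE f h h') item = 1 := by
  simp only [namedOK, Bool.and_eq_true, beq_iff_eq, decide_eq_true_eq] at hn
  obtain ⟨⟨⟨hp, hc⟩, hs⟩, ht⟩ := hn
  have F := T.ftab
  obtain ⟨a, ha, e⟩ := pinW_sound T SA SB hp
  obtain rfl := List.mem_singleton.1 ha
  rw [evalE_eq_of_syn F hs, evalE_append, evalE_flatten, e, evalE_label F ht, F.inv hc,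
    mul_inv_cancel]

theorem pins_check :
    namedOK domA (namedA.getD 0 []) [192, 32, 1, 32, 32] 3 0 [] = true ∧
    namedOK domA (namedA.getD 1 []) [192, 32, 192, 32, 1] 7 0 [] = true ∧
    namedOK domA (namedA.getD 2 []) [192, 32] 7 0 [] = true ∧
    namedOK domB (namedB.getD 0 []) [193, 1] 3 13 (wordsT.getD (invB 13) []) = true ∧
    namedOK domB (namedB.getD 1 []) [193, 32, 193, 32, 4] 7 0 [] = true ∧
    namedOK domB (namedB.getD 2 []) [193, 32] 7 0 [] = true ∧
    pinW [192, 193] 3 eAB [0, 14, 96, 110] = true ∧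
    pinW wordA 1 vA vA = true ∧ pinW wordB 1 vB vB = true ∧ pinW wordE 1 eAB eAB = true ∧
    namedA.length = 3 ∧ namedB.length = 3 := by
  decide +kernel

/-- Two swapping elements whose product has order three give the alternating group of degree
eight. -/
theorem exists_embedding (T : Tab mulB s f) (SA : Swaps f domA swapA h) (SB : Swaps f domB swapB h')
    (hcube : (h * h') ^ 3 = 1) :
    ∃ ψ : alternatingGroup (Fin 8) →* G, Function.Injective ψ ∧
      ∀ g, ∀ hg : g < 192, ψ ⟨f8 g, Equiv.Perm.mem_alternatingGroup.2 (even8.1 g hg)⟩ = f g := by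
  obtain ⟨a0, a1, a2, b0, b1, b2, -, wA, wB, wE, lA, lB⟩ := pins_check
  refine exists_altEight T.ftab SA.sq SB.sq (Gen.relsM
    { tab := T.ftab, swapsA := SA, swapsB := SB, namA := ?_, namB := ?_, cube := ?_
      wA := ?_, wB := ?_, wE := ?_ })
  · intro w hw
    obtain ⟨i, hi, rfl⟩ := List.getElem_of_mem hw
    rw [List.getElem_eq_getD []]
    rw [lA] at hi
    interval_cases i
    exacts [namedOK_sound T SA SB a0, namedOK_sound T SA SB a1, namedOK_sound T SA SB a2]
  · intro w hw
    obtain ⟨i, hi, rfl⟩ := List.getElem_of_mem hw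
    rw [List.getElem_eq_getD []]
    rw [lB] at hi
    interval_cases i
    exacts [namedOK_sound T SA SB b0, namedOK_sound T SA SB b1, namedOK_sound T SA SB b2]
  · rw [show cubeAB = (List.replicate 3 [192, 193]).flatten from rfl, evalE_flatten]
    simpa [evalE, letE] using hcube
  · obtain ⟨c, hc, e⟩ := pinW_sound T SA SB wA
    exact ⟨c, hc, by rw [← e, pow_one]⟩
  · obtain ⟨c, hc, e⟩ := pinW_sound T SA SB wB
    exact ⟨c, hc, by rw [← e, pow_one]⟩
  · obtain ⟨c, hc, e⟩ := pinW_sound T SA SB wE
    exact ⟨c, hc, by rw [← e, pow_one]⟩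

theorem gauge_check :
    actW [192, 193] 27 = some (ent swapA (ent swapB 27)) ∧
    actW [192, 193, 192, 193] 27 = some (ent swapA (ent swapB (ent swapA (ent swapB 27)))) ∧
    mulB (mulB (mulB (ent swapA (ent swapB 27)) (ent swapA (ent swapB (ent swapA (ent swapB 27))))) 110)
      27 = 0 ∧
    ent swapA 14 = 96 ∧ ent swapA 96 = 14 ∧ ent swapA 110 = 110 ∧ ent swapB 27 = 27 ∧
    mulB 27 27 = 0 ∧ List.elem 27 domB = true ∧
    ((domB.all fun x => (ent swapB (mulB (mulB 27 x) 27) == ent swapB x) &&
      List.elem (mulB (mulB 27 x) 27) domB) = true) ∧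
    [14, 96, 110].all (fun x => List.elem x domA) = true := by
  decide +kernel

/-- The second swapping element can be chosen so that the product has order three. -/
theorem exists_gauge (T : Tab mulB s f) (SA : Swaps f domA swapA h) (SB : Swaps f domB swapB h') :
    ∃ k, Swaps f domB swapB k ∧ (h * k) ^ 3 = 1 := by
  obtain ⟨-, -, -, -, -, -, hu, -, -, -, -, -⟩ := pins_check
  obtain ⟨g1, g2, g3, e14, e96, -, e27, z2, z27, hz, hdA⟩ := gauge_check
  have F := T.ftab
  obtain ⟨a, ha, e⟩ := pinW_sound T SA SB hu
  simp only [evalE, List.map_cons, List.map_nil, List.prod_cons, List.prod_nil, mul_one, letE,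
    show ¬ 193 < 192 by norm_num, show ¬ 192 < 192 by norm_num, if_false, if_true,
    show ¬ (193 : ℕ) = 192 by norm_num] at e
  simp only [List.mem_cons, List.not_mem_nil, or_false] at ha
  rcases ha with rfl | rfl | rfl | rfl
  · exact ⟨h', SB, by rw [e, F.one]⟩
  · exfalso
    have hin : h * (h * h') ^ 3 * h = ((h * h') ^ 3)⁻¹ := by
      have ih : h⁻¹ = h := inv_eq_of_mul_eq_one_right SA.sq
      have ih' : h'⁻¹ = h' := inv_eq_of_mul_eq_one_right SB.sq
      have hc : ∀ r : G, h * (h * r) = r := fun r => by rw [← mul_assoc, SA.sq, one_mul]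
      simp only [pow_succ, pow_zero, one_mul, mul_inv_rev, ih, ih', mul_assoc, hc]
    obtain ⟨-, -, e1⟩ := SA.conj 14 (by
      simp only [List.all_eq_true, List.elem_eq_mem, decide_eq_true_eq] at hdA
      exact hdA 14 (by simp))
    rw [e, e1, ← F.inv (by norm_num), e14] at hin
    exact absurd (F.inj 96 (by norm_num) _ (invB_spec (by norm_num)).1 hin) (by decide +kernel)
  · exfalso
    have hin : h * (h * h') ^ 3 * h = ((h * h') ^ 3)⁻¹ := by
      have ih : h⁻¹ = h := inv_eq_of_mul_eq_one_right SA.sq
      have ih' : h'⁻¹ = h' := inv_eq_of_mul_eq_one_right SB.sq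
      have hc : ∀ r : G, h * (h * r) = r := fun r => by rw [← mul_assoc, SA.sq, one_mul]
      simp only [pow_succ, pow_zero, one_mul, mul_inv_rev, ih, ih', mul_assoc, hc]
    obtain ⟨-, -, e1⟩ := SA.conj 96 (by
      simp only [List.all_eq_true, List.elem_eq_mem, decide_eq_true_eq] at hdA
      exact hdA 96 (by simp))
    rw [e, e1, ← F.inv (by norm_num), e96] at hin
    exact absurd (F.inj 14 (by norm_num) _ (invB_spec (by norm_num)).1 hin) (by decide +kernel)
  · obtain ⟨-, -, e1⟩ := SB.conj 27 (by simpa using z27)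
    rw [e27] at e1
    have hff : f 27 * f 27 = 1 := by rw [← F.mul 27 (by norm_num) 27 (by norm_num), z2, F.one]
    refine ⟨h' * f 27, ⟨?_, ?_⟩, ?_⟩
    · calc h' * f 27 * (h' * f 27) = (h' * f 27 * h') * f 27 := by group
        _ = 1 := by rw [e1, hff]
    · intro x hx
      obtain ⟨hx1, hx2, e2⟩ := SB.conj x hx
      refine ⟨hx1, hx2, ?_⟩
      simp only [List.all_eq_true, Bool.and_eq_true, beq_iff_eq, List.elem_eq_mem,
        decide_eq_true_eq] at hz
      obtain ⟨hz1, hz2⟩ := hz x hx
      obtain ⟨-, -, e3⟩ := SB.conj _ hz2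
      have hc : h' * f 27 = f 27 * h' := by
        calc h' * f 27 = (h' * f 27 * h') * h' := by rw [mul_assoc _ h' h', SB.sq, mul_one]
          _ = _ := by rw [e1]
      calc h' * f 27 * f x * (h' * f 27) = h' * (f 27 * f x * f 27) * h' := by
            conv_lhs => arg 2; rw [hc]
            group
        _ = h' * f (mulB (mulB 27 x) 27) * h' := by
            rw [F.mul _ (mulB_lt (by norm_num) hx1) _ (by norm_num), F.mul 27 (by norm_num) x hx1]
        _ = f (ent swapB x) := by rw [e3, hz1]
    · obtain ⟨-, h1', m1⟩ := moves_word F SA SB [192, 193] 27 _ g1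
      obtain ⟨-, h2', m2⟩ := moves_word F SA SB [192, 193, 192, 193] 27 _ g2
      simp only [evalE, List.map_cons, List.map_nil, List.prod_cons, List.prod_nil, mul_one, letE,
        show ¬ 193 < 192 by norm_num, show ¬ 192 < 192 by norm_num, if_false, if_true,
        show ¬ (193 : ℕ) = 192 by norm_num] at m1 m2
      calc (h * (h' * f 27)) ^ 3
          = (h * h' * f 27 * (h * h')⁻¹) * ((h * (h' * (h * h'))) * f 27 * (h * (h' * (h * h')))⁻¹) *
              (h * h') ^ 3 * f 27 := by simp only [pow_succ, pow_zero, one_mul]; group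
        _ = 1 := by
          rw [m1, m2, e, ← F.mul _ h1' _ h2', ← F.mul _ (mulB_lt h1' h2') _ (by norm_num),
            ← F.mul _ (mulB_lt (mulB_lt h1' h2') (by norm_num)) _ (by norm_num), g3, F.one]

end Cfsg.Agent.Lib.S3344
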