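import Cfsg.Agent.Lib.S3344.Side
import Cfsg.Agent.Lib.S3344.Pins
import Cfsg.Agent.Lib.S3344.AltNine
import Cfsg.Agent.Lib.S3344.CaseI

/-!
The table with exchanged quaternion groups: an extension of an elementary abelian group of order 8,
or the alternating group of degree 8 or 9.
-/

set_option autoImplicit false
set_option maxRecDepth 20000
set_option maxHeartbeats 1000000

namespace Cfsg.Agent.Lib.S3344

/-- Conjugate inside the table. -/
noncomputable def conjL (i j : ℕ) : Bool := (List.range 192).any fun l => inL l i == some j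

theorem class_check :
    conjL (ent autSwap 5) 5 = true ∧ conjL (ent autSwap (ent sigSix 5)) (ent sigSeven 5) = true ∧
    conjL (ent sigOne (ent sigSix 5)) (ent sigSix 5) = true ∧ ent sigOne 5 = 5 ∧
    conjL 25 (ent sigSeven 5) = true ∧ conjL (ent sigSix 5) (ent autSix 5) = true ∧
    mulB (ent sigSix 5) (ent sigSix 5) = 0 ∧ ent sigSix 5 < 192 ∧ ent sigSix 5 ≠ 0 ∧
    ent sigSeven 5 < 192 := by
  decide +kernel

theorem orbit_five_check : ((List.range 32).all fun q => Nat.beq q 0 || Nat.beq q 16 ||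
    !(Nat.beq (mulB q q) 0) ||
      [5, ent autSix 5, ent autSeven 5].any fun c => conjL q c) = true := by
  decide +kernel

theorem vA_check :
    (vA.all fun a => vA.all fun b => vA.elem (mulB a b) && Nat.beq (mulB a b) (mulB b a)) = true ∧
    (vA.all fun a => Nat.beq (mulB a a) 0 && (Nat.beq a 0 || Nat.beq a 16 || conjL a 5)) = true ∧
    ((List.range 192).all fun a => vA.elem a ||
      vA.any fun v => !(Nat.beq (mulB a v) (mulB v a))) = true := by
  decide +kernel

/-- A commutator of an index with an element of `vA`. -/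
noncomputable def commV (b v : ℕ) : ℕ := mulB (mulB (mulB b v) b) v

theorem outer_check : ((List.range 192).all fun b => Nat.beq b 0 || !(Nat.beq (mulB b b) 0) ||
    Nat.blt b 32 ||
      vA.any fun c => (Nat.beq c 16 || conjL c 5) && Nat.beq (mulB b c) (mulB c b) &&
        vA.all fun v => Nat.beq (commV b v) 0 || Nat.beq (commV b v) c) = true ∧
    ((List.range 192).all fun b => Nat.beq b 0 || !(Nat.beq (mulB b b) 0) ||
      !(vA.all fun v => Nat.beq (commV b v) 0 || Nat.beq (commV b v) 16) ||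
        vA.elem b || conjL b (ent sigSix 5) || conjL b (ent sigSeven 5)) = true ∧
    ((List.range 32).all fun b => Nat.beq b 0 || !(Nat.beq (mulB b b) 0) || vA.elem b ||
      conjL b (ent sigSix 5) || conjL b (ent sigSeven 5)) = true := by
  decide +kernel

theorem wrong_side_check :
    noElement (chain [inS domA swapA, inS domB swapB', inS domA swapA, inS domB swapB',
      inS domA swapA]) eAB = true ∧
    noElement (chain [inS domA swapA, inS domC swapC, inS domB swapB, inS domC swapC]) eAB = true ∧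
    noElement (chain [inS domC swapC', inS domA swapA, inS domB swapB, inS domC swapC']) eAB = true := by
  decide +kernel

variable {G : Type*} [Group G] {s : G} {f : ℕ → G}

theorem isConj_of_conjL (F : FTab f) {i j : ℕ} (h : conjL i j = true) : IsConj (f i) (f j) := by
  simp only [conjL, List.any_eq_true, beq_iff_eq] at h
  obtain ⟨l, -, hl⟩ := h
  exact isConj_iff.2 ⟨f l, inL_eq_some F hl⟩

theorem autOK_spec {code : ℕ} (h : autOK code = true) :
    (∀ i < 192, ent code i < 192) ∧ ent code 0 = 0 ∧ ent code 16 = 16 ∧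
      (∀ i < 192, ∀ j < 192, ent code (mulB i j) = mulB (ent code i) (ent code j)) ∧
      ∀ i < 192, ∃ j < 192, ent code j = i := by
  simp only [autOK, Bool.and_eq_true, List.all_eq_true, List.mem_range, Nat.blt_eq,
    MTwelveInv.beq_true_iff, List.any_eq_true] at h
  exact ⟨h.1.1.1, h.1.1.2.1, h.1.1.2.2, h.1.2, h.2⟩

/-- Composition of a table with an automorphism. -/
theorem Tab.compAut (T : Tab mulB s f) {code : ℕ} (h : autOK code = true) :
    Tab mulB s fun i => f (ent code i) := by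
  obtain ⟨hlt, h0, h16, hmul, hsurj⟩ := autOK_spec h
  have hinj : ∀ i < 192, ∀ j < 192, ent code i = ent code j → i = j := by
    let e : Fin 192 → Fin 192 := fun i => ⟨ent code i, hlt i i.2⟩
    have he : Function.Surjective e := fun i => by
      obtain ⟨j, hj, e'⟩ := hsurj i i.2
      exact ⟨⟨j, hj⟩, Fin.ext e'⟩
    intro i hi j hj e'
    exact congrArg Fin.val ((Finite.injective_iff_surjective.2 he)
      (show e ⟨i, hi⟩ = e ⟨j, hj⟩ from Fin.ext e'))
  refine ⟨by simp only [h0, T.one], by simp only [h16, T.inv_eq],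
    fun i hi j hj e => hinj i hi j hj (T.inj _ (hlt i hi) _ (hlt j hj) e),
    fun i hi j hj => by simp only [hmul i hi j hj]; exact T.mul _ (hlt i hi) _ (hlt j hj),
    fun y => ?_⟩
  rw [T.range]
  constructor
  · rintro ⟨i, hi, rfl⟩
    obtain ⟨j, hj, e⟩ := hsurj i hi
    exact ⟨j, hj, congrArg f e⟩
  · rintro ⟨j, hj, rfl⟩
    exact ⟨_, hlt j hj, rfl⟩

/-- A swapping element seen through an automorphism. -/
theorem Swaps.carry {sig code code' : ℕ} {dom' : List ℕ} {h : G} (hsig : autOK sig = true)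
    (hc : carries sig code code' dom' = true) (S : Swaps (fun i => f (ent sig i)) domA code h) :
    Swaps f dom' code' h := by
  obtain ⟨hlt, -⟩ := autOK_spec hsig
  simp only [carries, Bool.and_eq_true, List.all_eq_true, List.any_eq_true, List.elem_eq_mem,
    decide_eq_true_eq, MTwelveInv.beq_true_iff] at hc
  refine ⟨S.sq, fun y hy => ?_⟩
  obtain ⟨x, hx, rfl⟩ := hc.2 y hy
  obtain ⟨hx1, hx2, hx3⟩ := S.conj x hx
  exact ⟨hlt x hx1, by rw [(hc.1 x hx).2]; exact hlt _ hx2, by rw [(hc.1 x hx).2]; exact hx3⟩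

/-- The inverse direction of `Swaps.carry`, for an automorphism of the first side. -/
theorem Swaps.relabel {sig code code' : ℕ} {h : G} (_hsig : autOK sig = true)
    (hc : carries sig code code' domA = true) (hD : ∀ x ∈ domA, x < 192 ∧ ent code x < 192)
    (S : Swaps f domA code' h) : Swaps (fun i => f (ent sig i)) domA code h := by
  simp only [carries, Bool.and_eq_true, List.all_eq_true, List.elem_eq_mem,
    decide_eq_true_eq, MTwelveInv.beq_true_iff] at hc
  refine ⟨S.sq, fun x hx => ⟨(hD x hx).1, (hD x hx).2, ?_⟩⟩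
  obtain ⟨-, -, e⟩ := S.conj _ (hc.1 x hx).1
  rw [e, (hc.1 x hx).2]

/-- An element swapping the pair, after possibly relabelling. -/
theorem exists_swapA (T : Tab mulB s f) (h5 : IsConj s (f 5)) :
    ∃ (f' : ℕ → G) (h : G), Tab mulB s f' ∧ IsConj s (f' 5) ∧ Swaps f' domA swapA h ∧
      (IsConj s (f (ent sigSix 5)) → IsConj s (f' (ent sigSix 5))) := by
  obtain ⟨-, -, -, h, hA | hA⟩ := exists_side T h5
  · exact ⟨f, h, T, h5, hA, id⟩
  · have hD : ∀ x ∈ domA, x < 192 ∧ ent swapA x < 192 := by decide +kernel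
    obtain ⟨-, -, c1, c5, -⟩ := class_check
    refine ⟨_, h, T.compAut sigOne_ok, by simpa only [c5] using h5,
      hA.relabel sigOne_ok carries_check.1 hD, fun h6 => h6.trans ?_⟩
    exact (isConj_of_conjL T.ftab c1).symm

/-- With two classes fused, the group is the alternating group of degree 8 or 9. -/
theorem caseEight [Finite G] (T : Tab mulB s f) (h5 : IsConj s (f 5))
    (h6 : IsConj s (f (ent sigSix 5))) :
    Nonempty (G ≃* alternatingGroup (Fin 8)) ∨ Nonempty (G ≃* alternatingGroup (Fin 9)) := by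
  obtain ⟨f, h, T, h5, SA, h6'⟩ := exists_swapA T h5
  replace h6 := h6' h6
  obtain ⟨-, k1, k2, k3, k4⟩ := carries_check
  obtain ⟨w1, w2, w3⟩ := wrong_side_check
  obtain ⟨-, -, -, h', hB⟩ := exists_side (T.compAut sigSix_ok) h6
  have SB : Swaps f domB swapB h' := by
    rcases hB with hB | hB
    · exact hB.carry sigSix_ok k1
    · exfalso
      have mB := moves_inS (hB.carry sigSix_ok k2)
      have mA := moves_inS SA
      exact noElement_false T (moves_chain (List.Forall₂.cons mA (List.Forall₂.cons mB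
        (List.Forall₂.cons mA (List.Forall₂.cons mB (List.Forall₂.cons mA List.Forall₂.nil)))))) w1
  have h7 : ¬ IsConj s (f (ent sigSeven 5)) := by
    intro h7
    obtain ⟨-, -, -, k, hC⟩ := exists_side (T.compAut sigSeven_ok) h7
    have mA := moves_inS SA
    have mB := moves_inS SB
    rcases hC with hC | hC
    · have mC := moves_inS (hC.carry sigSeven_ok k3)
      exact noElement_false T (moves_chain (List.Forall₂.cons mA (List.Forall₂.cons mC
        (List.Forall₂.cons mB (List.Forall₂.cons mC List.Forall₂.nil))))) w2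
    · have mC := moves_inS (hC.carry sigSeven_ok k4)
      exact noElement_false T (moves_chain (List.Forall₂.cons mC (List.Forall₂.cons mA
        (List.Forall₂.cons mB (List.Forall₂.cons mC List.Forall₂.nil))))) w3
  obtain ⟨k, SK, hcube⟩ := exists_gauge T SA SB
  obtain ⟨ψ, hψ, hval⟩ := exists_embedding T SA SK hcube
  let e : ψ.range ≃* alternatingGroup (Fin 8) := (MonoidHom.ofInjective hψ).symm
  have hz : ∀ g, ∀ hg : g < 192, f g ∈ ψ.range := fun g hg => ⟨_, hval g hg⟩
  have he : ∀ g, ∀ hg : g < 192,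
      ((e ⟨f g, hz g hg⟩ : alternatingGroup (Fin 8)) : Equiv.Perm (Fin 8)) = f8 g := by
    intro g hg
    have : e ⟨f g, hz g hg⟩ = ⟨f8 g, Equiv.Perm.mem_alternatingGroup.2 (even8.1 g hg)⟩ := by
      refine (MonoidHom.ofInjective hψ).symm_apply_eq.2 (Subtype.ext ?_)
      exact (hval g hg).symm
    rw [this]
  have hCs : Subgroup.centralizer {((⟨f 16, hz 16 (by norm_num)⟩ : ψ.range) : G)} ≤ ψ.range := by
    intro y hy
    rw [Subgroup.mem_centralizer_singleton_iff] at hy
    simp only [T.inv_eq] at hy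
    obtain ⟨i, hi, rfl⟩ := (T.range y).1 hy
    exact hz i hi
  have hne : ¬ IsConj (f 16) (f 25) := fun hc => h7 (by
    rw [T.inv_eq] at hc
    exact hc.trans (isConj_of_conjL T.ftab class_check.2.2.2.2.1))
  rcases eq_top_or_altNine ψ.range e ⟨f 16, hz 16 (by norm_num)⟩ ⟨f 25, hz 25 (by norm_num)⟩
    (by rw [he 16 (by norm_num), special8.1]; rfl) (by rw [he 25 (by norm_num), special8.2]) hCs hne with
    ht | h9
  · exact Or.inl ⟨((MulEquiv.subgroupCongr ht).trans Subgroup.topEquiv).symm.trans e⟩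
  · exact Or.inr h9

/-- With one class fused, an elementary abelian subgroup of order 8 is normal. -/
theorem caseOne [Finite G] (hs : orderOf s = 2) (T : Tab mulB s f) (h5 : IsConj s (f 5))
    (h6 : ¬ IsConj s (f (ent sigSix 5))) (h7 : ¬ IsConj s (f (ent sigSeven 5))) :
    ∃ (N : Subgroup G) (_ : N.Normal), IsMulCommutative N ∧ (∀ n ∈ N, n ^ 2 = 1) ∧ Nat.card N = 8 ∧
      Nonempty (G ⧸ N ≃* Matrix.ProjectiveSpecialLinearGroup (Fin 3) (ZMod 2)) := by
  have F := T.ftab
  have h16 : (16 : ℕ) < 192 := by norm_num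
  have hV : ∀ v ∈ vA, v < 192 := by decide
  obtain ⟨-, -, ⟨k, hkV, hkV', hks⟩, -⟩ := exists_side T h5
  obtain ⟨-, -, -, -, -, -, hd2, hd, hd0, -⟩ := class_check
  obtain ⟨v1, v2, v3⟩ := vA_check
  obtain ⟨o1, o2, o3⟩ := outer_check
  simp only [List.all_eq_true, Bool.and_eq_true, List.elem_eq_mem, decide_eq_true_eq,
    MTwelveInv.beq_true_iff, Bool.or_eq_true] at v1 v2
  simp only [List.all_eq_true, List.mem_range, List.any_eq_true, Bool.or_eq_true, List.elem_eq_mem,
    decide_eq_true_eq, Bool.not_eq_true', MTwelveInv.beq_false_iff] at v3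
  simp only [List.all_eq_true, List.mem_range, List.any_eq_true, Bool.or_eq_true, Bool.and_eq_true,
    List.elem_eq_mem, decide_eq_true_eq, Bool.not_eq_true', MTwelveInv.beq_false_iff,
    MTwelveInv.beq_true_iff, Nat.blt_eq, List.all_eq_false] at o1 o2 o3
  let V : Subgroup G :=
    { carrier := f '' {v | v ∈ vA}
      one_mem' := ⟨0, by decide, T.one⟩
      mul_mem' := by
        rintro _ _ ⟨a, ha, rfl⟩ ⟨b, hb, rfl⟩
        exact ⟨_, (v1 a ha b hb).1, T.mul a (hV a ha) b (hV b hb)⟩
      inv_mem' := by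
        rintro _ ⟨a, ha, rfl⟩
        refine ⟨a, ha, (inv_eq_of_mul_eq_one_right ?_).symm⟩
        rw [← T.mul a (hV a ha) a (hV a ha), (v2 a ha).1, T.one] }
  have hmem : ∀ {x : G}, x ∈ V ↔ ∃ v ∈ vA, f v = x := Iff.rfl
  have hcardV : Nat.card V = 8 := by
    show Nat.card ↥(f '' {v | v ∈ vA}) = 8
    rw [Nat.card_image_of_injOn (s := {v | v ∈ vA}) fun a ha b hb e => T.inj a (hV a ha) b (hV b hb) e]
    show Nat.card {v // v ∈ vA} = 8
    rw [Nat.card_congr (Equiv.subtypeEquivRight (fun v => List.mem_toFinset.symm) :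
      {v // v ∈ vA} ≃ {v // v ∈ vA.toFinset}), Nat.card_eq_finsetCard]
    decide
  have hinvol : ∀ x, IsConj s x → x * x = 1 ∧ x ≠ 1 := fun x hx => by
    obtain ⟨g, rfl⟩ := isConj_iff.1 hx
    have hss : s * s = 1 := by rw [← pow_two, ← hs]; exact pow_orderOf_eq_one s
    refine ⟨by rw [show g * s * g⁻¹ * (g * s * g⁻¹) = g * (s * s) * g⁻¹ by group, hss]; group,
      fun e => ?_⟩
    rw [conj_eq_one_iff] at e
    rw [e, orderOf_one] at hs
    exact absurd hs (by norm_num)
  have hidx : ∀ {b : ℕ}, b < 192 → IsConj s (f b) → b ≠ 0 ∧ mulB b b = 0 := fun hb hc => by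
    obtain ⟨h1, h2⟩ := hinvol _ hc
    refine ⟨fun e => h2 (e ▸ T.one), T.inj _ (mulB_lt hb hb) _ (by norm_num) ?_⟩
    rw [T.mul _ hb _ hb, h1, T.one]
  have hnot : ∀ {b : ℕ}, IsConj s (f b) →
      conjL b (ent sigSix 5) = true ∨ conjL b (ent sigSeven 5) = true → False := fun hc hh => by
    rcases hh with hh | hh
    · exact h6 (hc.trans (isConj_of_conjL F hh))
    · exact h7 (hc.trans (isConj_of_conjL F hh))
  obtain ⟨hLV, -⟩ := exists_side T h5
  refine caseI s hs V hcardV ?_ ?_ ⟨16, by decide, T.inv_eq⟩ ?_ ?_ ?_ ?_ ?_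
  · rintro _ ⟨a, ha, rfl⟩
    rw [← T.mul a (hV a ha) a (hV a ha), (v2 a ha).1, T.one]
  · rintro _ ⟨a, ha, rfl⟩ _ ⟨b, hb, rfl⟩
    rw [← T.mul a (hV a ha) b (hV b hb), (v1 a ha b hb).2, T.mul b (hV b hb) a (hV a ha)]
  · intro x hx
    have hxs := hx _ ⟨16, by decide, T.inv_eq⟩
    obtain ⟨a, ha, rfl⟩ := (T.range x).1 hxs
    rcases v3 a ha with hin | ⟨v, hv, hne⟩
    · exact ⟨a, hin, rfl⟩
    · refine absurd (T.inj _ (mulB_lt ha (hV v hv)) _ (mulB_lt (hV v hv) ha) ?_) hne
      rw [T.mul a ha v (hV v hv), T.mul v (hV v hv) a ha]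
      exact hx _ ⟨v, hv, rfl⟩
  · intro x hx hxs
    obtain ⟨b, hb, rfl⟩ := (T.range x).1 hxs
    obtain ⟨hb0, hb2⟩ := hidx hb hx
    by_cases hb32 : b < 32
    · rcases o3 b hb32 with (((e | e) | e) | e) | e
      · exact absurd e hb0
      · exact absurd hb2 e
      · exact ⟨b, e, rfl⟩
      · exact (hnot hx (Or.inl e)).elim
      · exact (hnot hx (Or.inr e)).elim
    rcases o1 b hb with ((e | e) | e) | ⟨c, hc, ⟨hc5, hcb⟩, hcomm⟩
    · exact absurd e hb0
    · exact absurd hb2 e
    · exact absurd e hb32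
    exfalso
    -- move the commutator to the centre
    obtain ⟨K, hK, hK', hKc⟩ : ∃ K, KeepsV f K ∧ KeepsV f K⁻¹ ∧ K * f c * K⁻¹ = s := by
      rcases hc5 with rfl | hc5
      · exact ⟨1, fun v hv => ⟨v, hv, by group⟩, fun v hv => ⟨v, hv, by group⟩, by rw [T.inv_eq]; group⟩
      · simp only [conjL, List.any_eq_true, List.mem_range, beq_iff_eq] at hc5
        obtain ⟨l, hl, hl5⟩ := hc5
        refine ⟨k⁻¹ * f l, hkV'.mul (hLV _ ((T.range _).2 ⟨l, hl, rfl⟩)), ?_, ?_⟩
        · rw [mul_inv_rev, inv_inv, ← F.inv hl]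
          exact (hLV _ ((T.range _).2 ⟨_, (invB_spec hl).1, rfl⟩)).mul hkV
        · rw [show k⁻¹ * f l * f c * (k⁻¹ * f l)⁻¹ = k⁻¹ * (f l * f c * (f l)⁻¹) * k by group,
            inL_eq_some F hl5, ← hks]
          group
    have hbc : f b * f c = f c * f b := by
      rw [← T.mul b hb c (hV c hc), hcb, T.mul c (hV c hc) b hb]
    obtain ⟨b', hb', hbe⟩ := (T.range (K * f b * K⁻¹)).1 (by
      rw [← hKc]; exact (conj_comm_iff' K _ _).2 hbc)
    have hx' : IsConj s (f b') := hbe ▸ hx.trans (isConj_iff.2 ⟨K, rfl⟩)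
    obtain ⟨hb'0, hb'2⟩ := hidx hb' hx'
    rcases o2 b' hb' with ((((e | e) | ⟨v, hv, hne⟩) | e) | e) | e
    · exact hb'0 e
    · exact e hb'2
    · obtain ⟨w, hw, hwe⟩ := hK' v hv
      have hfv : f v = K * f w * K⁻¹ := by rw [← hwe]; group
      have hlt : ∀ {a u : ℕ}, a < 192 → u < 192 →
          f (commV a u) = f a * f u * f a * f u ∧ commV a u < 192 := fun ha hu =>
        ⟨by rw [commV, T.mul _ (mulB_lt (mulB_lt ha hu) ha) _ hu, T.mul _ (mulB_lt ha hu) _ ha,
          T.mul _ ha _ hu], mulB_lt (mulB_lt (mulB_lt ha hu) ha) hu⟩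
      have hval : f (commV b' v) = K * f (commV b w) * K⁻¹ := by
        rw [(hlt hb' (hV v hv)).1, (hlt hb (hV w hw)).1, hbe, hfv]; group
      rw [not_or] at hne
      rcases hcomm w hw with e' | e'
      · rw [e', T.one, mul_one, mul_inv_cancel, ← T.one] at hval
        exact hne.1 (T.inj _ (hlt hb' (hV v hv)).2 0 (by norm_num) hval)
      · rw [e', hKc, ← T.inv_eq] at hval
        exact hne.2 (T.inj _ (hlt hb' (hV v hv)).2 16 h16 hval)
    · obtain ⟨w, hw, hwe⟩ := hK' b' e
      rw [hbe] at hwe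
      have : f w = f b := by rw [← hwe]; group
      have := T.inj w (hV w hw) b hb this
      subst this
      exact absurd ((show ∀ u ∈ vA, u < 32 by decide) _ hw) hb32
    · exact hnot hx' (Or.inl e)
    · exact hnot hx' (Or.inr e)
  · intro x hx hx1
    obtain ⟨v, hv, rfl⟩ := hmem.1 hx
    rcases (v2 v hv).2 with (rfl | rfl) | e
    · exact absurd T.one hx1
    · rw [T.inv_eq]
    · exact h5.trans (isConj_of_conjL F e).symm
  · rw [← Nat.card_fin 192]
    refine Nat.card_congr (Equiv.ofBijective (fun i : Fin 192 =>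
      (⟨f i, Subgroup.mem_centralizer_singleton_iff.2 ((T.range _).2 ⟨i, i.2, rfl⟩)⟩ :
        Subgroup.centralizer ({s} : Set G))) ⟨fun i j e => ?_, fun x => ?_⟩).symm
    · exact Fin.ext (T.inj i i.2 j j.2 (congrArg Subtype.val e))
    · obtain ⟨i, hi, e⟩ := (T.range x.1).1 (Subgroup.mem_centralizer_singleton_iff.1 x.2)
      exact ⟨⟨i, hi⟩, Subtype.ext e⟩
  · refine ⟨f (ent sigSix 5), orderOf_eq_prime ?_ ?_, h6⟩
    · rw [pow_two, ← T.mul _ hd _ hd, hd2, T.one]
    · exact fun e => hd0 (T.inj _ hd 0 (by norm_num) (e.trans T.one.symm))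

/-- The case of the table with exchanged quaternion groups. -/
theorem caseB [Finite G] (hs : orderOf s = 2) (T : Tab mulB s f) {a : ℕ} (ha : a < 32) (ha0 : a ≠ 0)
    (ha16 : a ≠ 16) (hsq : mulB a a = 0) (hc : IsConj s (f a)) :
    (∃ (N : Subgroup G) (_ : N.Normal), IsMulCommutative N ∧ (∀ n ∈ N, n ^ 2 = 1) ∧ Nat.card N = 8 ∧
        Nonempty (G ⧸ N ≃* Matrix.ProjectiveSpecialLinearGroup (Fin 3) (ZMod 2))) ∨
      Nonempty (G ≃* alternatingGroup (Fin 8)) ∨ Nonempty (G ≃* alternatingGroup (Fin 9)) := by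
  obtain ⟨f, T, h5⟩ : ∃ f' : ℕ → G, Tab mulB s f' ∧ IsConj s (f' 5) := by
    have ho := orbit_five_check
    simp only [List.all_eq_true, List.mem_range] at ho
    have := ho a ha
    rw [hsq, (MTwelveInv.beq_false_iff a 0).2 ha0, (MTwelveInv.beq_false_iff a 16).2 ha16] at this
    simp only [Nat.beq_refl, Bool.not_true, Bool.or_self, Bool.false_or, List.any_eq_true,
      List.mem_cons, List.not_mem_nil, or_false] at this
    obtain ⟨c, hc', e⟩ := this
    have hcc := hc.trans (isConj_of_conjL T.ftab e)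
    rcases hc' with rfl | rfl | rfl
    exacts [⟨f, T, hcc⟩, ⟨_, T.compAut autSix_ok, hcc⟩, ⟨_, T.compAut autSeven_ok, hcc⟩]
  by_cases h6 : IsConj s (f (ent sigSix 5))
  · exact Or.inr (caseEight T h5 h6)
  by_cases h7 : IsConj s (f (ent sigSeven 5))
  · obtain ⟨c1, c2, -⟩ := class_check
    refine Or.inr (caseEight (T.compAut autSwap_ok) ?_ ?_)
    · exact h5.trans (isConj_of_conjL T.ftab c1).symm
    · exact h7.trans (isConj_of_conjL T.ftab c2).symm
  · exact Or.inl (caseOne hs T h5 h6 h7)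

end Cfsg.Agent.Lib.S3344
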