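import Cfsg.Agent.Lib.S3344.PackCheck

/-!
Checkable coset tables with labels in the centraliser of the central involution.

The letters `g < 192` stand for the elements of the table, `192` and `193` for two further elements.
An edge `(g, b, l)` at `a` says that `c a * g = f l * c b`.
-/

set_option autoImplicit false
set_option maxRecDepth 20000

namespace Cfsg.Agent.Lib.S3344

/-- Packed inverses. -/
def invCodeB : ℕ := 0xb5b9bdb1b6babeb2b7bbbfb3b4b8bcb0a5a9ada1a6aaaea2a7abafa3a4a8aca09f979b939d9599919e969a929c9498908f878b838d8589818e868a828c8488807a7e76727b7f7773797d7571787c74706a6e66626b6f6763696d6561686c6460353736243d3f3e2c393b3a2821232230252726342d2f2e3c292b2a38313332205a595b48565557445e5d5f4c424143504a494b58464547544e4d4f5c525153401f1e1d0c1b1a190817161504030201100f0e0d1c0b0a09180706051413121100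

/-- Inverse in the table with exchanged quaternion groups. -/
noncomputable def invB (i : ℕ) : ℕ := ent invCodeB i

theorem invB_check : ((List.range 192).all fun i =>
    Nat.blt (invB i) 192 && Nat.beq (mulB i (invB i)) 0) = true := by
  decide +kernel

theorem mulB_lt_check : ((List.range 192).all fun i => (List.range 192).all fun j =>
    Nat.blt (mulB i j) 192) = true := by
  decide +kernel

theorem mulB_lt {i j : ℕ} (hi : i < 192) (hj : j < 192) : mulB i j < 192 := by
  have h := mulB_lt_check
  simp only [List.all_eq_true, List.mem_range, Nat.blt_eq] at h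
  exact h i hi j hj

theorem invB_spec {i : ℕ} (hi : i < 192) : invB i < 192 ∧ mulB i (invB i) = 0 := by
  have h := invB_check
  simp only [List.all_eq_true, List.mem_range, Bool.and_eq_true, Nat.blt_eq] at h
  exact ⟨(h i hi).1, Nat.eq_of_beq_eq_true (h i hi).2⟩

theorem mulB_eq {i j : ℕ} (hi : i < 192) (hj : j < 192) : mulB i j = mulL 1 0 i j := by
  have h := rowsB_check
  simp only [List.all_eq_true, List.mem_range] at h
  exact Nat.eq_of_beq_eq_true (h i hi j hj)

/-- Edges, one list for each coset. -/
abbrev Tbl := List (List (ℕ × ℕ × ℕ))

/-- A step: source, letter, target, and a relator split at a position, read from a coset. -/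
abbrev LStep := ℕ × ℕ × ℕ × ℕ × ℕ × ℕ

/-- Look an edge up. -/
noncomputable def nextE (T : Tbl) (a g : ℕ) : Option (ℕ × ℕ) :=
  ((T.getD a []).find? fun e => Nat.beq e.1 g).map fun e => e.2

/-- Follow a word; the accumulated label is on the left. -/
noncomputable def walkE (T : Tbl) : List ℕ → ℕ → ℕ → Option (ℕ × ℕ)
  | [], a, l => some (a, l)
  | g :: w, a, l => (nextE T a g).bind fun e => walkE T w e.1 (mulB l e.2)

/-- The label of a step, if the step is valid. -/
noncomputable def label (rels W : List (List ℕ)) (T : Tbl) : LStep → Option ℕ
  | (a, g, b, i, r, m) =>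
    if W.getD b [] == W.getD a [] ++ [g] then some 0 else
    if a == 0 && b == 0 && decide (g < 192) && W.getD 0 [] == [] then some g else
    match rels[r]? with
    | none => none
    | some w => if w[m]? == some g then
        match walkE T (w.take m) i 0, walkE T (w.drop (m + 1)) b 0 with
        | some (a', l1), some (i', l2) =>
          if a' == a && i' == i then some (invB (mulB l2 l1)) else none
        | _, _ => none
      else none

/-- Run a derivation. -/
noncomputable def runE (rels W : List (List ℕ)) : List LStep → Tbl → Option Tbl
  | [], T => some T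
  | s :: ss, T => (label rels W T s).bind fun l =>
      runE rels W ss (T.set s.1 ((s.2.1, s.2.2.1, l) :: T.getD s.1 []))

/-- A derivation gives a nontrivial label to a trivial loop. -/
noncomputable def refute (rels W : List (List ℕ)) (steps : List LStep) (n i r : ℕ) : Bool :=
  match runE rels W steps (List.replicate n []) with
  | none => false
  | some T => match rels[r]? with
    | none => false
    | some w => match walkE T w i 0 with
      | none => false
      | some (i', l) => i' == i && !(l == 0)

/-- A derivation gives a complete table in which the given words are trivial loops at the origin. -/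
noncomputable def closedTbl (rels W : List (List ℕ)) (steps : List LStep) (n : ℕ) (gens : List ℕ)
    (loops : List (List ℕ)) : Bool :=
  match runE rels W steps (List.replicate n []) with
  | none => false
  | some T => W.getD 0 [] == [] && decide (0 < n) &&
      ((List.range n).all fun a => gens.all fun g => (nextE T a g).any fun e => decide (e.1 < n)) &&
      loops.all fun w => walkE T w 0 0 == some (0, 0)

variable {G : Type*} [Group G]

/-- The element of a letter. -/
def letE (f : ℕ → G) (h h' : G) (g : ℕ) : G := if g < 192 then f g else if g = 192 then h else h'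

/-- The value of a word. -/
def evalE (φ : ℕ → G) (w : List ℕ) : G := (w.map φ).prod

/-- The map of indices is multiplicative and injective. -/
structure FTab (f : ℕ → G) : Prop where
  one : f 0 = 1
  mul : ∀ i < 192, ∀ j < 192, f (mulB i j) = f i * f j
  inj : ∀ i < 192, ∀ j < 192, f i = f j → i = j

theorem FTab.inv {f : ℕ → G} (F : FTab f) {i : ℕ} (hi : i < 192) : f (invB i) = (f i)⁻¹ := by
  obtain ⟨h1, h2⟩ := invB_spec hi
  exact eq_inv_of_mul_eq_one_right (by rw [← F.mul i hi _ h1, h2, F.one])

theorem Tab.ftab {s : G} {f : ℕ → G} (T : Tab mulB s f) : FTab f := ⟨T.one, T.mul, T.inj⟩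

theorem Tab.toB {s : G} {f : ℕ → G} (T : Tab (mulL 1 0) s f) : Tab mulB s f :=
  { T with mul := fun i hi j hj => by rw [mulB_eq hi hj]; exact T.mul i hi j hj }

variable {f : ℕ → G} {h h' : G} {rels W : List (List ℕ)}

/-- All edges hold. -/
def SoundE (f : ℕ → G) (h h' : G) (W : List (List ℕ)) (T : Tbl) : Prop :=
  ∀ a, ∀ e ∈ T.getD a [], e.2.2 < 192 ∧
    evalE (letE f h h') (W.getD a []) * letE f h h' e.1 =
      f e.2.2 * evalE (letE f h h') (W.getD e.2.1 [])

theorem nextE_sound {T : Tbl} (hS : SoundE f h h' W T) {a g b l : ℕ}
    (hn : nextE T a g = some (b, l)) : l < 192 ∧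
      evalE (letE f h h') (W.getD a []) * letE f h h' g =
        f l * evalE (letE f h h') (W.getD b []) := by
  simp only [nextE, Option.map_eq_some_iff] at hn
  obtain ⟨⟨g', e⟩, he, he2⟩ := hn
  have hg : g' = g := Nat.eq_of_beq_eq_true (List.find?_some (p := fun e : ℕ × ℕ × ℕ => Nat.beq e.1 g) he)
  have := hS a _ (List.mem_of_find?_eq_some he)
  simp only at he2
  subst hg he2
  exact this

theorem walkE_sound {T : Tbl} (F : FTab f) (hS : SoundE f h h' W T) :
    ∀ (w : List ℕ) (a l b k : ℕ), l < 192 → walkE T w a l = some (b, k) → k < 192 ∧
      f l * evalE (letE f h h') (W.getD a []) * evalE (letE f h h') w =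
        f k * evalE (letE f h h') (W.getD b []) := by
  intro w
  induction w with
  | nil =>
    intro a l b k hl hw
    simp only [walkE, Option.some.injEq, Prod.mk.injEq] at hw
    obtain ⟨rfl, rfl⟩ := hw
    exact ⟨hl, by simp [evalE]⟩
  | cons g w ih =>
    intro a l b k hl hw
    simp only [walkE, Option.bind_eq_some_iff] at hw
    obtain ⟨⟨c, m⟩, hc, hcb⟩ := hw
    obtain ⟨hm, he⟩ := nextE_sound hS hc
    obtain ⟨hk, hk2⟩ := ih c _ b k (mulB_lt hl hm) hcb
    refine ⟨hk, ?_⟩
    rw [F.mul l hl m hm] at hk2
    rw [show evalE (letE f h h') (g :: w) = letE f h h' g * evalE (letE f h h') w by simp [evalE],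
      ← hk2, mul_assoc (f l) (f m), ← he]
    simp [mul_assoc]

theorem runE_sound (F : FTab f) (hr : ∀ w ∈ rels, evalE (letE f h h') w = 1) :
    ∀ (ss : List LStep) (T T' : Tbl), SoundE f h h' W T → runE rels W ss T = some T' →
      SoundE f h h' W T' := by
  intro ss
  induction ss with
  | nil => intro T T' hS hl; simp only [runE, Option.some.injEq] at hl; exact hl ▸ hS
  | cons s ss ih =>
    intro T T' hS hl
    obtain ⟨a, g, b, i, r, m⟩ := s
    simp only [runE, Option.bind_eq_some_iff] at hl
    obtain ⟨l, hlab, hl⟩ := hl
    refine ih _ _ ?_ hl
    have key : l < 192 ∧ evalE (letE f h h') (W.getD a []) * letE f h h' g = f l * evalE (letE f h h') (W.getD b []) := by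
      simp only [label] at hlab
      split_ifs at hlab with hD hL
      · obtain rfl := Option.some.inj hlab
        refine ⟨by norm_num, ?_⟩
        rw [beq_iff_eq] at hD
        rw [hD, F.one, one_mul]
        simp [evalE]
      · obtain rfl := Option.some.inj hlab
        simp only [Bool.and_eq_true, beq_iff_eq, decide_eq_true_eq] at hL
        obtain ⟨⟨⟨rfl, rfl⟩, hg⟩, hW⟩ := hL
        refine ⟨hg, ?_⟩
        rw [hW]
        simp [evalE, letE, hg]
      · revert hlab
        cases hw : rels[r]? with
        | none => simp
        | some w =>
          simp only []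
          split_ifs with hg
          · cases h1 : walkE T (w.take m) i 0 with
            | none => simp
            | some p1 =>
              cases h2 : walkE T (w.drop (m + 1)) b 0 with
              | none => simp
              | some p2 =>
                obtain ⟨a', l1⟩ := p1
                obtain ⟨i', l2⟩ := p2
                simp only []
                split_ifs with hai
                · intro hlab
                  obtain rfl := Option.some.inj hlab
                  simp only [Bool.and_eq_true, beq_iff_eq] at hai
                  obtain ⟨rfl, rfl⟩ := hai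
                  obtain ⟨hl1, e1⟩ := walkE_sound F hS _ _ 0 _ _ (by norm_num) h1
                  obtain ⟨hl2, e2⟩ := walkE_sound F hS _ _ 0 _ _ (by norm_num) h2
                  rw [F.one, one_mul] at e1 e2
                  have hm := mulB_lt hl2 hl1
                  refine ⟨(invB_spec hm).1, ?_⟩
                  rw [F.inv hm, F.mul l2 hl2 l1 hl1]
                  rw [beq_iff_eq] at hg
                  obtain ⟨hm', hgm⟩ := List.getElem?_eq_some_iff.mp hg
                  have hsplit : evalE (letE f h h') w = evalE (letE f h h') (w.take m) * letE f h h' g * evalE (letE f h h') (w.drop (m + 1)) := by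
                    conv_lhs => rw [← List.take_append_drop m w, List.drop_eq_getElem_cons hm', hgm]
                    simp [evalE, mul_assoc]
                  rw [hr w (List.mem_of_getElem? hw)] at hsplit
                  apply mul_right_cancel (b := evalE (letE f h h') (w.drop (m + 1)))
                  rw [mul_assoc ((f l2 * f l1)⁻¹), e2]
                  calc evalE (letE f h h') (W.getD a' []) * letE f h h' g * evalE (letE f h h') (w.drop (m + 1))
                      = (f l1)⁻¹ * (f l1 * evalE (letE f h h') (W.getD a' [])) * letE f h h' g *
                          evalE (letE f h h') (w.drop (m + 1)) := by group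
                    _ = (f l1)⁻¹ * evalE (letE f h h') (W.getD i' []) *
                          (evalE (letE f h h') (w.take m) * letE f h h' g * evalE (letE f h h') (w.drop (m + 1))) := by
                        rw [← e1]; group
                    _ = _ := by rw [← hsplit]; group
                · simp
          · simp
    intro c e he
    rcases eq_or_ne c a with rfl | hne
    · rcases lt_or_ge c T.length with hc | hc
      · rw [List.getD_eq_getElem?_getD, List.getElem?_set_self hc, Option.getD_some] at he
        rcases List.mem_cons.mp he with rfl | he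
        · exact key
        · exact hS c e he
      · rw [List.set_eq_of_length_le hc] at he
        exact hS c e he
    · rw [List.getD_eq_getElem?_getD, List.getElem?_set_ne (Ne.symm hne),
        ← List.getD_eq_getElem?_getD] at he
      exact hS c e he

theorem soundE_replicate (n : ℕ) : SoundE f h h' W (List.replicate n []) := by
  intro a e he
  rcases lt_or_ge a n with ha | ha <;> simp_all [List.getD_eq_getElem?_getD]

/-- A refuted derivation is impossible. -/
theorem refute_false (F : FTab f) (hr : ∀ w ∈ rels, evalE (letE f h h') w = 1)
    {steps : List LStep} {n i r : ℕ} (hc : refute rels W steps n i r = true) : False := by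
  unfold refute at hc
  split at hc
  · exact absurd hc (by simp)
  rename_i T hT
  split at hc
  · exact absurd hc (by simp)
  rename_i w hw
  split at hc
  · exact absurd hc (by simp)
  rename_i i' l hl
  simp only [Bool.and_eq_true, beq_iff_eq, Bool.not_eq_true', beq_eq_false_iff_ne] at hc
  obtain ⟨rfl, hl0⟩ := hc
  obtain ⟨hl', e⟩ := walkE_sound F (runE_sound F hr steps _ _ (soundE_replicate n) hT) _ _ 0 _ _
    (by norm_num) hl
  rw [hr w (List.mem_of_getElem? hw), mul_one, F.one] at e
  exact hl0 (F.inj l hl' 0 (by norm_num) (by rw [F.one]; exact mul_right_cancel e.symm))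

/-- A closed derivation: the loops are trivial and the translates of the table form a set closed
under the generators. -/
theorem closedTbl_sound (F : FTab f) (hr : ∀ w ∈ rels, evalE (letE f h h') w = 1)
    {steps : List LStep} {n : ℕ} {gens : List ℕ} {loops : List (List ℕ)}
    (hc : closedTbl rels W steps n gens loops = true) :
    (∀ w ∈ loops, evalE (letE f h h') w = 1) ∧
      ∃ c : ℕ → G, c 0 = 1 ∧ ∀ a < n, ∀ g ∈ gens, ∃ b < n, ∃ l < 192,
        c a * letE f h h' g = f l * c b := by
  unfold closedTbl at hc
  split at hc
  · exact absurd hc (by simp)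
  rename_i T hT
  have hS := runE_sound F hr steps _ _ (soundE_replicate n) hT
  simp only [Bool.and_eq_true, List.all_eq_true, List.mem_range, Option.any_eq_true,
    decide_eq_true_eq, beq_iff_eq] at hc
  obtain ⟨⟨⟨hW, -⟩, hall⟩, hloops⟩ := hc
  have h0 : evalE (letE f h h') (W.getD 0 []) = 1 := by rw [hW]; rfl
  refine ⟨fun w hw => ?_, fun a => evalE (letE f h h') (W.getD a []), h0, fun a ha g hg => ?_⟩
  · obtain ⟨-, e⟩ := walkE_sound F hS _ _ 0 _ _ (by norm_num) (hloops w hw)
    simpa [h0, F.one] using e
  · obtain ⟨⟨b, l⟩, he, hb⟩ := hall a ha g hg
    obtain ⟨hl, e⟩ := nextE_sound hS he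
    exact ⟨b, hb, l, hl, e⟩

end Cfsg.Agent.Lib.S3344
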