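import Cfsg.Agent.Lib.S3344.Stage

/-!
Derivations in the two overgroups of order 1344.
-/

set_option autoImplicit false
set_option maxRecDepth 20000
set_option maxHeartbeats 4000000

namespace Cfsg.Agent.Lib.S3344

/-- Packed action of the first swapping element. -/
def swapA : ℕ := 0xbfbebdbcbbbab9b8b7b6b5b4b3b2b1b0afaeadacabaaa9a8a7a6a5a4a3a2a1a09f9e9d9c9b9a999897969594939291908f8e8d8c8b8a89888786858483828180147b7d7c7e04797877760b717372741b016e6d6c6b11696867661e646362610e5f5e5d5c5b5a595857565554535251504f4e4d4c4b4a494847464544434241403f3e3d3c3b3a393837363534333231302f2e2d2c2b2a292827262524232221200a651d1c701a19181716157f13126a050f600d0c751f09080706107a03026f00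

/-- Packed action of the second swapping element. -/
def swapB : ℕ := 0xbfbebdbcbbbab9b8b7b6b5b4b3b2b1b0afaeadacabaaa9a8a7a6a5a4a3a2a1a09f9e9d9c9b9a999897969594939291908f8e8d8c8b8a898887868584838281807f75087c057a797877187e74737271156f6e136c1e6a6963670365646862610e5f5e5d5c5b5a595857565554535251504f4e4d4c4b4a494847464544434241403f3e3d3c3b3a393837363534333231302f2e2d2c2b2a292827262524232221201f6b061c1b1a1976171670146d12110b0f600d0c100a097d071d7b0466020100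

/-- The first domain. -/
def domA : List ℕ := [0, 1, 4, 5, 10, 11, 14, 15, 16, 17, 20, 21, 26, 27, 30, 31, 96, 97, 100, 101, 106, 107, 110, 111, 112, 113, 116, 117, 122, 123, 126, 127]

/-- The second domain. -/
def domB : List ℕ := [0, 3, 5, 6, 8, 11, 13, 14, 16, 19, 21, 22, 24, 27, 29, 30, 96, 99, 101, 102, 104, 107, 109, 110, 112, 115, 117, 118, 120, 123, 125, 126]

/-- The first elementary abelian group. -/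
def vA : List ℕ := [0, 5, 10, 15, 16, 21, 26, 31]

/-- The second elementary abelian group. -/
def vB : List ℕ := [0, 6, 11, 13, 16, 22, 27, 29]

/-- The common elementary abelian group of order sixteen. -/
def eAB : List ℕ := [0, 5, 11, 14, 16, 21, 27, 30, 96, 101, 107, 110, 112, 117, 123, 126]

/-- The named relators of `192`. -/
def namedA : List (List ℕ) := [
    [192, 32, 1, 32, 32, 192, 32, 1, 32, 32, 192, 32, 1, 32, 32],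
    [192, 32, 192, 32, 1, 192, 32, 192, 32, 1, 192, 32, 192, 32, 1, 192, 32, 192, 32, 1, 192, 32, 192, 32, 1, 192, 32, 192, 32, 1, 192, 32, 192, 32, 1],
    [192, 32, 192, 32, 192, 32, 192, 32, 192, 32, 192, 32, 192, 32]]

/-- The word to be pinned. -/
def wordA : List ℕ := [192, 32, 192, 32, 32, 192, 96, 1, 32, 4]

/-- Relators. -/
def relsA : List (List ℕ) := [
    [192, 192],
    [192, 1, 192, 32, 1, 4, 96, 32],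
    [192, 4, 192, 1, 4, 32, 1, 96, 1, 32],
    [192, 96, 192, 32, 1, 32, 4, 32],
    [1, 32, 96, 32, 4, 96],
    [32, 32, 32],
    [32, 4, 96, 1, 32, 96],
    [192, 1, 32, 4, 32, 1, 32, 192, 1, 32, 4, 32, 1, 32],
    [192, 32, 1, 32, 4, 32, 1, 192, 32, 1, 4, 32, 32],
    [192, 1, 4, 96, 192, 1, 32, 32, 1, 4, 32],
    [192, 1, 4, 192, 1, 1],
    [32, 1, 32, 32, 1, 32, 32, 1, 32],
    [192, 32, 1, 32, 32, 192, 32, 1, 32, 32, 192, 32, 1, 32, 32],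
    [96, 96],
    [192, 1, 1, 4, 192, 32, 1, 96, 1, 32],
    [192, 32, 1, 96, 1, 32, 192, 1, 1, 4],
    [1, 32, 1, 1, 1, 32, 1, 32],
    [4, 32, 1, 1, 4, 32, 4, 32],
    [192, 32, 32, 1, 4, 32, 192, 32, 32, 1, 4, 32],
    [192, 1, 96, 192, 4, 96],
    [192, 32, 1, 4, 32, 32, 192, 32, 1, 32, 4, 32, 1],
    [192, 32, 4, 32, 1, 32, 192, 1, 96, 1],
    [32, 96, 32, 32, 96, 32]]

/-- Refuted alternatives. -/
def altsA : List (ℕ × List ℕ × List (List ℕ) × List LStep × ℕ × ℕ) := [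
  (5, [1, 4], [
    [],
    [192],
    [192, 32],
    [192, 32, 4],
    [192, 32, 96]], [(0, 1, 0, 0, 0, 0), (0, 4, 0, 0, 0, 0), (0, 32, 0, 0, 0, 0), (0, 96, 0, 0, 0, 0), (0, 192, 1, 0, 0, 0), (1, 192, 0, 0, 1, 1), (1, 1, 1, 0, 2, 1), (1, 4, 1, 0, 3, 1), (1, 96, 1, 0, 4, 1), (1, 32, 2, 0, 0, 0), (2, 4, 3, 0, 0, 0), (2, 96, 4, 0, 0, 0), (4, 32, 1, 1, 5, 3), (2, 32, 4, 2, 6, 0), (2, 192, 2, 0, 0, 2)], 2, 1),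
  (10, [32, 1, 4, 32, 32], [
    [],
    [192],
    [192, 32],
    [192, 32, 4],
    [192, 32, 96],
    [192, 32, 4, 96],
    [192, 32, 4, 96, 32]], [(0, 1, 0, 0, 0, 0), (0, 4, 0, 0, 0, 0), (0, 32, 0, 0, 0, 0), (0, 96, 0, 0, 0, 0), (0, 192, 1, 0, 0, 0), (1, 192, 0, 0, 1, 1), (1, 1, 1, 0, 2, 1), (1, 4, 1, 0, 3, 1), (1, 96, 1, 0, 4, 1), (1, 32, 2, 0, 0, 0), (2, 4, 3, 0, 0, 0), (2, 96, 4, 0, 0, 0), (4, 32, 1, 1, 5, 3), (2, 32, 4, 2, 6, 0), (2, 192, 2, 0, 0, 2), (3, 96, 5, 0, 0, 0), (5, 1, 4, 1, 7, 3), (2, 1, 3, 1, 3, 6), (3, 32, 5, 1, 8, 11), (3, 4, 2, 1, 9, 10), (5, 4, 4, 1, 4, 6), (4, 1, 5, 1, 10, 8), (4, 192, 3, 1, 0, 5), (3, 192, 4, 2, 2, 2), (3, 1, 2, 2, 11, 5), (5, 32, 6, 0, 0, 0), (6, 32, 3, 2, 12, 3)], 2, 13),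
  (15, [32, 32, 1, 4, 32], [
    [],
    [192],
    [192, 32],
    [192, 32, 4],
    [192, 32, 96]], [(0, 1, 0, 0, 0, 0), (0, 4, 0, 0, 0, 0), (0, 32, 0, 0, 0, 0), (0, 96, 0, 0, 0, 0), (0, 192, 1, 0, 0, 0), (1, 192, 0, 0, 1, 1), (1, 1, 1, 0, 2, 1), (1, 4, 1, 0, 3, 1), (1, 96, 1, 0, 4, 1), (1, 32, 2, 0, 0, 0), (2, 4, 3, 0, 0, 0), (2, 96, 4, 0, 0, 0), (4, 32, 1, 1, 5, 3), (2, 32, 4, 2, 6, 0), (2, 192, 2, 0, 0, 2)], 2, 1),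
  (16, [1, 1], [
    [],
    [192],
    [192, 32],
    [192, 32, 4],
    [192, 32, 96],
    [192, 32, 4, 96]], [(0, 1, 0, 0, 0, 0), (0, 4, 0, 0, 0, 0), (0, 32, 0, 0, 0, 0), (0, 96, 0, 0, 0, 0), (0, 192, 1, 0, 0, 0), (1, 192, 0, 0, 1, 1), (1, 1, 1, 0, 2, 1), (1, 4, 1, 0, 3, 1), (1, 96, 1, 0, 4, 1), (1, 32, 2, 0, 0, 0), (2, 4, 3, 0, 0, 0), (2, 96, 4, 0, 0, 0), (4, 32, 1, 1, 5, 3), (2, 32, 4, 2, 6, 0), (2, 192, 2, 0, 0, 2), (3, 96, 5, 0, 0, 0), (5, 1, 4, 1, 7, 3), (3, 32, 5, 1, 8, 11), (4, 192, 3, 1, 0, 5)], 2, 4),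
  (21, [1, 1, 1, 4], [
    [],
    [192],
    [192, 32],
    [192, 32, 4],
    [192, 32, 96]], [(0, 1, 0, 0, 0, 0), (0, 4, 0, 0, 0, 0), (0, 32, 0, 0, 0, 0), (0, 96, 0, 0, 0, 0), (0, 192, 1, 0, 0, 0), (1, 192, 0, 0, 1, 1), (1, 1, 1, 0, 2, 1), (1, 4, 1, 0, 3, 1), (1, 96, 1, 0, 4, 1), (1, 32, 2, 0, 0, 0), (2, 4, 3, 0, 0, 0), (2, 96, 4, 0, 0, 0), (4, 32, 1, 1, 5, 3), (2, 32, 4, 2, 6, 0), (2, 192, 2, 0, 0, 2)], 2, 1),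
  (26, [1, 32, 4, 32, 1, 32], [
    [],
    [192],
    [192, 32],
    [192, 32, 4],
    [192, 32, 96],
    [192, 32, 4, 96]], [(0, 1, 0, 0, 0, 0), (0, 4, 0, 0, 0, 0), (0, 32, 0, 0, 0, 0), (0, 96, 0, 0, 0, 0), (0, 192, 1, 0, 0, 0), (1, 192, 0, 0, 1, 1), (1, 1, 1, 0, 2, 1), (1, 4, 1, 0, 3, 1), (1, 96, 1, 0, 4, 1), (1, 32, 2, 0, 0, 0), (2, 4, 3, 0, 0, 0), (2, 96, 4, 0, 0, 0), (4, 32, 1, 1, 5, 3), (2, 32, 4, 2, 6, 0), (2, 192, 2, 0, 0, 2), (3, 96, 5, 0, 0, 0), (5, 1, 4, 1, 7, 3), (3, 32, 5, 1, 8, 11), (4, 192, 3, 1, 0, 5)], 2, 4),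
  (31, [32, 1, 32, 4, 32, 1], [
    [],
    [192],
    [192, 32],
    [192, 32, 4],
    [192, 32, 96]], [(0, 1, 0, 0, 0, 0), (0, 4, 0, 0, 0, 0), (0, 32, 0, 0, 0, 0), (0, 96, 0, 0, 0, 0), (0, 192, 1, 0, 0, 0), (1, 192, 0, 0, 1, 1), (1, 1, 1, 0, 2, 1), (1, 4, 1, 0, 3, 1), (1, 96, 1, 0, 4, 1), (1, 32, 2, 0, 0, 0), (2, 4, 3, 0, 0, 0), (2, 96, 4, 0, 0, 0), (4, 32, 1, 1, 5, 3), (2, 32, 4, 2, 6, 0), (2, 192, 2, 0, 0, 2)], 2, 1)]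

/-- Coset representatives. -/
def repsA : List (List ℕ) := [
    [],
    [192],
    [192, 32],
    [192, 32, 4],
    [192, 32, 96],
    [192, 32, 4, 96],
    [192, 32, 4, 96, 32]]

/-- The table. -/
def stepsA : List LStep := [(0, 1, 0, 0, 0, 0), (0, 4, 0, 0, 0, 0), (0, 32, 0, 0, 0, 0), (0, 96, 0, 0, 0, 0), (0, 192, 1, 0, 0, 0), (1, 192, 0, 0, 1, 1), (1, 1, 1, 0, 2, 1), (1, 4, 1, 0, 3, 1), (1, 96, 1, 0, 4, 1), (1, 32, 2, 0, 0, 0), (2, 4, 3, 0, 0, 0), (2, 96, 4, 0, 0, 0), (4, 32, 1, 1, 5, 3), (2, 32, 4, 2, 6, 0), (4, 96, 2, 2, 14, 1), (3, 192, 4, 3, 0, 0), (4, 192, 3, 4, 1, 0), (2, 192, 2, 0, 0, 2), (2, 1, 3, 2, 2, 1), (3, 1, 2, 2, 15, 2), (3, 4, 2, 2, 10, 2), (3, 96, 5, 0, 0, 0), (5, 1, 4, 0, 16, 4), (3, 32, 5, 1, 17, 5), (5, 4, 4, 1, 18, 6), (4, 1, 5, 1, 19, 9), (5, 96, 3, 2, 5, 2), (4, 4, 5, 2, 7, 1),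 (5, 192, 5, 2, 20, 3), (5, 32, 6, 0, 0, 0), (6, 32, 3, 2, 12, 3), (6, 4, 6, 2, 21, 10), (6, 1, 6, 2, 22, 4), (6, 96, 6, 3, 23, 4), (6, 192, 6, 5, 0, 2)]

/-- Trivial loops. -/
def loopsA : List (List ℕ) := [
    [192, 192],
    [192, 1, 192, 32, 1, 4, 96, 32],
    [192, 96, 192, 32, 1, 32, 4, 32],
    [192, 32, 192, 32, 192, 32, 192, 32, 192, 32, 192, 32, 192, 32],
    [192, 1, 4, 192, 1, 1],
    [192, 32, 192, 96, 32, 4, 192, 32, 4],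
    [192, 32, 192, 32, 32, 1, 192, 1, 32, 1],
    [192, 192],
    [192, 1, 192, 32, 1, 4, 96, 32],
    [192, 96, 192, 32, 1, 32, 4, 32],
    [192, 32, 1, 32, 32, 192, 32, 1, 32, 32, 192, 32, 1, 32, 32]]

theorem knownA_check : relsA.all (knownOK 192 domA swapA namedA) = true := by decide +kernel

theorem pinA_check : pinOK relsA wordA vA 7 altsA = true := by decide +kernel

theorem closedA_check : closedTbl (wordA :: relsA) repsA stepsA 7 [1, 4, 32, 96, 192] loopsA = true := by decide +kernel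

/-- The named relators of `193`. -/
def namedB : List (List ℕ) := [
    [193, 1, 193, 1, 193, 1, 1, 32, 32, 4, 32],
    [193, 32, 193, 32, 4, 193, 32, 193, 32, 4, 193, 32, 193, 32, 4, 193, 32, 193, 32, 4, 193, 32, 193, 32, 4, 193, 32, 193, 32, 4, 193, 32, 193, 32, 4],
    [193, 32, 193, 32, 193, 32, 193, 32, 193, 32, 193, 32, 193, 32]]

/-- The word to be pinned. -/
def wordB : List ℕ := [193, 32, 193, 1, 32, 4, 96, 193, 32, 32]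

/-- Relators. -/
def relsB : List (List ℕ) := [
    [193, 193],
    [193, 96, 193, 32, 1, 32, 4, 32],
    [193, 1, 1, 193, 32, 4, 32, 1, 32],
    [193, 1, 4, 193, 1, 32, 1, 96, 1, 32],
    [193, 1, 96, 1, 193, 4, 32, 1, 96, 1, 32],
    [4, 96, 1, 96],
    [32, 96, 32, 96],
    [193, 32, 32, 1, 32, 193, 1, 4, 32, 4, 96, 32],
    [193, 4, 32, 32, 4, 32, 193, 1, 4, 32, 96, 1, 32],
    [193, 1, 4, 32, 32, 1, 32, 193, 1, 4, 32, 32, 1, 32],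
    [96, 96],
    [32, 1, 96, 4, 32, 96],
    [193, 32, 4, 32, 32, 193, 4, 32, 96, 4, 32],
    [193, 1, 32, 32, 1, 4, 32, 193, 1, 32, 1, 4, 96, 32],
    [193, 1, 32, 32, 4, 32, 193, 1, 32, 32, 4, 32],
    [193, 4, 32, 32, 1, 4, 32, 193, 4, 32, 32, 1, 4, 32],
    [193, 4, 32, 1, 96, 32, 193, 32, 1, 32, 32, 1],
    [1, 32, 96, 32, 4, 96],
    [193, 32, 96, 1, 32, 193, 1, 32, 96, 4, 32],
    [193, 1, 193, 1, 193, 1, 1, 32, 32, 4, 32],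
    [1, 4, 1, 4],
    [4, 32, 1, 1, 4, 32, 4, 32],
    [193, 32, 193, 32, 4, 193, 32, 193, 32, 4, 193, 32, 193, 32, 4, 193, 32, 193, 32, 4, 193, 32, 193, 32, 4, 193, 32, 193, 32, 4, 193, 32, 193, 32, 4],
    [193, 32, 4, 32, 1, 32, 193, 1, 1],
    [193, 1, 32, 1, 4, 96, 32, 193, 1, 32, 32, 1, 4, 32]]

/-- Refuted alternatives. -/
def altsB : List (ℕ × List ℕ × List (List ℕ) × List LStep × ℕ × ℕ) := [
  (11, [32, 4, 32, 1, 32], [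
    [],
    [193],
    [193, 32],
    [193, 1],
    [193, 32, 96],
    [193, 32, 1],
    [193, 32, 1, 96]], [(0, 1, 0, 0, 0, 0), (0, 4, 0, 0, 0, 0), (0, 32, 0, 0, 0, 0), (0, 96, 0, 0, 0, 0), (0, 193, 1, 0, 0, 0), (1, 193, 0, 0, 1, 1), (1, 96, 1, 0, 2, 1), (1, 32, 2, 0, 0, 0), (1, 1, 3, 0, 0, 0), (3, 1, 1, 0, 3, 2), (3, 4, 1, 0, 4, 2), (3, 96, 3, 0, 5, 2), (1, 4, 3, 1, 6, 0), (2, 96, 4, 0, 0, 0), (4, 32, 1, 1, 7, 2), (2, 4, 2, 1, 8, 9), (4, 1, 4, 1, 9, 11), (2, 32, 4, 1, 10, 11), (4, 96, 2, 2, 11, 1), (2, 1, 5, 0, 0, 0), (5, 96, 6, 0, 0, 0), (6, 4, 4, 1, 12, 3), (3, 32, 5, 1, 13, 7), (5, 1, 2, 1, 14, 10), (5, 32, 6, 1, 15, 9), (6, 1, 6, 1, 16, 11), (6, 32, 3, 1, 17, 10), (6, 96, 5, 2, 18, 2), (4, 193, 4, 4, 0, 0), (5, 193, 5, 5, 19, 0), (6, 193, 2, 5, 2, 2), (2, 193, 6, 5, 20, 2)], 5, 0),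
  (6, [4, 32, 1, 32, 32], [
    [],
    [193],
    [193, 32],
    [193, 1],
    [193, 32, 96],
    [193, 32, 1],
    [193, 32, 1, 96]], [(0, 1, 0, 0, 0, 0), (0, 4, 0, 0, 0, 0), (0, 32, 0, 0, 0, 0), (0, 96, 0, 0, 0, 0), (0, 193, 1, 0, 0, 0), (1, 193, 0, 0, 1, 1), (1, 96, 1, 0, 2, 1), (1, 32, 2, 0, 0, 0), (1, 1, 3, 0, 0, 0), (3, 1, 1, 0, 3, 2), (3, 4, 1, 0, 4, 2), (3, 96, 3, 0, 5, 2), (1, 4, 3, 1, 6, 0), (2, 96, 4, 0, 0, 0), (4, 32, 1, 1, 7, 2), (2, 4, 2, 1, 8, 9), (4, 1, 4, 1, 9, 11), (2, 32, 4, 1, 10, 11), (4, 96, 2, 2, 11, 1), (2, 1, 5, 0, 0, 0), (5, 96, 6, 0, 0, 0), (6, 4, 4, 1, 12, 3), (3, 32, 5, 1, 13, 7), (5, 1, 2, 1, 14, 10), (5, 32, 6, 1, 15, 9), (6, 1, 6, 1, 16, 11), (6, 32, 3, 1, 17, 10), (5, 4, 5, 2, 21, 1), (6, 96, 5, 2, 18, 2), (4, 4, 6, 2, 22, 4), (4, 193, 4, 4, 0, 0), (5, 193, 5, 5, 19, 0),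 (6, 193, 2, 5, 2, 2), (2, 193, 6, 5, 20, 2)], 5, 0),
  (13, [1, 32, 32, 4, 32], [
    [],
    [193],
    [193, 32],
    [193, 1],
    [193, 32, 96]], [(0, 1, 0, 0, 0, 0), (0, 4, 0, 0, 0, 0), (0, 32, 0, 0, 0, 0), (0, 96, 0, 0, 0, 0), (0, 193, 1, 0, 0, 0), (1, 193, 0, 0, 1, 1), (1, 96, 1, 0, 2, 1), (1, 32, 2, 0, 0, 0), (1, 1, 3, 0, 0, 0), (3, 4, 1, 0, 4, 2), (2, 96, 4, 0, 0, 0), (4, 32, 1, 1, 7, 2), (2, 4, 2, 1, 8, 9), (4, 1, 4, 1, 9, 11), (2, 32, 4, 1, 10, 11), (4, 193, 4, 4, 0, 0)], 4, 20),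
  (16, [1, 1], [
    [],
    [193],
    [193, 32],
    [193, 1],
    [193, 32, 96]], [(0, 1, 0, 0, 0, 0), (0, 4, 0, 0, 0, 0), (0, 32, 0, 0, 0, 0), (0, 96, 0, 0, 0, 0), (0, 193, 1, 0, 0, 0), (1, 193, 0, 0, 1, 1), (1, 96, 1, 0, 2, 1), (1, 32, 2, 0, 0, 0), (1, 1, 3, 0, 0, 0), (3, 4, 1, 0, 4, 2), (2, 96, 4, 0, 0, 0), (4, 32, 1, 1, 7, 2), (4, 1, 4, 1, 9, 11), (2, 32, 4, 1, 10, 11), (4, 193, 4, 4, 0, 0)], 4, 1),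
  (27, [4, 32, 32, 1, 4, 32], [
    [],
    [193],
    [193, 32],
    [193, 1],
    [193, 32, 96],
    [193, 32, 1],
    [193, 32, 1, 96]], [(0, 1, 0, 0, 0, 0), (0, 4, 0, 0, 0, 0), (0, 32, 0, 0, 0, 0), (0, 96, 0, 0, 0, 0), (0, 193, 1, 0, 0, 0), (1, 193, 0, 0, 1, 1), (1, 96, 1, 0, 2, 1), (1, 32, 2, 0, 0, 0), (1, 1, 3, 0, 0, 0), (3, 1, 1, 0, 3, 2), (3, 4, 1, 0, 4, 2), (3, 96, 3, 0, 5, 2), (1, 4, 3, 1, 6, 0), (2, 96, 4, 0, 0, 0), (4, 32, 1, 1, 7, 2), (2, 4, 2, 1, 8, 9), (4, 1, 4, 1, 9, 11), (2, 32, 4, 1, 10, 11), (4, 96, 2, 2, 11, 1), (2, 1, 5, 0, 0, 0), (5, 96, 6, 0, 0, 0), (6, 4, 4, 1, 12, 3), (3, 32, 5, 1, 13, 7), (5, 1, 2, 1, 14, 10), (5, 32, 6, 1, 15, 9), (6, 1, 6, 1, 16, 11), (6, 32, 3, 1, 17, 10), (5, 4, 5, 2, 21, 1), (6, 96, 5, 2, 18, 2), (4, 4, 6, 2, 22, 4), (4, 193, 4, 4, 0, 0), (5, 193, 5, 5, 19,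 0), (6, 193, 2, 5, 2, 2), (2, 193, 6, 5, 20, 2)], 5, 0),
  (22, [1, 4, 32, 32, 1, 32], [
    [],
    [193],
    [193, 32],
    [193, 1],
    [193, 32, 96],
    [193, 32, 1],
    [193, 32, 1, 96]], [(0, 1, 0, 0, 0, 0), (0, 4, 0, 0, 0, 0), (0, 32, 0, 0, 0, 0), (0, 96, 0, 0, 0, 0), (0, 193, 1, 0, 0, 0), (1, 193, 0, 0, 1, 1), (1, 96, 1, 0, 2, 1), (1, 32, 2, 0, 0, 0), (1, 1, 3, 0, 0, 0), (3, 1, 1, 0, 3, 2), (3, 4, 1, 0, 4, 2), (3, 96, 3, 0, 5, 2), (1, 4, 3, 1, 6, 0), (2, 96, 4, 0, 0, 0), (4, 32, 1, 1, 7, 2), (2, 4, 2, 1, 8, 9), (4, 1, 4, 1, 9, 11), (2, 32, 4, 1, 10, 11), (4, 96, 2, 2, 11, 1), (2, 1, 5, 0, 0, 0), (5, 96, 6, 0, 0, 0), (6, 4, 4, 1, 12, 3), (3, 32, 5, 1, 13, 7), (5, 1, 2, 1, 14, 10), (5, 32, 6, 1, 15, 9), (6, 1, 6, 1, 16, 11), (6, 32, 3, 1, 17, 10), (6, 96, 5, 2, 18, 2), (4, 4, 6, 2, 22, 4), (4, 193,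 4, 4, 0, 0), (5, 193, 5, 5, 19, 0), (6, 193, 2, 5, 2, 2), (2, 193, 6, 5, 20, 2)], 5, 0),
  (29, [1, 32, 4, 32, 32, 4], [
    [],
    [193],
    [193, 32],
    [193, 1],
    [193, 32, 96],
    [193, 32, 1],
    [193, 32, 1, 96]], [(0, 1, 0, 0, 0, 0), (0, 4, 0, 0, 0, 0), (0, 32, 0, 0, 0, 0), (0, 96, 0, 0, 0, 0), (0, 193, 1, 0, 0, 0), (1, 193, 0, 0, 1, 1), (1, 96, 1, 0, 2, 1), (1, 32, 2, 0, 0, 0), (1, 1, 3, 0, 0, 0), (3, 1, 1, 0, 3, 2), (3, 4, 1, 0, 4, 2), (3, 96, 3, 0, 5, 2), (3, 193, 3, 0, 20, 2), (1, 4, 3, 1, 6, 0), (2, 96, 4, 0, 0, 0), (4, 32, 1, 1, 7, 2), (2, 4, 2, 1, 8, 9), (4, 1, 4, 1, 9, 11), (2, 32, 4, 1, 10, 11), (4, 96, 2, 2, 11, 1), (2, 1, 5, 0, 0, 0), (5, 96, 6, 0, 0, 0), (6, 4, 4, 1, 12, 3), (3, 32, 5, 1, 13, 7), (5, 1, 2, 1, 14, 10), (5, 32, 6, 1, 15, 9), (6, 1, 6, 1, 16, 11), (6, 32, 3, 1, 17,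 10), (5, 4, 5, 2, 21, 1), (6, 96, 5, 2, 18, 2), (4, 4, 6, 2, 22, 4), (4, 193, 4, 4, 0, 0), (5, 193, 5, 5, 19, 0), (6, 193, 2, 5, 2, 2), (2, 193, 6, 5, 20, 2)], 5, 23)]

/-- Coset representatives. -/
def repsB : List (List ℕ) := [
    [],
    [193],
    [193, 32],
    [193, 1],
    [193, 32, 96],
    [193, 32, 1],
    [193, 32, 1, 96]]

/-- The table. -/
def stepsB : List LStep := [(0, 1, 0, 0, 0, 0), (0, 4, 0, 0, 0, 0), (0, 32, 0, 0, 0, 0), (0, 96, 0, 0, 0, 0), (0, 193, 1, 0, 0, 0), (1, 193, 0, 0, 1, 1), (1, 96, 1, 0, 2, 1), (1, 32, 2, 0, 0, 0), (1, 1, 3, 0, 0, 0), (3, 1, 1, 0, 3, 2), (3, 4, 1, 0, 4, 2), (3, 96, 3, 0, 5, 2), (3, 193, 3, 0, 20, 2), (1, 4, 3, 1, 6, 0), (2, 96, 4, 0, 0, 0), (4, 32, 1, 1, 7, 2), (2, 4, 2, 1, 8, 9), (4, 1, 4, 1, 9, 11), (2, 32, 4, 1, 10, 11), (4, 96, 2, 2, 11, 1), (4, 193, 4,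 4, 0, 0), (2, 1, 5, 0, 0, 0), (5, 96, 6, 0, 0, 0), (6, 4, 4, 1, 12, 3), (3, 32, 5, 1, 13, 7), (5, 1, 2, 1, 14, 10), (5, 32, 6, 1, 15, 9), (6, 1, 6, 1, 16, 11), (6, 32, 3, 1, 17, 10), (5, 4, 5, 2, 21, 1), (6, 96, 5, 2, 18, 2), (4, 4, 6, 2, 22, 4), (2, 193, 6, 2, 8, 0), (6, 193, 2, 2, 24, 6), (5, 193, 5, 2, 25, 7)]

/-- Trivial loops. -/
def loopsB : List (List ℕ) := [
    [193, 193],
    [193, 32, 32, 1, 32, 193, 1, 4, 32, 4, 96, 32],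
    [193, 4, 32, 1, 32, 32, 193, 1, 32, 4, 32, 32, 4],
    [193, 1, 193, 1, 193, 1, 1, 32, 32, 4, 32],
    [193, 32, 1, 32, 4, 32, 193, 96],
    [193, 32, 4, 32, 1, 32, 193, 1, 1],
    [193, 1, 4, 193, 1, 32, 1, 96, 1, 32],
    [193, 32, 4, 32, 32, 193, 4, 32, 96, 4, 32],
    [193, 1, 32, 96, 4, 32, 193, 32, 96, 1, 32],
    [193, 1, 96, 1, 193, 4, 32, 1, 96, 1, 32],
    [193, 32, 1, 32, 32, 1, 193, 4, 32, 1, 96, 32],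
    [193, 1, 193, 4, 193, 32, 96, 4, 32],
    [193, 1, 193, 1, 193, 32, 4, 32, 32, 4],
    [193, 32, 193, 4, 32, 193, 1, 4, 32, 32],
    [193, 193],
    [193, 96, 193, 32, 1, 32, 4, 32],
    [193, 1, 1, 193, 32, 4, 32, 1, 32],
    [193, 32, 32, 1, 32, 193, 1, 4, 32, 4, 96, 32],
    [193, 1, 193, 1, 193, 32, 4, 32, 32, 4]]

theorem knownB_check : relsB.all (knownOK 193 domB swapB namedB) = true := by decide +kernel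

theorem pinB_check : pinOK relsB wordB vB 7 altsB = true := by decide +kernel

theorem closedB_check : closedTbl (wordB :: relsB) repsB stepsB 7 [1, 4, 32, 96, 193] loopsB = true := by decide +kernel

end Cfsg.Agent.Lib.S3344
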