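import Cfsg.Agent.Lib.S3344.Pack

/-!
The fast table agrees with the product in coordinates.
-/

set_option autoImplicit false
set_option maxRecDepth 20000

namespace Cfsg.Agent.Lib.S3344

set_option maxHeartbeats 4000000 in
theorem rowsB_check : ((List.range 192).all fun i => (List.range 192).all fun j =>
    Nat.beq (mulB i j) (mulL 1 0 i j)) = true := by
  decide +kernel

end Cfsg.Agent.Lib.S3344
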