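import Cfsg.Agent.Lib.S3344.Pack
import Cfsg.Agent.Lib.MTwelveInv.Basic

/-!
The change of indices to the table of the Mathieu group.
-/

set_option autoImplicit false
set_option maxRecDepth 20000

namespace Cfsg.Agent.Lib.S3344

/-- Packed index map onto the table of the Mathieu group. -/
def toTwelve : ℕ := 0xc409b6f4150b49481b516426e7e3f5e5f2c7fab2515608095615126aa9a2b0b698546599e66562f485baf93542d78b0ad91220e7ab2133b24106b8711399c64334ebea24d1e8dbdb8a419058bbb08381f03728e0232a17174883549a7774c1c62824352996d5d2a3d5ca898532883b7b69627177da90a3e29096c7c184497633c57b39f582184acb19d2e1286ae0f473014677b0d45906865793a55926a5a230636a575374bbaa68fbf0434708c31014a1a89b91b07768aa3734f20bca01d00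

/-- Packed inverse index map. -/
def ofTwelve : ℕ := 0x167d780372190c77504fb6b93d8a379095328f38aca34a5563181d76077c69023c9b3681bda25b54414ea7b894238e29176c791273080d6684339e39515eb7a8adb24b442c8b269162091c67066d6813bcb35a4585229f282d9a2780405fa6a9afb0595696219c3b3e992493535ca5ba057e7b611a0f6497309d2a425db4bbbeb148573f882582701b1e65147f6a112f983592aea15847524da4ab87208d3a046f7a01600b0e75434cb5aa2e89348386318c2bbfa04946710a1f74156e6b1000

set_option maxHeartbeats 4000000 in
theorem twelve_check : ((List.range 192).all fun i => (List.range 192).all fun j =>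
    Nat.beq (ent ofTwelve (MTwelveInv.mulT i j)) (mulL 0 0 (ent ofTwelve i) (ent ofTwelve j))) = true := by
  decide +kernel

theorem twelve_inv_check : ((List.range 192).all fun i =>
    Nat.blt (ent ofTwelve i) 192 && Nat.blt (ent toTwelve i) 192 &&
      Nat.beq (ent toTwelve (ent ofTwelve i)) i && Nat.beq (ent ofTwelve (ent toTwelve i)) i) = true := by
  decide +kernel

theorem twelve_cls_check : ((List.range 32).all fun q =>
    Nat.beq q 0 || Nat.beq q 16 || !(Nat.beq (mulL 0 0 q q) 0) ||
      (Nat.beq (MTwelveInv.cls (ent toTwelve q)) 3 || Nat.beq (MTwelveInv.cls (ent toTwelve q)) 4)) = true ∧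
    ent ofTwelve 0 = 0 ∧ ent ofTwelve 1 = 16 := by
  decide +kernel


end Cfsg.Agent.Lib.S3344
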