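import Cfsg.Agent.Lib.S3344.Profile
import Cfsg.Agent.Lib.S3344.Twelve
import Cfsg.Agent.Lib.S3344.PackCheck
import Cfsg.Agent.Lib.MTwelveInv.Basic

/-!
A fused involution of the extraspecial group forces the top to split; the index change to the table of
the Mathieu group.
-/

set_option autoImplicit false
set_option maxRecDepth 20000

namespace Cfsg.Agent.Lib.S3344

variable {G : Type*} [Group G] {s : G} {f : ℕ → G} {sw tau : ℕ}

/-- The number of square roots of `x` commuting with `y`. -/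
noncomputable def rootCount (x y : G) : ℕ := Nat.card {k : G // k * k = x ∧ k * y = y * k}

theorem rootCount_conj (g x y : G) : rootCount (g * x * g⁻¹) (g * y * g⁻¹) = rootCount x y :=
  Nat.card_congr <| ((MulAut.conj g).toEquiv.subtypeEquiv fun k => by
    show _ ↔ g * k * g⁻¹ * (g * k * g⁻¹) = g * x * g⁻¹ ∧
      g * k * g⁻¹ * (g * y * g⁻¹) = g * y * g⁻¹ * (g * k * g⁻¹)
    constructor
    · rintro ⟨rfl, h⟩
      refine ⟨by group, ?_⟩
      calc g * k * g⁻¹ * (g * y * g⁻¹) = g * (k * y) * g⁻¹ := by group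
        _ = _ := by rw [h]; group
    · rintro ⟨h1, h2⟩
      refine ⟨?_, ?_⟩
      · calc k * k = g⁻¹ * (g * k * g⁻¹ * (g * k * g⁻¹)) * g := by group
          _ = _ := by rw [h1]; group
      · calc k * y = g⁻¹ * (g * k * g⁻¹ * (g * y * g⁻¹)) * g := by group
          _ = _ := by rw [h2]; group).symm

theorem card_filter_index (T : Tab (mulL sw tau) s f) (p : G → Prop) (q : ℕ → Bool)
    (hpq : ∀ i < 192, p (f i) ↔ q i = true) (hC : ∀ x, p x → x * s = s * x) :
    Nat.card {x : G // p x} = (List.range 192).countP q := by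
  classical
  rw [MTwelveInv.countP_range_eq_card, ← Nat.card_eq_finsetCard]
  refine (Nat.card_eq_of_bijective
    (fun i : ((Finset.range 192).filter fun i => q i = true) =>
      (⟨f i, (hpq i (Finset.mem_range.1 (Finset.mem_filter.1 i.2).1)).2
        (Finset.mem_filter.1 i.2).2⟩ : {x : G // p x})) ⟨?_, ?_⟩).symm
  · intro i j h
    exact Subtype.ext (T.inj i (Finset.mem_range.1 (Finset.mem_filter.1 i.2).1) j
      (Finset.mem_range.1 (Finset.mem_filter.1 j.2).1) (Subtype.mk.inj h))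
  · intro x
    obtain ⟨i, hi, hx⟩ := (T.range x.1).1 (hC _ x.2)
    refine ⟨⟨i, Finset.mem_filter.2 ⟨Finset.mem_range.2 hi, ?_⟩⟩, Subtype.ext hx⟩
    exact (hpq i hi).1 (hx.symm ▸ x.2)

theorem Tab.roots_centre (T : Tab (mulL sw tau) s f) {b : ℕ} (hb : b < 192) :
    rootCount s (f b) = roots sw tau b 16 := by
  refine card_filter_index T _ _ (fun i hi => ?_) fun x hx => ?_
  · simp only [Bool.and_eq_true, beq_iff_eq]
    rw [← T.inv_eq, ← T.mul i hi i hi, ← T.mul i hi b hb, ← T.mul b hb i hi]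
    exact ⟨fun ⟨h1, h2⟩ => ⟨T.inj _ (mulL_lt ..) _ (by norm_num) h1,
      T.inj _ (mulL_lt ..) _ (mulL_lt ..) h2⟩, fun ⟨h1, h2⟩ => ⟨congrArg f h1, congrArg f h2⟩⟩
  · rw [← hx.1, mul_assoc]

theorem Tab.roots_self (T : Tab (mulL sw tau) s f) {b : ℕ} (hb : b < 192) :
    rootCount (f b) s = roots sw tau b b := by
  refine card_filter_index T _ _ (fun i hi => ?_) fun x hx => hx.2
  simp only [Bool.and_eq_true, beq_iff_eq]
  rw [← T.mul i hi i hi]
  constructor
  · rintro ⟨h1, -⟩
    have e := T.inj _ (mulL_lt ..) _ hb h1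
    refine ⟨e, T.inj _ (mulL_lt ..) _ (mulL_lt ..) ?_⟩
    rw [T.mul i hi b hb, T.mul b hb i hi, ← h1, T.mul i hi i hi, mul_assoc]
  · rintro ⟨h1, -⟩
    exact ⟨congrArg f h1, (T.range _).2 ⟨i, hi, rfl⟩⟩

/-- An involution of the extraspecial group conjugate to the centre forces a split top, and then the
profile of its partner is the same. -/
theorem tau_eq_zero (T : Tab (mulL sw tau) s f) (hsw : sw < 2) (htau : tau < 2) {a : ℕ} (ha : a < 32)
    (ha0 : a ≠ 0) (ha16 : a ≠ 16) (hsq : f a * f a = 1) (hfu : IsConj s (f a)) : tau = 0 := by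
  obtain ⟨g, hg⟩ := isConj_iff.1 hfu
  have ha' : a < 192 := by omega
  have has : f a * s = s * f a := (T.range _).2 ⟨a, ha', rfl⟩
  have h16 : (16 : ℕ) < 192 := by norm_num
  have hsinv : s * s = 1 := by
    have h : g * (s * s) * g⁻¹ = 1 := by rw [← hsq, ← hg]; group
    simpa using h
  have hbs : (g⁻¹ * s * g) * s = s * (g⁻¹ * s * g) := by
    calc (g⁻¹ * s * g) * s = g⁻¹ * (s * (g * s * g⁻¹)) * g := by group
      _ = g⁻¹ * ((g * s * g⁻¹) * s) * g := by rw [hg, has]
      _ = _ := by group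
  obtain ⟨b, hb, hfb⟩ := (T.range _).1 hbs
  have hgb : g * f b * g⁻¹ = s := by rw [hfb]; group
  have hb2 : mulL sw tau b b = 0 := T.inj _ (mulL_lt ..) _ (by norm_num) (by
    rw [T.mul b hb b hb, T.one, hfb, show g⁻¹ * s * g * (g⁻¹ * s * g) = g⁻¹ * (s * s) * g by group,
      hsinv]; group)
  have ha2 : mulL sw tau a a = 0 := T.inj _ (mulL_lt ..) _ (by norm_num) (by rw [T.mul a ha' a ha', hsq, T.one])
  have hbne : b ≠ 0 ∧ b ≠ 16 := by
    refine ⟨fun e => ?_, fun e => ha16 ?_⟩
    · rw [e, T.one] at hgb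
      have h1 : f 0 = f 16 := by rw [T.one, T.inv_eq, ← hgb]; group
      exact absurd (T.inj 0 (by norm_num) 16 h16 h1) (by norm_num)
    · rw [e, T.inv_eq] at hgb
      exact T.inj a ha' 16 h16 (by rw [T.inv_eq, ← hg, hgb])
  have e1 : roots sw tau b 16 = roots sw tau a a := by
    rw [← T.roots_centre hb, ← T.roots_self ha', ← rootCount_conj g s (f b), hg, hgb]
  have e2 : roots sw tau b b = roots sw tau a 16 := by
    rw [← T.roots_self hb, ← T.roots_centre ha', ← rootCount_conj g (f b) s, hg, hgb]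
  have hp := profile_check sw hsw tau htau
  simp only [List.all_eq_true, List.mem_range] at hp
  have h1 := hp a ha'
  have h2 := hp b hb
  have na : Nat.beq a 0 = false ∧ Nat.beq a 16 = false :=
    ⟨(MTwelveInv.beq_false_iff a 0).2 ha0, (MTwelveInv.beq_false_iff a 16).2 ha16⟩
  have nb : Nat.beq b 0 = false ∧ Nat.beq b 16 = false :=
    ⟨(MTwelveInv.beq_false_iff b 0).2 hbne.1, (MTwelveInv.beq_false_iff b 16).2 hbne.2⟩
  rw [ha2, na.1, na.2] at h1
  rw [hb2, nb.1, nb.2] at h2
  simp only [profile, e1, e2] at h2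
  simp only [profile] at h1
  by_contra ht
  obtain rfl : tau = 1 := by omega
  revert h1 h2
  generalize roots sw 1 a 16 = p
  generalize roots sw 1 a a = q
  intro h1 h2
  rcases (show sw = 0 ∨ sw = 1 by omega) with rfl | rfl <;>
    simp [Nat.beq_refl, show Nat.beq 1 0 = false from rfl] at h1 h2 <;> omega

/-- The table of the Mathieu group. -/
theorem Tab.twelve (T : Tab (mulL 0 0) s f) : MTwelveInv.Table s fun i => f (ent ofTwelve i) := by
  have hc := twelve_inv_check
  simp only [List.all_eq_true, List.mem_range, Bool.and_eq_true, Nat.blt_eq] at hc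
  have hmul := twelve_check
  simp only [List.all_eq_true, List.mem_range] at hmul
  refine ⟨?_, ?_, fun i hi j hj e => ?_, fun i hi j hj => ?_, fun x => ?_⟩
  · simp only [twelve_cls_check.2.1, T.one]
  · simp only [twelve_cls_check.2.2, T.inv_eq]
  · have := congrArg (ent toTwelve) (T.inj _ (hc i hi).1.1.1 _ (hc j hj).1.1.1 e)
    rwa [Nat.eq_of_beq_eq_true (hc i hi).1.2, Nat.eq_of_beq_eq_true (hc j hj).1.2] at this
  · simp only [Nat.eq_of_beq_eq_true (hmul i hi j hj)]
    exact T.mul _ (hc i hi).1.1.1 _ (hc j hj).1.1.1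
  · rw [T.range]
    constructor
    · rintro ⟨i, hi, rfl⟩
      exact ⟨ent toTwelve i, (hc i hi).1.1.2,
        congrArg f (Nat.eq_of_beq_eq_true (hc i hi).2)⟩
    · rintro ⟨i, hi, rfl⟩
      exact ⟨_, (hc i hi).1.1.1, rfl⟩

theorem Tab.class_of_twelve {a : ℕ} (ha : a < 32) (ha0 : a ≠ 0) (ha16 : a ≠ 16)
    (ha2 : mulL 0 0 a a = 0) : ent toTwelve a < 192 ∧ ent ofTwelve (ent toTwelve a) = a ∧
      (MTwelveInv.cls (ent toTwelve a) = 3 ∨ MTwelveInv.cls (ent toTwelve a) = 4) := by
  have hc := twelve_inv_check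
  simp only [List.all_eq_true, List.mem_range, Bool.and_eq_true, Nat.blt_eq] at hc
  refine ⟨(hc a (by omega)).1.1.2, Nat.eq_of_beq_eq_true (hc a (by omega)).2, ?_⟩
  have h := twelve_cls_check.1
  simp only [List.all_eq_true, List.mem_range] at h
  have := h a ha
  rw [ha2, (MTwelveInv.beq_false_iff a 0).2 ha0, (MTwelveInv.beq_false_iff a 16).2 ha16] at this
  simpa [Nat.beq_refl, MTwelveInv.beq_true_iff] using this

end Cfsg.Agent.Lib.S3344
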