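import Mathlib

/-!
Coordinates for a group of order 192 with normal subgroup a central product of two quaternion groups
of order eight, extended by an element of order three and an element inverting it.
-/

set_option autoImplicit false

namespace Cfsg.Agent.Lib.S3344

/-- A binary digit. -/
def dig (q i : ℕ) : ℕ := q / 2 ^ i % 2

/-- The product of the central product of two quaternion groups. -/
def mq (q p : ℕ) : ℕ :=
  (dig q 0 + dig p 0) % 2 + 2 * ((dig q 1 + dig p 1) % 2) + 4 * ((dig q 2 + dig p 2) % 2) +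
    8 * ((dig q 3 + dig p 3) % 2) +
    16 * ((dig q 4 + dig p 4 + dig q 0 * dig p 0 + dig q 1 * dig p 0 + dig q 1 * dig p 1 +
      dig q 2 * dig p 2 + dig q 3 * dig p 2 + dig q 3 * dig p 3) % 2)

/-- An image times a digit. -/
def sc (v e : ℕ) : ℕ := Nat.mul v e

/-- The endomorphism with given images of the four generators. -/
def homQ (v0 v1 v2 v3 : ℕ) (q : ℕ) : ℕ :=
  mq (mq (mq (sc v0 (dig q 0)) (sc v1 (dig q 1))) (mq (sc v2 (dig q 2)) (sc v3 (dig q 3))))
    (sc 16 (dig q 4))

/-- Conjugation by the element of order three. -/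
def sigX (q : ℕ) : ℕ := homQ 2 3 8 12 q

/-- Iterates of the conjugation by the element of order three. -/
def sigXn : ℕ → ℕ → ℕ
  | 0, q => q
  | m + 1, q => sigX (sigXn m q)

/-- Conjugation by the inverting element; `sw = 1` exchanges the quaternion groups. -/
def sigT (sw q : ℕ) : ℕ := cond (sw == 0) (homQ 17 19 20 28 q) (homQ 20 28 17 19 q)

/-- The product in the group of order 192; `tau` is the exponent of the square of the inverting element. -/
def mulL (sw tau g h : ℕ) : ℕ :=
  let m := g / 32 % 3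
  let n := g / 96 % 2
  let M := h / 32 % 3
  let N := h / 96 % 2
  let p := cond (n == 0) (h % 32) (sigT sw (h % 32))
  mq (mq (g % 32) (sigXn m p)) (16 * (tau * n * N)) +
    32 * ((m + cond (n == 0) M (2 * M)) % 3) + 96 * ((n + N) % 2)

theorem dig_lt (q i : ℕ) : dig q i < 2 := Nat.mod_lt _ (by norm_num)

theorem dig_mq (q p : ℕ) :
    dig (mq q p) 0 = (dig q 0 + dig p 0) % 2 ∧ dig (mq q p) 1 = (dig q 1 + dig p 1) % 2 ∧
      dig (mq q p) 2 = (dig q 2 + dig p 2) % 2 ∧ dig (mq q p) 3 = (dig q 3 + dig p 3) % 2 ∧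
      dig (mq q p) 4 = (dig q 4 + dig p 4 + dig q 0 * dig p 0 + dig q 1 * dig p 0 + dig q 1 * dig p 1 +
      dig q 2 * dig p 2 + dig q 3 * dig p 2 + dig q 3 * dig p 3) % 2 := by
  unfold mq
  generalize hA : (dig q 0 + dig p 0) % 2 = A
  generalize hB : (dig q 1 + dig p 1) % 2 = B
  generalize hC : (dig q 2 + dig p 2) % 2 = C
  generalize hD : (dig q 3 + dig p 3) % 2 = D
  generalize hE : (dig q 4 + dig p 4 + dig q 0 * dig p 0 + dig q 1 * dig p 0 + dig q 1 * dig p 1 +
      dig q 2 * dig p 2 + dig q 3 * dig p 2 + dig q 3 * dig p 3) % 2 = E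
  have : A < 2 := hA ▸ Nat.mod_lt _ (by norm_num)
  have : B < 2 := hB ▸ Nat.mod_lt _ (by norm_num)
  have : C < 2 := hC ▸ Nat.mod_lt _ (by norm_num)
  have : D < 2 := hD ▸ Nat.mod_lt _ (by norm_num)
  have : E < 2 := hE ▸ Nat.mod_lt _ (by norm_num)
  interval_cases A <;> interval_cases B <;> interval_cases C <;> interval_cases D <;>
    interval_cases E <;> decide

theorem mq_lt (q p : ℕ) : mq q p < 32 := by
  unfold mq
  have := fun n : ℕ => Nat.mod_lt n (by norm_num : 2 > 0)
  omega

theorem mulL_lt (sw tau g h : ℕ) : mulL sw tau g h < 192 := by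
  have := mq_lt (mq (g % 32) (sigXn (g / 32 % 3) (cond (g / 96 % 2 == 0) (h % 32) (sigT sw (h % 32)))))
    (16 * (tau * (g / 96 % 2) * (h / 96 % 2)))
  unfold mulL
  simp only []
  omega

end Cfsg.Agent.Lib.S3344
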