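import Cfsg.Agent.Lib.S3344.DataM

/-!
The table and the two further elements inside the alternating group of degree eight.
-/

set_option autoImplicit false
set_option maxRecDepth 20000

namespace Cfsg.Agent.Lib.S3344

open Equiv

/-- First generator. -/
def pI : Perm (Fin 8) := swap 0 2 * swap 2 1 * swap 1 3 * swap 4 6 * swap 6 5 * swap 5 7
/-- Second generator. -/
def pJ : Perm (Fin 8) := swap 0 6 * swap 6 1 * swap 1 7 * swap 2 4 * swap 4 3 * swap 3 5
/-- Third generator. -/
def pU : Perm (Fin 8) := swap 0 4 * swap 4 1 * swap 1 5 * swap 2 6 * swap 6 3 * swap 3 7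
/-- Fourth generator. -/
def pV : Perm (Fin 8) := swap 0 3 * swap 3 1 * swap 1 2 * swap 4 6 * swap 6 5 * swap 5 7
/-- The central involution. -/
def pS : Perm (Fin 8) := swap 0 1 * swap 2 3 * swap 4 5 * swap 6 7
/-- The element of order three. -/
def pX : Perm (Fin 8) := swap 2 6 * swap 6 5 * swap 3 7 * swap 7 4
/-- The inverting element. -/
def pT : Perm (Fin 8) := swap 2 5 * swap 3 4
/-- The first further element. -/
def pH : Perm (Fin 8) := swap 1 6 * swap 3 5
/-- The second further element. -/
def pK : Perm (Fin 8) := swap 1 7 * swap 3 5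

/-- The table in the symmetric group. -/
def f8 (g : ℕ) : Perm (Fin 8) := elt pS pI pJ pU pV pX pT g

/-- A number for a permutation. -/
def code8 (p : Perm (Fin 8)) : ℕ := (p 0).val + 8 * ((p 1).val + 8 * ((p 2).val + 8 * ((p 3).val +
  8 * ((p 4).val + 8 * ((p 5).val + 8 * ((p 6).val + 8 * (p 7).val))))))

theorem code8_inj {p p' : Perm (Fin 8)} (e : code8 p = code8 p') : p = p' := by
  unfold code8 at e
  have := fun i => (p i).isLt
  have := fun i => (p' i).isLt
  have h0 : (p 0).val = (p' 0).val ∧ (p 1).val = (p' 1).val ∧ (p 2).val = (p' 2).val ∧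
      (p 3).val = (p' 3).val ∧ (p 4).val = (p' 4).val ∧ (p 5).val = (p' 5).val ∧
      (p 6).val = (p' 6).val ∧ (p 7).val = (p' 7).val := by
    have b := fun i => (p i).isLt
    have b' := fun i => (p' i).isLt
    have := b 0; have := b 1; have := b 2; have := b 3; have := b 4; have := b 5; have := b 6
    have := b 7; have := b' 0; have := b' 1; have := b' 2; have := b' 3; have := b' 4; have := b' 5
    have := b' 6; have := b' 7
    omega
  obtain ⟨e0, e1, e2, e3, e4, e5, e6, e7⟩ := h0
  ext i
  fin_cases i <;> assumption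

theorem qgens8 : QGens pS pI pJ pU pV pX :=
  { ss := by decide +kernel, sne := by decide +kernel, hi := by decide +kernel
    hj := by decide +kernel, hu := by decide +kernel, hv := by decide +kernel
    hx := by decide +kernel
    P := ⟨by decide +kernel, by decide +kernel, by decide +kernel⟩
    P' := ⟨by decide +kernel, by decide +kernel, by decide +kernel⟩
    iu := by decide +kernel, iv := by decide +kernel, ju := by decide +kernel
    jv := by decide +kernel, xi := by decide +kernel, xj := by decide +kernel
    xu := by decide +kernel, xv := by decide +kernel, x3 := by decide +kernel }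

theorem sigT8_check : ∀ q < 32, pT * phi pS pI pJ pU pV q * pT⁻¹ = phi pS pI pJ pU pV (sigT 1 q) := by
  have h : ((List.range 32).all fun q => code8 (pT * phi pS pI pJ pU pV q * pT⁻¹) ==
      code8 (phi pS pI pJ pU pV (sigT 1 q))) = true := by decide +kernel
  intro q hq
  simp only [List.all_eq_true, List.mem_range, beq_iff_eq] at h
  exact code8_inj (h q hq)

theorem f8_code_check :
    ((List.range 192).map fun g => code8 (f8 g)).Nodup := by
  decide +kernel

theorem ftab8 : FTab f8 := by
  refine ⟨by decide +kernel, fun i hi j hj => ?_, fun i hi j hj e => ?_⟩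
  · rw [mulB_eq hi hj]
    refine elt_mul qgens8 1 0 (fun q => ?_) (by decide +kernel) (by decide +kernel) i j
    have hmod : ∀ z : ℕ, phi pS pI pJ pU pV (z % 32) = phi pS pI pJ pU pV z := fun z => by
      have hd : ∀ k < 5, dig (z % 32) k = dig z k := fun k hk => by
        interval_cases k <;>
          (show z % 32 / _ % 2 = z / _ % 2) <;> norm_num <;> omega
      simp [phi, hd 0, hd 1, hd 2, hd 3, hd 4]
    have hsig : sigT 1 (q % 32) = sigT 1 q := by
      have hd : ∀ k < 5, dig (q % 32) k = dig q k := fun k hk => by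
        interval_cases k <;>
          (show q % 32 / _ % 2 = q / _ % 2) <;> norm_num <;> omega
      simp [sigT, homQ, hd 0, hd 1, hd 2, hd 3, hd 4]
    rw [← hmod q, sigT8_check _ (Nat.mod_lt _ (by norm_num)), hsig]
  · exact List.inj_on_of_nodup_map f8_code_check (List.mem_range.2 hi) (List.mem_range.2 hj)
      (congrArg code8 e)

theorem rels8_check : (relsM.all fun w => code8 (evalE (letE f8 pH pK) w) == code8 1) = true := by
  decide +kernel

theorem rels8 : ∀ w ∈ relsM, evalE (letE f8 pH pK) w = 1 := by
  intro w hw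
  have h := rels8_check
  simp only [List.all_eq_true, beq_iff_eq] at h
  exact code8_inj (h w hw)

theorem even8 : (∀ g < 192, Perm.sign (f8 g) = 1) ∧ Perm.sign pH = 1 ∧ Perm.sign pK = 1 := by
  decide +kernel

theorem seven8 : (f8 32 * pH) ^ 7 = 1 ∧ f8 32 * pH ≠ 1 ∧
    (f8 32 * f8 96 * pH * pK) ^ 5 = 1 ∧ f8 32 * f8 96 * pH * pK ≠ 1 := by
  decide +kernel

theorem special8 : f8 16 = pS ∧ f8 25 = swap 0 1 * swap 2 3 := by
  decide +kernel

end Cfsg.Agent.Lib.S3344
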