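import Cfsg.Agent.Lib.S3344.Table

/-!
Square roots of the central involution and of an involution, counted in the common centraliser.
-/

set_option autoImplicit false
set_option maxRecDepth 20000

namespace Cfsg.Agent.Lib.S3344

/-- Number of square roots of `c` commuting with `b`. -/
noncomputable def roots (sw tau b c : ℕ) : ℕ :=
  (List.range 192).countP fun k =>
    (mulL sw tau k k == c) && (mulL sw tau k b == mulL sw tau b k)

/-- `(roots of the centre, roots of b)` packed. -/
noncomputable def profile (sw tau b : ℕ) : ℕ := 16 * roots sw tau b 16 + roots sw tau b b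

theorem profile_check : ∀ sw < 2, ∀ tau < 2, ((List.range 192).all fun b =>
    cond (Nat.beq b 0 || Nat.beq b 16 || !(Nat.beq (mulL sw tau b b) 0)) true
      (List.elem (profile sw tau b)
        (cond (Nat.beq tau 0)
          (cond (Nat.blt b 32) (cond (Nat.beq sw 0) [68, 64] [68])
            (cond (Nat.beq sw 0) [68, 64, 0] [68, 0]))
          (cond (Nat.beq sw 0) [196, 64] [196])))) = true := by
  decide +kernel


end Cfsg.Agent.Lib.S3344
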