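import Cfsg.Agent.Lib.S3344.DataS
import Cfsg.Agent.Lib.S3344.Act
import Cfsg.Agent.Lib.S3344.Fuse

/-!
Fusion of the centre to the class of the index `5` gives an element swapping the two.
-/

set_option autoImplicit false
set_option maxRecDepth 20000
set_option maxHeartbeats 1000000

namespace Cfsg.Agent.Lib.S3344

/-- Commuting indices. -/
noncomputable def commB (i j : ℕ) : Bool := Nat.beq (mulB i j) (mulB j i)

/-- The number of indices commuting with two given ones. -/
noncomputable def centCount (b v : ℕ) : ℕ :=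
  (List.range 192).countP fun c => commB c b && commB c v

/-- The elementary abelian group determined by the centre and an involution. -/
noncomputable def inVof (b v : ℕ) : Bool :=
  commB v b && (Nat.beq v 0 || Nat.beq (mulB v v) 0 && !(Nat.beq (centCount b v) 16))

theorem vof_five_check : ((List.range 192).all fun i =>
    (inVof 5 i == vA.elem i) && (commB i 5 == domA.elem i)) &&
    Nat.beq (mulB 16 5) 21 && Nat.beq (centCount 5 5) 32 && Nat.beq (mulB 6 6) 0 &&
    (inL 6 5 == some 21) && (inL 6 21 == some 5) &&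
    ((List.range 192).any fun m => inL m 21 == some 5) &&
    (vA.all fun v => Nat.beq v 0 || Nat.beq v 16 ||
      (List.range 192).any fun l => inL l v == some 5) = true := by
  decide +kernel

/-- The checks at a possible partner of the centre. -/
noncomputable def partnerOK (b : ℕ) : Bool :=
  let V := (List.range 192).filter (inVof b)
  inVof b (mulB b 16) && (V.all fun v => (List.range 192).all fun l => V.elem (mulB (mulB l v) (invB l))) &&
    (List.range 192).any fun l => inL l b == some (mulB b 16)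

theorem vof_check : ((List.range 192).all fun b =>
    Nat.beq b 0 || Nat.beq b 16 || !(Nat.beq (mulB b b) 0) || !(Nat.beq (centCount b b) 32) ||
      partnerOK b) = true := by
  decide +kernel

/-- Product of indices. -/
noncomputable def prodB : List ℕ → ℕ
  | [] => 0
  | a :: l => mulB a (prodB l)

/-- The image of an element of the first domain under the map with given images of three generators. -/
noncomputable def imgR (y1 y2 y3 x : ℕ) : ℕ :=
  prodB (((wordsR.find? fun e => Nat.beq e.1 x).getD (0, [])).2.map fun g =>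
    if g = 1 then y1 else if g = 10 then y2 else y3)

theorem wordsR_check : (domA.all fun x =>
    (wordsR.find? fun e => Nat.beq e.1 x).any fun e => Nat.beq (prodB e.2) x &&
      e.2.all fun g => [1, 10, 96].elem g) = true := by
  decide +kernel

/-- The candidate can be corrected to one of the two swapping maps. -/
noncomputable def correctable (y1 y2 y3 : ℕ) : Bool :=
  domA.any fun r => Nat.beq (mulB (imgR y1 y2 y3 r) r) 0 &&
    ([swapA, swapA'].any fun code => domA.all fun x =>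
      Nat.beq (mulB (mulB (imgR y1 y2 y3 r) (imgR y1 y2 y3 x)) r) (ent code x))

theorem alpha_check : (domA.all fun y1 => domA.all fun y2 => domA.all fun y3 =>
    !(Nat.beq (imgR y1 y2 y3 16) 5) ||
    !((Nat.beq (imgR y1 y2 y3 y1) 1 && Nat.beq (imgR y1 y2 y3 y2) 10) && Nat.beq (imgR y1 y2 y3 y3) 96) ||
    !(domA.all fun x => [1, 10, 96].all fun g =>
      Nat.beq (imgR y1 y2 y3 (mulB x g)) (mulB (imgR y1 y2 y3 x) (imgR y1 y2 y3 g))) ||
    correctable y1 y2 y3) = true := by
  decide +kernel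

variable {G : Type*} [Group G] {s : G} {f : ℕ → G}

theorem Tab.commB_iff (T : Tab mulB s f) {i j : ℕ} (hi : i < 192) (hj : j < 192) :
    commB i j = true ↔ f i * f j = f j * f i := by
  simp only [commB, MTwelveInv.beq_true_iff, ← T.mul i hi j hj, ← T.mul j hj i hi]
  exact ⟨congrArg f, T.inj _ (mulB_lt hi hj) _ (mulB_lt hj hi)⟩

/-- The common centraliser. -/
def cent3 (x y z : G) : Set G := {c | c * x = x * c ∧ c * y = y * c ∧ c * z = z * c}

/-- The elementary abelian group determined by two commuting involutions. -/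
def InChar (x y z : G) : Prop :=
  z * x = x * z ∧ z * y = y * z ∧ (z = 1 ∨ z * z = 1 ∧ Nat.card (cent3 x y z) ≠ 16)

theorem inChar_swap {x y z : G} : InChar x y z ↔ InChar y x z := by
  have : cent3 x y z = cent3 y x z := by
    ext c; simp only [cent3, Set.mem_setOf_eq]; tauto
  simp only [InChar, this]
  tauto

theorem conj_comm_iff' (g a b : G) :
    g * a * g⁻¹ * (g * b * g⁻¹) = g * b * g⁻¹ * (g * a * g⁻¹) ↔ a * b = b * a := by
  constructor <;> intro h
  · calc a * b = g⁻¹ * (g * a * g⁻¹ * (g * b * g⁻¹)) * g := by group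
      _ = _ := by rw [h]; group
  · calc g * a * g⁻¹ * (g * b * g⁻¹) = g * (a * b) * g⁻¹ := by group
      _ = _ := by rw [h]; group

theorem inChar_conj (g x y z : G) :
    InChar (g * x * g⁻¹) (g * y * g⁻¹) (g * z * g⁻¹) ↔ InChar x y z := by
  have hc : Nat.card (cent3 (g * x * g⁻¹) (g * y * g⁻¹) (g * z * g⁻¹)) = Nat.card (cent3 x y z) :=
    (Nat.card_congr ((MulAut.conj g).toEquiv.subtypeEquiv fun c => by
      show c ∈ cent3 x y z ↔ g * c * g⁻¹ ∈ cent3 (g * x * g⁻¹) (g * y * g⁻¹) (g * z * g⁻¹)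
      simp only [cent3, Set.mem_setOf_eq, conj_comm_iff'])).symm
  have e1 : g * z * g⁻¹ = 1 ↔ z = 1 := conj_eq_one_iff
  have e2 : g * z * g⁻¹ * (g * z * g⁻¹) = 1 ↔ z * z = 1 := by
    rw [show g * z * g⁻¹ * (g * z * g⁻¹) = g * (z * z) * g⁻¹ by group]; exact conj_eq_one_iff
  simp only [InChar, conj_comm_iff', hc, e1, e2]

theorem Tab.card_cent3 (T : Tab mulB s f) {b v : ℕ} (hb : b < 192) (hv : v < 192) :
    Nat.card (cent3 s (f b) (f v)) = centCount b v := by
  classical
  rw [centCount, MTwelveInv.countP_range_eq_card, ← Nat.card_eq_finsetCard]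
  refine (Nat.card_eq_of_bijective
    (fun i : ((Finset.range 192).filter fun i => (commB i b && commB i v) = true) =>
      (⟨f i, (T.range _).2 ⟨i, Finset.mem_range.1 (Finset.mem_filter.1 i.2).1, rfl⟩,
        (T.commB_iff (Finset.mem_range.1 (Finset.mem_filter.1 i.2).1) hb).1
          (Bool.and_eq_true_iff.1 (Finset.mem_filter.1 i.2).2).1,
        (T.commB_iff (Finset.mem_range.1 (Finset.mem_filter.1 i.2).1) hv).1
          (Bool.and_eq_true_iff.1 (Finset.mem_filter.1 i.2).2).2⟩ : cent3 s (f b) (f v))) ⟨?_, ?_⟩).symm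
  · intro i j h
    exact Subtype.ext (T.inj i (Finset.mem_range.1 (Finset.mem_filter.1 i.2).1) j
      (Finset.mem_range.1 (Finset.mem_filter.1 j.2).1) (Subtype.mk.inj h))
  · rintro ⟨x, h1, h2, h3⟩
    obtain ⟨i, hi, rfl⟩ := (T.range x).1 h1
    exact ⟨⟨i, Finset.mem_filter.2 ⟨Finset.mem_range.2 hi, Bool.and_eq_true_iff.2
      ⟨(T.commB_iff hi hb).2 h2, (T.commB_iff hi hv).2 h3⟩⟩⟩, rfl⟩

theorem Tab.inChar_iff (T : Tab mulB s f) {b : ℕ} (hb : b < 192) (z : G) :
    InChar s (f b) z ↔ ∃ v < 192, inVof b v = true ∧ f v = z := by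
  have h1 : ∀ v < 192, (f v = 1 ↔ v = 0) ∧ (f v * f v = 1 ↔ mulB v v = 0) := fun v hv => by
    refine ⟨⟨fun e => T.inj v hv 0 (by norm_num) (e.trans T.one.symm), fun e => by rw [e, T.one]⟩, ?_⟩
    rw [← T.mul v hv v hv, ← T.one]
    exact ⟨T.inj _ (mulB_lt hv hv) _ (by norm_num), congrArg f⟩
  constructor
  · rintro ⟨hz1, hz2, hz3⟩
    obtain ⟨v, hv, rfl⟩ := (T.range z).1 hz1
    refine ⟨v, hv, ?_, rfl⟩
    rw [inVof, Bool.and_eq_true]
    refine ⟨(T.commB_iff hv hb).2 hz2, ?_⟩
    rcases hz3 with e | ⟨e, e'⟩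
    · simp [(h1 v hv).1.1 e, Nat.beq_refl]
    · rw [T.card_cent3 hb hv] at e'
      simp [(h1 v hv).2.1 e, Nat.beq_refl, (MTwelveInv.beq_false_iff _ _).2 e']
  · rintro ⟨v, hv, h, rfl⟩
    simp only [inVof, Bool.and_eq_true, Bool.or_eq_true, Bool.not_eq_true',
      MTwelveInv.beq_true_iff, MTwelveInv.beq_false_iff] at h
    refine ⟨(T.range _).2 ⟨v, hv, rfl⟩, (T.commB_iff hv hb).1 h.1, ?_⟩
    rcases h.2 with e | ⟨e, e'⟩
    · exact Or.inl ((h1 v hv).1.2 e)
    · exact Or.inr ⟨(h1 v hv).2.2 e, by rwa [T.card_cent3 hb hv]⟩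

theorem prodB_spec (F : FTab f) : ∀ l : List ℕ, (∀ a ∈ l, a < 192) →
    prodB l < 192 ∧ f (prodB l) = (l.map f).prod
  | [], _ => ⟨by simp [prodB], by simp [prodB, F.one]⟩
  | a :: l, h => by
    obtain ⟨h1, h2⟩ := prodB_spec F l fun b hb => h b (List.mem_cons_of_mem _ hb)
    have ha := h a List.mem_cons_self
    exact ⟨mulB_lt ha h1, by rw [prodB, F.mul a ha _ h1, h2]; simp⟩

theorem inL_eq_some {g x y : ℕ} (F : FTab f) (h : inL g x = some y) :
    f g * f x * (f g)⁻¹ = f y := (moves_inL F g x y h).2.2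

/-- The elementary abelian group is kept by an element. -/
def KeepsV (f : ℕ → G) (y : G) : Prop := ∀ v ∈ vA, ∃ w ∈ vA, y * f v * y⁻¹ = f w

theorem KeepsV.mul {a b : G} (ha : KeepsV f a) (hb : KeepsV f b) : KeepsV f (a * b) := fun v hv => by
  obtain ⟨w, hw, e⟩ := hb v hv
  obtain ⟨w', hw', e'⟩ := ha w hw
  exact ⟨w', hw', by rw [← e', ← e]; group⟩

/-- The centraliser of a fused involution normalises the elementary abelian group, some element of
the normaliser carries the centre to it, and an involution swaps the two. -/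
theorem exists_side (T : Tab mulB s f) (h5 : IsConj s (f 5)) :
    (∀ y, y * s = s * y → KeepsV f y) ∧ (∀ y, y * f 5 = f 5 * y → KeepsV f y) ∧
      (∃ k, KeepsV f k ∧ KeepsV f k⁻¹ ∧ k * s * k⁻¹ = f 5) ∧
      ∃ h, Swaps f domA swapA h ∨ Swaps f domA swapA' h := by
  have F := T.ftab
  have h16 : (16 : ℕ) < 192 := by norm_num
  have hf5 : (5 : ℕ) < 192 := by norm_num
  have hV : ∀ v ∈ vA, v < 192 := by decide
  have hD : ∀ v ∈ domA, v < 192 := by decide
  have c5 := vof_five_check
  simp only [Bool.and_eq_true, List.all_eq_true, List.mem_range, List.any_eq_true, Bool.or_eq_true,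
    beq_iff_eq, MTwelveInv.beq_true_iff, decide_eq_true_eq] at c5
  obtain ⟨⟨⟨⟨⟨⟨⟨c5a, e21⟩, e32⟩, e66⟩, t5⟩, t21⟩, ⟨m, hm, hm21⟩⟩, hcls⟩ := c5
  have hVof : ∀ z, InChar s (f 5) z ↔ ∃ v ∈ vA, f v = z := fun z => by
    rw [T.inChar_iff hf5]
    constructor
    · rintro ⟨v, hv, h, rfl⟩
      refine ⟨v, ?_, rfl⟩
      have := (c5a v hv).1
      rw [h] at this
      simpa using this.symm
    · rintro ⟨v, hv, rfl⟩
      refine ⟨v, hV v hv, ?_, rfl⟩
      rw [(c5a v (hV v hv)).1]
      simpa using hv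
  obtain ⟨g, hg⟩ := isConj_iff.1 h5
  have hs5 : s * f 5 = f 5 * s := ((T.range _).2 ⟨5, hf5, rfl⟩).symm
  obtain ⟨b, hb, hfb⟩ := (T.range (g⁻¹ * s * g)).1 (by
    calc g⁻¹ * s * g * s = g⁻¹ * (s * (g * s * g⁻¹)) * g := by group
      _ = g⁻¹ * ((g * s * g⁻¹) * s) * g := by rw [hg, hs5]
      _ = _ := by group)
  have hgb : g * f b * g⁻¹ = s := by rw [hfb]; group
  have hss : s * s = 1 := by
    rw [← T.inv_eq, ← T.mul 16 h16 16 h16, show mulB 16 16 = 0 by decide +kernel, T.one]
  have hcnt : centCount b b = 32 := by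
    rw [← e32, ← T.card_cent3 hb hb, ← T.card_cent3 hf5 hf5]
    refine Nat.card_congr ((MulAut.conj g).toEquiv.subtypeEquiv fun c => ?_)
    show c ∈ cent3 s (f b) (f b) ↔ g * c * g⁻¹ ∈ cent3 s (f 5) (f 5)
    have h1 : (g * c * g⁻¹) * s = s * (g * c * g⁻¹) ↔ c * f b = f b * c := by
      rw [← hgb]; exact conj_comm_iff' g c (f b)
    have h2 : (g * c * g⁻¹) * f 5 = f 5 * (g * c * g⁻¹) ↔ c * s = s * c := by
      rw [← hg]; exact conj_comm_iff' g c s
    simp only [cent3, Set.mem_setOf_eq, h1, h2]; tauto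
  have hb0 : b ≠ 0 ∧ b ≠ 16 := by
    refine ⟨fun e => ?_, fun e => ?_⟩
    · rw [e, T.one] at hgb
      have h1 : f 0 = f 16 := by rw [T.one, T.inv_eq, ← hgb]; group
      exact absurd (T.inj 0 (by norm_num) 16 h16 h1) (by norm_num)
    · rw [e, T.inv_eq] at hgb
      exact absurd (T.inj 5 hf5 16 h16 (by rw [T.inv_eq, ← hg, hgb])) (by norm_num)
  have hb2 : mulB b b = 0 := T.inj _ (mulB_lt hb hb) _ (by norm_num) (by
    rw [T.mul b hb b hb, T.one, hfb, show g⁻¹ * s * g * (g⁻¹ * s * g) = g⁻¹ * (s * s) * g by group,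
      hss]; group)
  have hp := vof_check
  simp only [List.all_eq_true, List.mem_range] at hp
  have hpb := hp b hb
  rw [hb2, hcnt, (MTwelveInv.beq_false_iff b 0).2 hb0.1, (MTwelveInv.beq_false_iff b 16).2 hb0.2] at hpb
  simp only [Nat.beq_refl, Bool.not_true, Bool.or_self, Bool.false_or, partnerOK, Bool.and_eq_true,
    List.all_eq_true, List.mem_filter, List.mem_range, List.any_eq_true, beq_iff_eq,
    List.elem_eq_mem, decide_eq_true_eq] at hpb
  obtain ⟨⟨hb16, hnorm⟩, l, hl, hlb⟩ := hpb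
  -- the partner group goes to the group of the pair
  have hmap : ∀ z, InChar s (f b) z ↔ ∃ v ∈ vA, f v = g * z * g⁻¹ := fun z => by
    rw [← hVof, ← inChar_conj g s (f b) z, hg, hgb, inChar_swap]
  have hkeepL : ∀ a < 192, KeepsV f (g * f a * g⁻¹) := fun a ha v hv => by
    have hz : InChar s (f b) (g⁻¹ * f v * g) := (hmap _).2 ⟨v, hv, by group⟩
    obtain ⟨u, hu, hu1, hu2⟩ := (T.inChar_iff hb _).1 hz
    obtain ⟨hlt, hin⟩ := hnorm u ⟨hu, hu1⟩ a ha
    obtain ⟨w, hw, hwe⟩ := (hmap _).1 ((T.inChar_iff hb _).2 ⟨_, hlt, hin, rfl⟩)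
    refine ⟨w, hw, ?_⟩
    rw [hwe, F.mul _ (mulB_lt ha hu) _ (invB_spec ha).1, F.mul a ha u hu, F.inv ha, hu2]
    group
  have hC5 : ∀ y, y * f 5 = f 5 * y → KeepsV f y := fun y hy => by
    obtain ⟨a, ha, e⟩ := (T.range (g⁻¹ * y * g)).1 (by
      rw [← conj_comm_iff' g, hg, show g * (g⁻¹ * y * g) * g⁻¹ = y by group]; exact hy)
    have := hkeepL a ha
    rwa [e, show g * (g⁻¹ * y * g) * g⁻¹ = y by group] at this
  have hCs : ∀ y, y * s = s * y → KeepsV f y := fun y hy v hv => by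
    obtain ⟨a, ha, rfl⟩ := (T.range y).1 hy
    have hv' := (hVof (f v)).2 ⟨v, hv, rfl⟩
    have h5' := vof_check
    simp only [List.all_eq_true, List.mem_range] at h5'
    have h55 := h5' 5 hf5
    rw [e32, show mulB 5 5 = 0 by decide +kernel] at h55
    simp only [Nat.beq_refl, show Nat.beq 5 0 = false from rfl, show Nat.beq 5 16 = false from rfl,
      Bool.not_true, Bool.or_self, Bool.false_or, partnerOK, Bool.and_eq_true, List.all_eq_true,
      List.mem_filter, List.mem_range, List.elem_eq_mem, decide_eq_true_eq] at h55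
    obtain ⟨hlt, hin⟩ := h55.1.2 v ⟨hV v hv, by
      obtain ⟨u, hu, h1, h2⟩ := (T.inChar_iff hf5 _).1 hv'
      rwa [T.inj u hu v (hV v hv) h2] at h1⟩ a ha
    refine ⟨_, (by simpa [hin] using ((c5a _ hlt).1).symm), ?_⟩
    rw [F.mul _ (mulB_lt ha (hV v hv)) _ (invB_spec ha).1, F.mul a ha v (hV v hv), F.inv ha]
  -- the element carrying the centre
  have hk : ∀ a < 192, KeepsV f (g * f a * g⁻¹)⁻¹ := fun a ha => by
    rw [show (g * f a * g⁻¹)⁻¹ = g * (f a)⁻¹ * g⁻¹ by group, ← F.inv ha]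
    exact hkeepL _ (invB_spec ha).1
  have hLk : ∀ a < 192, KeepsV f (f a) := fun a ha => hCs _ ((T.range _).2 ⟨a, ha, rfl⟩)
  have hLk' : ∀ a < 192, KeepsV f (f a)⁻¹ := fun a ha => by
    rw [← F.inv ha]; exact hLk _ (invB_spec ha).1
  obtain ⟨k, hkV, hkV', hks⟩ : ∃ k, KeepsV f k ∧ KeepsV f k⁻¹ ∧ k * s * k⁻¹ = f 5 := by
    refine ⟨f m * (g * f l * g⁻¹), (hLk m hm).mul (hkeepL l hl), ?_, ?_⟩
    · rw [mul_inv_rev]; exact (hk l hl).mul (hLk' m hm)
    · have h1 : g * f l * g⁻¹ * s * (g * f l * g⁻¹)⁻¹ = f 21 := by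
        conv_lhs => rw [← hgb]
        rw [show g * f l * g⁻¹ * (g * f b * g⁻¹) * (g * f l * g⁻¹)⁻¹ =
          g * (f l * f b * (f l)⁻¹) * g⁻¹ by group, inL_eq_some F hlb, F.mul b hb 16 h16, T.inv_eq,
          show g * (f b * s) * g⁻¹ = g * f b * g⁻¹ * (g * s * g⁻¹) by group, hg, hgb, ← T.inv_eq,
          ← F.mul 16 h16 5 hf5, e21]
      rw [← inL_eq_some F hm21, ← h1]
      group
  refine ⟨hCs, hC5, ⟨k, hkV, hkV', hks⟩, ?_⟩
  -- the involution swapping the pair
  have hk5 : k⁻¹ * f 5 * k⁻¹⁻¹ = s := by rw [← hks]; group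
  obtain ⟨v, hv, hkv⟩ := hkV' 21 (by decide)
  have hv0 : v ≠ 0 ∧ v ≠ 16 := by
    refine ⟨fun e => ?_, fun e => ?_⟩
    · rw [e, T.one] at hkv
      exact absurd (F.inj 21 (by norm_num) 0 (by norm_num)
        ((conj_eq_one_iff.1 hkv).trans T.one.symm)) (by norm_num)
    · rw [e, T.inv_eq, ← hk5] at hkv
      exact absurd (F.inj 21 (by norm_num) 5 hf5 (mul_left_cancel (mul_right_cancel hkv)))
        (by norm_num)
  obtain ⟨l2, hl2, hl25⟩ : ∃ l2 < 192, inL l2 v = some 5 := by
    rcases hcls v hv with (e | e) | e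
    · exact absurd e hv0.1
    · exact absurd e hv0.2
    · exact e
  set c := f l2 * k⁻¹ with hcdef
  have hl2s : f l2 * s * (f l2)⁻¹ = s := by
    rw [(T.range (f l2)).2 ⟨l2, hl2, rfl⟩, mul_inv_cancel_right]
  have hc5 : c * f 5 * c⁻¹ = s := by
    conv_rhs => rw [← hl2s, ← hk5]
    rw [hcdef]; group
  have hc21 : c * f 21 * c⁻¹ = f 5 := by
    rw [← inL_eq_some F hl25, ← hkv, hcdef]; group
  set h := c * f 6 * c⁻¹ with hhdef
  have hh2 : h * h = 1 := by
    rw [hhdef, show c * f 6 * c⁻¹ * (c * f 6 * c⁻¹) = c * (f 6 * f 6) * c⁻¹ by group,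
      ← F.mul 6 (by norm_num) 6 (by norm_num), e66, F.one]; group
  have hi : h⁻¹ = h := inv_eq_of_mul_eq_one_right hh2
  have hhs : h * s * h = f 5 := by
    rw [show h * s * h = h * s * h⁻¹ by rw [hi], ← hc5, hhdef,
      show c * f 6 * c⁻¹ * (c * f 5 * c⁻¹) * (c * f 6 * c⁻¹)⁻¹ = c * (f 6 * f 5 * (f 6)⁻¹) * c⁻¹ by
        group, inL_eq_some F t5, hc21]
  have hh5 : h * f 5 * h = s := by
    rw [← hhs, show h * (h * s * h) * h = (h * h) * s * (h * h) by group, hh2, one_mul, mul_one]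
  have hR : ∀ x ∈ domA, ∃ y ∈ domA, h * f x * h = f y := fun x hx => by
    have hxl := hD x hx
    have hcx : f x * f 5 = f 5 * f x := (T.commB_iff hxl hf5).1 (by
      rw [(c5a x hxl).2]; simpa using hx)
    have e1 : h * f x * h * s = s * (h * f x * h) := by
      have := (conj_comm_iff' h (f x) (f 5)).2 hcx
      rw [hi, hh5] at this
      exact this
    have e2 : h * f x * h * f 5 = f 5 * (h * f x * h) := by
      have hxs : f x * s = s * f x := (T.range _).2 ⟨x, hxl, rfl⟩
      have := (conj_comm_iff' h (f x) s).2 hxs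
      rw [hi, hhs] at this
      exact this
    obtain ⟨y, hy, e⟩ := (T.range _).1 e1
    refine ⟨y, ?_, e.symm⟩
    have : commB y 5 = true := (T.commB_iff hy hf5).2 (by rw [e]; exact e2)
    rw [(c5a y hy).2] at this
    simpa using this
  obtain ⟨y1, hy1, e1⟩ := hR 1 (by decide)
  obtain ⟨y2, hy2, e2⟩ := hR 10 (by decide)
  obtain ⟨y3, hy3, e3⟩ := hR 96 (by decide)
  have himg : ∀ x ∈ domA, imgR y1 y2 y3 x < 192 ∧ h * f x * h = f (imgR y1 y2 y3 x) := by
    intro x hx
    have hw := wordsR_check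
    simp only [List.all_eq_true, Option.any_eq_true, Bool.and_eq_true, MTwelveInv.beq_true_iff,
      List.elem_eq_mem, decide_eq_true_eq] at hw
    obtain ⟨e, he, he1, he2⟩ := hw x hx
    rw [imgR, he, Option.getD_some]
    have hg' : ∀ g ∈ e.2, g < 192 ∧ (if g = 1 then y1 else if g = 10 then y2 else y3) < 192 ∧
        h * f g * h⁻¹ = f (if g = 1 then y1 else if g = 10 then y2 else y3) := by
      intro g hg
      have := he2 g hg
      simp only [List.mem_cons, List.not_mem_nil, or_false] at this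
      rw [hi]
      rcases this with rfl | rfl | rfl <;> norm_num [hD _ hy1, hD _ hy2, hD _ hy3, e1, e2, e3]
    obtain ⟨h1, h2⟩ := prodB_spec F (e.2.map fun g => if g = 1 then y1 else if g = 10 then y2 else y3)
      fun a ha => by obtain ⟨g, hg, rfl⟩ := List.mem_map.1 ha; exact (hg' g hg).2.1
    refine ⟨h1, ?_⟩
    rw [h2, ← he1, (prodB_spec F e.2 fun a ha => (hg' a ha).1).2]
    nth_rw 2 [← hi]
    rw [← MulAut.conj_apply, map_list_prod, List.map_map, List.map_map]
    exact congrArg List.prod (List.map_congr_left fun g hg => (hg' g hg).2.2)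
  have hclosed : ∀ x ∈ domA, ∀ g ∈ [1, 10, 96], mulB x g ∈ domA := by decide +kernel
  have hval : ∀ {x z : ℕ}, x ∈ domA → z < 192 → h * f x * h = f z → imgR y1 y2 y3 x = z :=
    fun hx hz e => F.inj _ (himg _ hx).1 _ hz ((himg _ hx).2.symm.trans e)
  have hinv : ∀ {x y : ℕ}, x ∈ domA → y ∈ domA → h * f x * h = f y → imgR y1 y2 y3 y = x := by
    intro x y hx hy e
    refine hval hy (hD x hx) ?_
    rw [← e, show h * (h * f x * h) * h = (h * h) * f x * (h * h) by group, hh2, one_mul, mul_one]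
  have hcand := alpha_check
  simp only [List.all_eq_true, Bool.or_eq_true, Bool.not_eq_true'] at hcand
  rcases hcand y1 hy1 y2 hy2 y3 hy3 with ((e | e) | e) | e
  · exact absurd (hval (by decide) hf5 (by rw [T.inv_eq, hhs])) ((MTwelveInv.beq_false_iff _ _).1 e)
  · rw [hinv (by decide) hy1 e1, hinv (by decide) hy2 e2, hinv (by decide) hy3 e3] at e
    simp at e
  · exfalso
    rw [← Bool.not_eq_true, List.all_eq_true] at e
    refine e fun x hx => List.all_eq_true.2 fun g hg => (MTwelveInv.beq_true_iff _ _).2 ?_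
    have hgd : g ∈ domA := by
      simp only [List.mem_cons, List.not_mem_nil, or_false] at hg
      rcases hg with rfl | rfl | rfl <;> decide
    refine hval (hclosed x hx g hg) (mulB_lt (himg x hx).1 (himg g hgd).1) ?_
    rw [F.mul _ (himg x hx).1 _ (himg g hgd).1, ← (himg x hx).2, ← (himg g hgd).2,
      F.mul x (hD x hx) g (hD g hgd)]
    calc h * (f x * f g) * h = h * f x * (h * h) * f g * h := by rw [hh2, mul_one]; group
      _ = _ := by group
  · simp only [correctable, List.any_eq_true, Bool.and_eq_true, List.all_eq_true,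
      MTwelveInv.beq_true_iff] at e
    obtain ⟨r, hr, hr0, code, hcode, hall⟩ := e
    obtain ⟨hr1, hr2⟩ := himg r hr
    have hsq : h * f r * (h * f r) = 1 := by
      rw [show h * f r * (h * f r) = h * f r * h * f r by group, hr2, ← F.mul _ hr1 r (hD r hr),
        hr0, F.one]
    refine ⟨h * f r, ?_⟩
    have hsw : Swaps f domA code (h * f r) := ⟨hsq, fun x hx => by
      obtain ⟨hx1, hx2⟩ := himg x hx
      have hlt := mulB_lt (mulB_lt hr1 hx1) (hD r hr)
      refine ⟨hD x hx, by rw [← hall x hx]; exact hlt, ?_⟩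
      rw [← hall x hx, F.mul _ (mulB_lt hr1 hx1) _ (hD r hr), F.mul _ hr1 _ hx1, ← hr2, ← hx2]
      calc h * f r * f x * (h * f r) = h * f r * (h * h) * f x * h * f r := by rw [hh2, mul_one]; group
        _ = _ := by group⟩
    simp only [List.mem_cons, List.not_mem_nil, or_false] at hcode
    rcases hcode with rfl | rfl
    exacts [Or.inl hsw, Or.inr hsw]

end Cfsg.Agent.Lib.S3344
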