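import Cfsg.Agent.Lib.S3344.Cert

/-!
Normal forms of words, and the pinning of an element by refuted derivations.
-/

set_option autoImplicit false

namespace Cfsg.Agent.Lib.S3344

/-- A word as a leading label followed by further letters, each with a label. -/
noncomputable def synW : List ℕ → ℕ × List (ℕ × ℕ)
  | [] => (0, [])
  | g :: w => if g < 192 then (mulB g (synW w).1, (synW w).2) else (0, (g, (synW w).1) :: (synW w).2)

/-- The normal form of a word inverting `x` to the image of `x` under a packed map. -/
noncomputable def swapOK (g : ℕ) (dom : List ℕ) (code : ℕ) (w : List ℕ) : Bool :=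
  match synW w with
  | (0, [(g1, x), (g2, y)]) => g1 == g && g2 == g && dom.elem x && y == invB (ent code x)
  | _ => false

/-- Relators known for an element swapping the centre. -/
noncomputable def knownOK (g : ℕ) (dom : List ℕ) (code : ℕ) (named : List (List ℕ)) (w : List ℕ) : Bool :=
  synW w == (0, []) || synW w == (0, [(g, 0), (g, 0)]) || swapOK g dom code w ||
    named.any fun v => synW w == synW v

/-- Every nonzero candidate label is refuted. -/
noncomputable def pinOK (rels : List (List ℕ)) (word : List ℕ) (cands : List ℕ) (n : ℕ)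
    (alts : List (ℕ × List ℕ × List (List ℕ) × List LStep × ℕ × ℕ)) : Bool :=
  cands.all fun c => c == 0 || (decide (c < 192) && mulB c c == 0 &&
    alts.any fun p => p.1 == c && synW p.2.1 == (c, []) &&
      refute ((word ++ p.2.1) :: rels) p.2.2.1 p.2.2.2.1 n p.2.2.2.2.1 p.2.2.2.2.2)

variable {G : Type*} [Group G] {f : ℕ → G} {h h' : G}

/-- An element of order two acting on part of the table by a packed map. -/
structure Swaps (f : ℕ → G) (dom : List ℕ) (code : ℕ) (h : G) : Prop where
  sq : h * h = 1
  conj : ∀ x ∈ dom, x < 192 ∧ ent code x < 192 ∧ h * f x * h = f (ent code x)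

theorem evalE_nil (φ : ℕ → G) : evalE φ [] = 1 := rfl

theorem evalE_cons (φ : ℕ → G) (g : ℕ) (w : List ℕ) : evalE φ (g :: w) = φ g * evalE φ w := by
  simp [evalE]

theorem evalE_append (φ : ℕ → G) (v w : List ℕ) : evalE φ (v ++ w) = evalE φ v * evalE φ w := by
  simp [evalE]

/-- The value of a normal form. -/
def valS (f : ℕ → G) (h h' : G) (p : ℕ × List (ℕ × ℕ)) : G :=
  f p.1 * (p.2.map fun e => letE f h h' e.1 * f e.2).prod

theorem synW_spec (F : FTab f) : ∀ w : List ℕ, (synW w).1 < 192 ∧
    evalE (letE f h h') w = valS f h h' (synW w) := by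
  intro w
  induction w with
  | nil => exact ⟨by simp [synW], by simp [synW, valS, evalE, F.one]⟩
  | cons g w ih =>
    obtain ⟨h1, h2⟩ := ih
    rw [evalE_cons, h2, synW]
    split_ifs with hg
    · refine ⟨mulB_lt hg h1, ?_⟩
      simp only [valS, F.mul g hg _ h1, letE, hg, if_true]
      simp [mul_assoc, letE]
    · refine ⟨by norm_num, ?_⟩
      simp [valS, F.one, mul_assoc]

theorem evalE_eq_of_syn (F : FTab f) {v w : List ℕ} (e : synW v = synW w) :
    evalE (letE f h h') v = evalE (letE f h h') w := by
  rw [(synW_spec F v).2, (synW_spec F w).2, e]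

theorem evalE_label (F : FTab f) {w : List ℕ} {c : ℕ} (e : synW w = (c, [])) :
    evalE (letE f h h') w = f c := by
  rw [(synW_spec F w).2, e]; simp [valS]

theorem knownOK_sound (F : FTab f) {g code : ℕ} {dom : List ℕ} {named : List (List ℕ)}
    {w : List ℕ} (S : Swaps f dom code (letE f h h' g))
    (hn : ∀ v ∈ named, evalE (letE f h h') v = 1) (hw : knownOK g dom code named w = true) :
    evalE (letE f h h') w = 1 := by
  simp only [knownOK, Bool.or_eq_true, beq_iff_eq, List.any_eq_true] at hw
  rcases hw with ((hw | hw) | hw) | ⟨v, hv, hw⟩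
  · rw [evalE_label F hw, F.one]
  · rw [(synW_spec F w).2, hw]; simp [valS, F.one, S.sq]
  · unfold swapOK at hw
    split at hw
    · rename_i g1 x g2 y heq
      simp only [Bool.and_eq_true, beq_iff_eq, List.elem_eq_mem, decide_eq_true_eq] at hw
      obtain ⟨⟨⟨rfl, rfl⟩, hx⟩, rfl⟩ := hw
      obtain ⟨hx1, hx2, hx3⟩ := S.conj x hx
      rw [(synW_spec F w).2, heq]
      simp only [valS, F.one, F.inv hx2, List.map_cons, List.map_nil, List.prod_cons, List.prod_nil,
        one_mul, mul_one]
      rw [← mul_assoc, hx3, mul_inv_cancel]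
    · exact absurd hw (by simp)
  · rw [evalE_eq_of_syn F hw, hn v hv]

theorem pinOK_sound (F : FTab f) {rels : List (List ℕ)} {word cands : List ℕ} {n : ℕ}
    {alts : List (ℕ × List ℕ × List (List ℕ) × List LStep × ℕ × ℕ)}
    (hr : ∀ w ∈ rels, evalE (letE f h h') w = 1) (hp : pinOK rels word cands n alts = true)
    {c : ℕ} (hc : c ∈ cands) (hval : evalE (letE f h h') word = f c) :
    evalE (letE f h h') word = 1 := by
  simp only [pinOK, List.all_eq_true, Bool.or_eq_true, beq_iff_eq, Bool.and_eq_true,
    decide_eq_true_eq, List.any_eq_true] at hp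
  rcases hp c hc with rfl | ⟨⟨hc1, hc2⟩, p, -, ⟨rfl, hs⟩, href⟩
  · rw [hval, F.one]
  · refine (refute_false (h := h) (h' := h') F ?_ href).elim
    intro w hw
    rcases List.mem_cons.mp hw with rfl | hw
    · rw [evalE_append, hval, evalE_label F hs, ← F.mul _ hc1 _ hc1, hc2, F.one]
    · exact hr w hw

end Cfsg.Agent.Lib.S3344
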