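import Cfsg.Agent.Lib.S3344.Model

/-!
Generators with the defining relations give a table for the group of order 192.
-/

set_option autoImplicit false

namespace Cfsg.Agent.Lib.S3344

variable {G : Type*} [Group G]

/-- A quaternion pair. -/
structure QPair (s i j : G) : Prop where
  ii : i * i = s
  jj : j * j = s
  ji : j * i = i * (j * s)

/-- Generators of the central product with the element of order three. -/
structure QGens (s i j u v x : G) : Prop where
  ss : s * s = 1
  sne : s ≠ 1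
  hi : i * s = s * i
  hj : j * s = s * j
  hu : u * s = s * u
  hv : v * s = s * v
  hx : x * s = s * x
  P : QPair s i j
  P' : QPair s u v
  iu : i * u = u * i
  iv : i * v = v * i
  ju : j * u = u * j
  jv : j * v = v * j
  xi : x * i * x⁻¹ = j
  xj : x * j * x⁻¹ = i * j
  xu : x * u * x⁻¹ = v
  xv : x * v * x⁻¹ = u * v
  x3 : x ^ 3 = 1

/-- The word of an element of the central product. -/
def phi (s i j u v : G) (q : ℕ) : G :=
  i ^ dig q 0 * j ^ dig q 1 * (u ^ dig q 2 * v ^ dig q 3) * s ^ dig q 4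

theorem QPair.mul {s i j : G} (P : QPair s i j) (hss : s * s = 1) (his : i * s = s * i)
    (hjs : j * s = s * j) {a b A B : ℕ} (ha : a < 2) (hb : b < 2) (hA : A < 2) (hB : B < 2) :
    i ^ a * j ^ b * (i ^ A * j ^ B) =
      i ^ ((a + A) % 2) * j ^ ((b + B) % 2) * s ^ ((a * A + b * A + b * B) % 2) := by
  have r1 : ∀ r : G, i * (i * r) = s * r := fun r => by rw [← mul_assoc, P.ii]
  have r2 : ∀ r : G, j * (j * r) = s * r := fun r => by rw [← mul_assoc, P.jj]
  have r3 : ∀ r : G, j * (i * r) = i * (j * (s * r)) := fun r => by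
    rw [← mul_assoc, P.ji, mul_assoc, mul_assoc]
  have r4 : ∀ r : G, s * (i * r) = i * (s * r) := fun r => by rw [← mul_assoc, ← his, mul_assoc]
  have r5 : ∀ r : G, s * (j * r) = j * (s * r) := fun r => by rw [← mul_assoc, ← hjs, mul_assoc]
  have r6 : ∀ r : G, s * (s * r) = r := fun r => by rw [← mul_assoc, hss, one_mul]
  interval_cases a <;> interval_cases b <;> interval_cases A <;> interval_cases B <;>
    norm_num [mul_assoc, P.ii, P.jj, P.ji, r1, r2, r3, r4, r5, r6, hss, ← his, ← hjs]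

theorem pow_mod_two {s : G} (hss : s * s = 1) (n : ℕ) : s ^ (n % 2) = s ^ n := by
  conv_rhs => rw [← Nat.div_add_mod n 2, pow_add, pow_mul, pow_two, hss, one_pow, one_mul]

namespace QGens

variable {s i j u v x : G} (H : QGens s i j u v x)
include H

theorem comm_s (q : ℕ) : phi s i j u v q * s = s * phi s i j u v q := by
  have h : ∀ {a : G}, a * s = s * a → ∀ n : ℕ, Commute (a ^ n) s := fun ha n =>
    (show Commute _ s from ha).pow_left n
  exact ((((h H.hi _).mul_left (h H.hj _)).mul_left ((h H.hu _).mul_left (h H.hv _))).mul_left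
    (h (rfl : s * s = s * s) _)).eq

theorem phi_mul (q p : ℕ) :
    phi s i j u v (mq q p) = phi s i j u v q * phi s i j u v p := by
  obtain ⟨e0, e1, e2, e3, e4⟩ := dig_mq q p
  have hA := H.P.mul H.ss H.hi H.hj (dig_lt q 0) (dig_lt q 1) (dig_lt p 0) (dig_lt p 1)
  have hB := H.P'.mul H.ss H.hu H.hv (dig_lt q 2) (dig_lt q 3) (dig_lt p 2) (dig_lt p 3)
  set A := i ^ dig q 0 * j ^ dig q 1
  set A' := i ^ dig p 0 * j ^ dig p 1
  set B := u ^ dig q 2 * v ^ dig q 3
  set B' := u ^ dig p 2 * v ^ dig p 3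
  have ci : ∀ {a : G}, a * u = u * a → a * v = v * a → ∀ k l : ℕ, Commute (u ^ k * v ^ l) a :=
    fun h1 h2 k l => ((show Commute _ u from h1).symm.pow_left k).mul_left
      ((show Commute _ v from h2).symm.pow_left l)
  have c1 : Commute B A' :=
    ((ci H.iu H.iv _ _).pow_right _).mul_right ((ci H.ju H.jv _ _).pow_right _)
  have cs : ∀ {a : G}, a * s = s * a → ∀ k l : ℕ, Commute (s ^ k) (a ^ l) :=
    fun h k l => ((show Commute _ s from h).symm.pow_left k).pow_right l
  have c2 : ∀ k, Commute (s ^ k) A' := fun k => (cs H.hi k _).mul_right (cs H.hj k _)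
  have c3 : ∀ k, Commute (s ^ k) B' := fun k => (cs H.hu k _).mul_right (cs H.hv k _)
  set k1 := dig q 0 * dig p 0 + dig q 1 * dig p 0 + dig q 1 * dig p 1
  set k2 := dig q 2 * dig p 2 + dig q 3 * dig p 2 + dig q 3 * dig p 3
  show _ = A * B * s ^ dig q 4 * (A' * B' * s ^ dig p 4)
  rw [show A * B * s ^ dig q 4 * (A' * B' * s ^ dig p 4) =
      A * A' * (B * B') * (s ^ dig q 4 * s ^ dig p 4) by
    calc A * B * s ^ dig q 4 * (A' * B' * s ^ dig p 4)
        = A * B * (s ^ dig q 4 * (A' * B')) * s ^ dig p 4 := by group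
      _ = A * B * ((A' * B') * s ^ dig q 4) * s ^ dig p 4 := by
          rw [((c2 _).mul_right (c3 _)).eq]
      _ = A * (B * A') * B' * (s ^ dig q 4 * s ^ dig p 4) := by group
      _ = _ := by rw [c1.eq]; group, hA, hB, phi, e0, e1, e2, e3, e4,
    pow_mod_two H.ss, pow_mod_two H.ss, pow_mod_two H.ss]
  set U := u ^ ((dig q 2 + dig p 2) % 2) * v ^ ((dig q 3 + dig p 3) % 2)
  have c4 : Commute (s ^ k1) U := (cs H.hu k1 _).mul_right (cs H.hv k1 _)
  rw [show dig q 4 + dig p 4 + dig q 0 * dig p 0 + dig q 1 * dig p 0 + dig q 1 * dig p 1 +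
      dig q 2 * dig p 2 + dig q 3 * dig p 2 + dig q 3 * dig p 3 =
      k1 + (k2 + (dig q 4 + dig p 4)) by omega]
  clear_value k1 k2
  rw [pow_add, pow_add, pow_add]
  simp only [mul_assoc]
  rw [c4.left_comm]

theorem phi_zero : phi s i j u v 0 = 1 := by simp [phi, dig]

theorem phi_values :
    phi s i j u v 1 = i ∧ phi s i j u v 2 = j ∧ phi s i j u v 4 = u ∧ phi s i j u v 8 = v ∧
      phi s i j u v 16 = s ∧ phi s i j u v 3 = i * j ∧ phi s i j u v 12 = u * v := by
  refine ⟨?_, ?_, ?_, ?_, ?_, ?_, ?_⟩ <;> simp [phi, dig]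

theorem phi_sc (w e : ℕ) (he : e < 2) : phi s i j u v (sc w e) = phi s i j u v w ^ e := by
  interval_cases e
  · simp [sc, H.phi_zero]
  · simp [sc]

theorem conj_phi (g : G) (hgs : g * s = s * g) {v0 v1 v2 v3 : ℕ}
    (h0 : g * i * g⁻¹ = phi s i j u v v0) (h1 : g * j * g⁻¹ = phi s i j u v v1)
    (h2 : g * u * g⁻¹ = phi s i j u v v2) (h3 : g * v * g⁻¹ = phi s i j u v v3) (q : ℕ) :
    g * phi s i j u v q * g⁻¹ = phi s i j u v (homQ v0 v1 v2 v3 q) := by
  have h4 : g * s * g⁻¹ = s := mul_inv_eq_iff_eq_mul.2 hgs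
  unfold homQ
  rw [H.phi_mul, H.phi_mul, H.phi_mul, H.phi_mul, H.phi_sc _ _ (dig_lt q 0), H.phi_sc _ _ (dig_lt q 1),
    H.phi_sc _ _ (dig_lt q 2), H.phi_sc _ _ (dig_lt q 3), H.phi_sc _ _ (dig_lt q 4), ← h0, ← h1,
    ← h2, ← h3, H.phi_values.2.2.2.2.1]
  conv_rhs => rw [← h4]
  simp only [conj_pow]
  unfold phi
  group

theorem conj_x (q : ℕ) : x * phi s i j u v q * x⁻¹ = phi s i j u v (sigX q) := by
  obtain ⟨e1, e2, e4, e8, -, e3, e12⟩ := H.phi_values
  exact H.conj_phi x H.hx (by rw [e2, H.xi]) (by rw [e3, H.xj]) (by rw [e8, H.xu])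
    (by rw [e12, H.xv]) q

theorem pow_x (m : ℕ) : ∀ q, x ^ m * phi s i j u v q = phi s i j u v (sigXn m q) * x ^ m := by
  induction m with
  | zero => intro q; simp [sigXn]
  | succ m ih =>
    intro q
    calc x ^ (m + 1) * phi s i j u v q = x * (x ^ m * phi s i j u v q) := by rw [pow_succ', mul_assoc]
      _ = x * phi s i j u v (sigXn m q) * x⁻¹ * (x * x ^ m) := by rw [ih]; group
      _ = _ := by rw [H.conj_x, ← pow_succ', sigXn]

/-- The elements of the central product with the index of a nonzero element are not trivial. -/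
theorem phi_inj {q p : ℕ} (hq : q < 32) (hp : p < 32) (h : phi s i j u v q = phi s i j u v p) :
    q = p := by
  have inv_check : ∀ a < 32, ∃ b < 32, mq a b = 0 ∧ mq b a = 0 := by decide +kernel
  have ker_check : ∀ a < 32, a = 0 ∨ a = 16 ∨
      ∃ g < 32, mq a g = mq (mq g a) 16 := by decide +kernel
  have can_check : ∀ a < 32, ∀ b < 32, ∀ c < 32, mq a b = 0 → mq a c = 0 → b = c := by decide +kernel
  obtain ⟨a, ha, hqa, haq⟩ := inv_check q hq
  have h0 : phi s i j u v (mq a p) = 1 := by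
    rw [H.phi_mul, ← h, ← H.phi_mul, haq, H.phi_zero]
  have hw := mq_lt a p
  generalize hwe : mq a p = w at h0 hw
  rcases ker_check _ hw with e | e | ⟨g, -, e⟩
  · exact can_check a ha q hq p hp haq (hwe.trans e)
  · exact absurd (by rwa [e, H.phi_values.2.2.2.2.1] at h0) H.sne
  · have := congrArg (phi s i j u v) e
    rw [H.phi_mul, H.phi_mul, H.phi_mul, h0, one_mul, mul_one, H.phi_values.2.2.2.2.1] at this
    exact absurd (left_eq_mul.1 this) H.sne

end QGens

/-- A table for the centraliser of `s`. -/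
structure Tab (mul : ℕ → ℕ → ℕ) (s : G) (f : ℕ → G) : Prop where
  one : f 0 = 1
  inv_eq : f 16 = s
  inj : ∀ i < 192, ∀ j < 192, f i = f j → i = j
  mul : ∀ i < 192, ∀ j < 192, f (mul i j) = f i * f j
  range : ∀ y : G, y * s = s * y ↔ ∃ i < 192, f i = y

/-- The element with given coordinates. -/
def elt (s i j u v x t : G) (g : ℕ) : G :=
  phi s i j u v (g % 32) * x ^ (g / 32 % 3) * t ^ (g / 96 % 2)

theorem elt_mul {s i j u v x t : G} (H : QGens s i j u v x) (sw tau : ℕ)
    (ht : ∀ q, t * phi s i j u v q * t⁻¹ = phi s i j u v (sigT sw q))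
    (htx : t * x * t⁻¹ = x⁻¹) (ht2 : t * t = s ^ tau) (g h : ℕ) :
    elt s i j u v x t (mulL sw tau g h) = elt s i j u v x t g * elt s i j u v x t h := by
  set φ := phi s i j u v with hφ
  set n := g / 96 % 2 with hn
  set N := h / 96 % 2 with hN
  set m := g / 32 % 3 with hm
  set M := h / 32 % 3 with hM
  set p := cond (n == 0) (h % 32) (sigT sw (h % 32)) with hp
  set M' := cond (n == 0) M (2 * M) with hM'
  have hn2 : n < 2 := Nat.mod_lt _ (by norm_num)
  have hN2 : N < 2 := Nat.mod_lt _ (by norm_num)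
  have hxx : x⁻¹ = x ^ 2 := inv_eq_of_mul_eq_one_right (by rw [← pow_succ', H.x3])
  have s1 : t ^ n * φ (h % 32) = φ p * t ^ n := by
    rw [hp]
    rcases (show n = 0 ∨ n = 1 by omega) with e | e <;> rw [e]
    · simp
    · simp [← ht]
  have s2 : t ^ n * x ^ M = x ^ M' * t ^ n := by
    rw [hM']
    rcases (show n = 0 ∨ n = 1 by omega) with e | e <;> rw [e]
    · simp
    · simp only [pow_one, Nat.one_ne_zero, beq_iff_eq, cond_false, beq_eq_false_iff_ne, ne_eq,
        not_false_eq_true, show ((1 : ℕ) == 0) = false from rfl]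
      rw [pow_mul, ← hxx, ← htx, conj_pow]
      group
  have s3 : t ^ n * t ^ N = φ (16 * (tau * n * N) % 32) * t ^ ((n + N) % 2) := by
    rcases (show n = 0 ∨ n = 1 by omega) with e | e <;> rw [e] <;>
      rcases (show N = 0 ∨ N = 1 by omega) with e' | e' <;> rw [e'] <;>
      simp only [mul_zero, Nat.zero_mod, hφ, H.phi_zero, zero_add, add_zero,
        one_mul, mul_one, pow_zero, pow_one, Nat.one_mod, Nat.reduceAdd, Nat.reduceMod]
    rw [ht2]
    have : 16 * tau % 32 = 16 * (tau % 2) := by omega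
    rw [this, ← pow_mod_two H.ss tau]
    rcases Nat.mod_two_eq_zero_or_one tau with e'' | e'' <;> rw [e''] <;>
      simp [H.phi_zero, H.phi_values.2.2.2.2.1]
  have s4 : Commute (x ^ (m + M')) (φ (16 * (tau * n * N) % 32)) := by
    have : 16 * (tau * n * N) % 32 = 0 ∨ 16 * (tau * n * N) % 32 = 16 := by omega
    rcases this with e | e <;> rw [e]
    · rw [hφ, H.phi_zero]; exact Commute.one_right _
    · rw [hφ, H.phi_values.2.2.2.2.1]; exact (show Commute x s from H.hx).pow_left _
  have hphimod : ∀ z : ℕ, φ (z % 32) = φ z := fun z => by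
    have hd : ∀ k < 5, dig (z % 32) k = dig z k := fun k hk => by
      interval_cases k <;>
        (show z % 32 / _ % 2 = z / _ % 2) <;> norm_num <;> omega
    simp [hφ, phi, hd 0, hd 1, hd 2, hd 3, hd 4]
  have hout : elt s i j u v x t (mulL sw tau g h) =
      φ (mq (mq (g % 32) (sigXn m p)) (16 * (tau * n * N))) * x ^ (m + M') *
        t ^ ((n + N) % 2) := by
    have hq := mq_lt (mq (g % 32) (sigXn m p)) (16 * (tau * n * N))
    have e1 : mulL sw tau g h = mq (mq (g % 32) (sigXn m p)) (16 * (tau * n * N)) +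
        32 * ((m + M') % 3) + 96 * ((n + N) % 2) := rfl
    rw [elt, e1]
    generalize hQ : mq (mq (g % 32) (sigXn m p)) (16 * (tau * n * N)) = Q at hq
    rw [show (Q + 32 * ((m + M') % 3) + 96 * ((n + N) % 2)) % 32 = Q by omega,
      show (Q + 32 * ((m + M') % 3) + 96 * ((n + N) % 2)) / 32 % 3 = (m + M') % 3 by omega,
      show (Q + 32 * ((m + M') % 3) + 96 * ((n + N) % 2)) / 96 % 2 = (n + N) % 2 by omega,
      pow_eq_pow_mod (m + M') H.x3]
  rw [hout, ← hphimod (mq _ _), hphimod, hφ, H.phi_mul, H.phi_mul, ← hφ, ← hphimod (16 * (tau * n * N))]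
  show _ = φ (g % 32) * x ^ m * t ^ n * (φ (h % 32) * x ^ M * t ^ N)
  calc φ (g % 32) * φ (sigXn m p) * φ (16 * (tau * n * N) % 32) * x ^ (m + M') * t ^ ((n + N) % 2)
      = φ (g % 32) * φ (sigXn m p) * (φ (16 * (tau * n * N) % 32) * x ^ (m + M')) *
          t ^ ((n + N) % 2) := by group
    _ = φ (g % 32) * φ (sigXn m p) * x ^ (m + M') * (t ^ n * t ^ N) := by
        rw [← s4.eq, s3]; group
    _ = φ (g % 32) * (x ^ m * φ p) * (x ^ M' * t ^ n) * t ^ N := by
        rw [hφ, H.pow_x, pow_add]; group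
    _ = φ (g % 32) * x ^ m * (φ p * t ^ n) * x ^ M * t ^ N := by
        rw [← s2]; group
    _ = _ := by rw [← s1]; group

end Cfsg.Agent.Lib.S3344
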