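import Cfsg.Agent.Lib.S3344.Table
import Cfsg.Agent.Lib.Extraspecial.Structure
import Cfsg.Agent.Lib.PSolvable.Core

/-!
The centraliser of an involution with extraspecial normal subgroup of order 32, quotient the symmetric
group of degree three and fixed point free action of an element of order three has one of four tables.
-/

set_option autoImplicit false

namespace Cfsg.Agent.Lib.S3344

variable {G : Type*} [Group G]

/-- The elementary facts about the normal subgroup. -/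
structure QFacts (Q : Subgroup G) (s x : G) : Prop where
  mem : s ∈ Q
  sne : s ≠ 1
  ss : s * s = 1
  cen : ∀ q ∈ Q, q * s = s * q
  sq : ∀ q ∈ Q, q * q = 1 ∨ q * q = s
  comm : ∀ a ∈ Q, ∀ b ∈ Q, b * a = a * b ∨ b * a = a * (b * s)
  triv : ∀ y ∈ Q, (∀ q ∈ Q, y * q = q * y) → y = 1 ∨ y = s
  xQ : ∀ q ∈ Q, x * q * x⁻¹ ∈ Q
  xs : x * s = s * x
  fix : ∀ q ∈ Q, x * q * x⁻¹ = q → q = 1 ∨ q = s
  x3 : x ^ 3 = 1

namespace QFacts

variable {Q : Subgroup G} {s x : G} (F : QFacts Q s x)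
include F

theorem x3' : x * x * x = 1 := by rw [← F.x3, pow_succ, pow_two]

theorem not_shift {q : G} (hq : x * q * x⁻¹ = q * s) : False := by
  have h1 : x * (q * s) * x⁻¹ = q := by
    rw [show x * (q * s) * x⁻¹ = (x * q * x⁻¹) * (x * s * x⁻¹) by group, hq,
      show x * s * x⁻¹ = s from mul_inv_eq_iff_eq_mul.2 F.xs, mul_assoc, F.ss, mul_one]
  have h3 : x * (x * (x * q * x⁻¹) * x⁻¹) * x⁻¹ = (x * x * x) * q * (x * x * x)⁻¹ := by group
  rw [hq, h1, hq, F.x3', one_mul, inv_one, mul_one] at h3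
  exact F.sne (left_eq_mul.1 h3.symm)

/-- An element inverting `x` cannot fix the first element of a pair. -/
theorem not_fixed {i j t : G} (hP : QPair s i j) (hi : x * i * x⁻¹ = j) (hj : x * j * x⁻¹ = i * j)
    (ht : t * x * t⁻¹ = x⁻¹) (hti : t * i * t⁻¹ = i) : False := by
  have hg : ∀ w, t * (x * w * x⁻¹) * t⁻¹ = x⁻¹ * (t * w * t⁻¹) * x := fun w => by
    rw [show t * (x * w * x⁻¹) * t⁻¹ = (t * x * t⁻¹) * (t * w * t⁻¹) * (t * x * t⁻¹)⁻¹
      by group, ht]
    group
  have hj' : t * j * t⁻¹ = i * j := by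
    conv_lhs => rw [← hi]
    rw [hg, hti, ← hj, ← hi]
    have hx2 : x * x = x⁻¹ := eq_inv_of_mul_eq_one_left F.x3'
    calc x⁻¹ * i * x = (x * x) * i * (x * x)⁻¹ := by rw [hx2, inv_inv]
      _ = _ := by group
  have h2 : t * (i * j) * t⁻¹ = j := by
    conv_lhs => rw [← hj]
    rw [hg, hj', ← hj]
    group
  rw [show t * (i * j) * t⁻¹ = (t * i * t⁻¹) * (t * j * t⁻¹) by group, hti, hj',
    ← mul_assoc, hP.ii] at h2
  exact F.sne (mul_eq_right.1 h2)

/-- An element with square `s` lies in a quaternion pair permuted by `x`. -/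
theorem exists_pair (P : G → Prop) (hPs : ∀ q, P q → P (q * s)) (hPx : ∀ q, P q → P (x * q * x⁻¹))
    (hPQ : ∀ q, P q → q ∈ Q) {a : G} (ha : P a) (ha2 : a * a = s) :
    ∃ i j : G, P i ∧ P j ∧ QPair s i j ∧ x * i * x⁻¹ = j ∧ x * j * x⁻¹ = i * j := by
  set b := x * a * x⁻¹ with hb
  set c := x * b * x⁻¹ with hc
  have hxs : x * s * x⁻¹ = s := mul_inv_eq_iff_eq_mul.2 F.xs
  have hb2 : b * b = s := by
    rw [hb, show x * a * x⁻¹ * (x * a * x⁻¹) = x * (a * a) * x⁻¹ by group, ha2, hxs]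
  have hc2 : c * c = s := by
    rw [hc, show x * b * x⁻¹ * (x * b * x⁻¹) = x * (b * b) * x⁻¹ by group, hb2, hxs]
  have haQ := hPQ _ ha
  have hbQ : b ∈ Q := F.xQ _ haQ
  have hcQ : c ∈ Q := F.xQ _ hbQ
  have hP : x * (a * b * c) * x⁻¹ = b * c * a := by
    have h3 : x * c * x⁻¹ = (x * x * x) * a * (x * x * x)⁻¹ := by rw [hc, hb]; group
    rw [F.x3', one_mul, inv_one, mul_one] at h3
    calc x * (a * b * c) * x⁻¹ = b * c * (x * c * x⁻¹) := by rw [hc, hb]; group
      _ = _ := by rw [h3]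
  have habc : a * b * c = 1 ∨ a * b * c = s := by
    have hm : a * b * c ∈ Q := Q.mul_mem (Q.mul_mem haQ hbQ) hcQ
    rcases F.comm a haQ (b * c) (Q.mul_mem hbQ hcQ) with e | e
    · exact F.fix _ hm (hP.trans (e.trans (mul_assoc a b c).symm))
    · exact (F.not_shift (q := a * b * c) (hP.trans (e.trans (by simp only [mul_assoc])))).elim
  have hsa := F.cen a haQ
  have hsb := F.cen b hbQ
  have hai : a⁻¹ = a * s := inv_eq_of_mul_eq_one_right (by rw [← mul_assoc, ha2, F.ss])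
  have hbi : b⁻¹ = b * s := inv_eq_of_mul_eq_one_right (by rw [← mul_assoc, hb2, F.ss])
  have hsi : s⁻¹ = s := inv_eq_of_mul_eq_one_right F.ss
  have hc' : c = b * a ∨ c = b * (a * s) := by
    rcases habc with e | e
    · left
      calc c = b⁻¹ * a⁻¹ * (a * b * c) := by group
        _ = b * s * (a * s) := by rw [e, mul_one, hai, hbi]
        _ = b * (s * a) * s := by group
        _ = b * a * (s * s) := by rw [← hsa]; group
        _ = b * a := by rw [F.ss, mul_one]
    · right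
      calc c = b⁻¹ * a⁻¹ * (a * b * c) := by group
        _ = b * s * (a * s) * s := by rw [e, hai, hbi]
        _ = b * (s * a) * (s * s) := by group
        _ = b * (a * s) := by rw [← hsa, F.ss, mul_one]
  have hba : b * a = a * (b * s) := by
    rcases F.comm a haQ b hbQ with e | e
    · exfalso
      have h1 : (b * a) * (b * a) = s * s := by
        calc (b * a) * (b * a) = b * (a * b) * a := by group
          _ = b * (b * a) * a := by rw [e]
          _ = (b * b) * (a * a) := by group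
          _ = s * s := by rw [hb2, ha2]
      have h2 : c * c = s * s := by
        rcases hc' with e' | e' <;> rw [e']
        · exact h1
        · rw [← mul_assoc b a s, mul_assoc (b * a) s _, ← mul_assoc s (b * a) s,
            ← F.cen _ (Q.mul_mem hbQ haQ), mul_assoc (b * a) s s, F.ss, mul_one, h1, F.ss]
      rw [hc2, F.ss] at h2
      exact F.sne h2
    · exact e
  rcases hc' with e | e
  · refine ⟨a * s, b * s, hPs _ ha, hPs _ (hPx _ ha), ⟨?_, ?_, ?_⟩, ?_, ?_⟩
    · rw [mul_assoc, ← mul_assoc s a s, ← hsa, mul_assoc a s s, F.ss, mul_one, ha2]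
    · rw [mul_assoc, ← mul_assoc s b s, ← hsb, mul_assoc b s s, F.ss, mul_one, hb2]
    · calc b * s * (a * s) = b * (s * a) * s := by group
        _ = b * a * (s * s) := by rw [← hsa]; group
        _ = a * (b * s) := by rw [F.ss, mul_one, hba]
        _ = a * (s * b) := by rw [hsb]
        _ = a * s * (b * (s * s)) := by rw [F.ss, mul_one, mul_assoc]
        _ = a * s * (b * s * s) := by rw [← mul_assoc b s s]
    · rw [show x * (a * s) * x⁻¹ = (x * a * x⁻¹) * (x * s * x⁻¹) by group, hxs]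
    · rw [show x * (b * s) * x⁻¹ = (x * b * x⁻¹) * (x * s * x⁻¹) by group, hxs, ← hc, e, hba]
      calc a * (b * s) * s = a * b * (s * s) := by group
        _ = a * b * (s * s) := rfl
        _ = a * (s * b) * s := by rw [← hsb]; group
        _ = a * s * (b * s) := by group
  · refine ⟨a, b, ha, hPx _ ha, ⟨ha2, hb2, hba⟩, rfl, ?_⟩
    rw [← hc, e, ← mul_assoc, hba, mul_assoc a _ s, mul_assoc b s s, F.ss, mul_one]

end QFacts

theorem sq_check : ∀ q < 32, mq q q = 16 → (q % 16 < 4 ∧ q % 16 ≠ 0) ∨ (q % 4 = 0 ∧ q % 16 ≠ 0) := by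
  decide +kernel

theorem pair_check : ∀ q < 32, mq q q = 16 →
    (q % 16 < 4 → ∃ m < 3, sigXn m q = 1 ∨ sigXn m q = 17) ∧
      (q % 4 = 0 → (mq q 1 = mq 1 q ∧ mq q 2 = mq 2 q) ∧ ∃ m < 3, sigXn m q = 4 ∨ sigXn m q = 20) := by
  decide +kernel

theorem perm_three : ∀ a b : Equiv.Perm (Fin 3), a ≠ 1 → a ^ 3 = 1 → b ^ 2 = 1 → b ≠ 1 →
    b * a * b⁻¹ = a⁻¹ ∧ ∀ g, ∃ m < 3, ∃ n < 2, g = a ^ m * b ^ n := by decide +kernel

section setup

variable [Finite G]

set_option maxHeartbeats 4000000 in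
theorem exists_gens (s : G) (hs : orderOf s = 2) (L : Subgroup G)
    (hL : L = Subgroup.centralizer ({s} : Set G))
    (Q : Subgroup G) (hQ : Q = (Cfsg.pCore 2 L).map L.subtype)
    (hQex : Cfsg.IsExtraspecial 2 Q) (hQcard : Nat.card Q = 32)
    (e : L ⧸ Cfsg.pCore 2 L ≃* Equiv.Perm (Fin 3))
    (X : Sylow 3 L)
    (hCQX : Q ⊓ Subgroup.centralizer (((X : Subgroup L).map L.subtype : Subgroup G) : Set G) =
      Subgroup.zpowers s) :
    ∃ (f : ℕ → G) (sw tau : ℕ), sw < 2 ∧ tau < 2 ∧ Tab (mulL sw tau) s f ∧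
      ∀ q ∈ Q, ∃ a < 32, f a = q := by
  classical
  haveI : Fact (Nat.Prime 2) := ⟨Nat.prime_two⟩
  haveI : Fact (Nat.Prime 3) := ⟨Nat.prime_three⟩
  have hcardP : Nat.card (Cfsg.pCore 2 L) = 32 := by
    rw [← hQcard, hQ]
    exact (Nat.card_congr (Subgroup.equivMapOfInjective _ _ L.subtype_injective).toEquiv)
  have hcardL : Nat.card L = 192 := by
    rw [Subgroup.card_eq_card_quotient_mul_card_subgroup (Cfsg.pCore 2 L), hcardP,
      Nat.card_congr e.toEquiv, Nat.card_perm, Nat.card_fin]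
    rfl
  have hLs : ∀ {y : G}, y ∈ L ↔ y * s = s * y := fun {y} => by
    rw [hL]; exact Subgroup.mem_centralizer_singleton_iff
  have hQL : Q ≤ L := hQ ▸ Subgroup.map_subtype_le _
  have hQP : ∀ {y : G} (hy : y ∈ L), y ∈ Q ↔ (⟨y, hy⟩ : L) ∈ Cfsg.pCore 2 L := fun {y} hy => by
    rw [hQ, Subgroup.mem_map]
    exact ⟨fun ⟨z, hz, hzy⟩ => by rwa [show (⟨y, hy⟩ : L) = z from Subtype.ext hzy.symm],
      fun h => ⟨_, h, rfl⟩⟩
  have hQn : ∀ {y : G}, y ∈ L → ∀ q ∈ Q, y * q * y⁻¹ ∈ Q := fun {y} hy q hq =>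
    (hQP (L.mul_mem (L.mul_mem hy (hQL hq)) (L.inv_mem hy))).2
      ((inferInstance : (Cfsg.pCore 2 L).Normal).conj_mem _ ((hQP (hQL hq)).1 hq) ⟨y, hy⟩)
  have hsQ : s ∈ Q := (hCQX.ge (Subgroup.mem_zpowers s)).1
  have hss : s * s = 1 := by rw [← pow_two, ← hs, pow_orderOf_eq_one]
  have hs1 : s ≠ 1 := fun h => by rw [h, orderOf_one] at hs; omega
  have hE := ExtraStruct.extraLike_of_isExtraspecial (p := 2) hQex
  have hscen : (⟨s, hsQ⟩ : Q) ∈ Subgroup.center Q :=
    Subgroup.mem_center_iff.2 fun q => Subtype.ext (hLs.1 (hQL q.2))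
  have hz : ∀ z : Q, z ∈ Subgroup.center Q → (z : G) = 1 ∨ (z : G) = s := fun z hz => by
    rw [← ExtraStruct.zpowers_eq_center hE hscen (fun h => hs1 (congrArg Subtype.val h))] at hz
    obtain ⟨k, hk⟩ := hz
    have hk' : s ^ k = (z : G) := congrArg Subtype.val hk
    rcases Int.even_or_odd' k with ⟨l, rfl | rfl⟩
    · left; rw [← hk', zpow_mul, zpow_two, hss, one_zpow]
    · right; rw [← hk', zpow_add, zpow_mul, zpow_two, hss, one_zpow, one_mul, zpow_one]
  -- the element of order three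
  have hX3 : Nat.card (X : Subgroup L) = 3 := by
    rw [Sylow.card_eq_multiplicity, hcardL, show 192 = 3 ^ 1 * 64 by norm_num,
      Nat.factorization_mul (by norm_num) (by norm_num), Finsupp.add_apply,
      Nat.Prime.factorization_pow Nat.prime_three, Finsupp.single_eq_same,
      Nat.factorization_eq_zero_of_not_dvd (by norm_num : ¬ 3 ∣ 64)]
    rfl
  obtain ⟨xX, hxX⟩ := exists_prime_orderOf_dvd_card' 3 (dvd_of_eq hX3.symm)
  set xL : L := (xX : L) with hxL
  have hxLo : orderOf xL = 3 := by rw [hxL, Subgroup.orderOf_coe]; exact hxX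
  set x : G := (xL : G) with hx
  have hxo : orderOf x = 3 := by rw [hx, Subgroup.orderOf_coe]; exact hxLo
  have hXz : (X : Subgroup L) = Subgroup.zpowers xL := (Subgroup.eq_of_le_of_card_ge
    (Subgroup.zpowers_le.2 xX.2) (by rw [hX3, Nat.card_zpowers, hxLo])).symm
  have F : QFacts Q s x := by
    refine ⟨hsQ, hs1, hss, fun q hq => hLs.1 (hQL hq), ?_, ?_, ?_, hQn xL.2, hLs.1 xL.2, ?_,
      by rw [← hxo, pow_orderOf_eq_one]⟩
    · intro q hq
      simpa [pow_two] using hz _ (hE.pow_mem ⟨q, hq⟩)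
    · intro a ha b hb
      rcases hz _ (hE.comm_mem ⟨a, ha⟩ ⟨b, hb⟩) with h | h
      · exact Or.inl (commutatorElement_eq_one_iff_mul_comm.1 h).symm
      · right
        have hab : a * b = s * (b * a) := by
          have h' : a * b * a⁻¹ * b⁻¹ = s := h
          rw [← h']; group
        calc b * a = s * (s * (b * a)) := by rw [← mul_assoc, hss, one_mul]
          _ = a * b * s := by rw [← hab, hLs.1 (hQL (Q.mul_mem ha hb))]
          _ = _ := mul_assoc _ _ _
    · intro y hy h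
      exact hz ⟨y, hy⟩ (Subgroup.mem_center_iff.2 fun q => Subtype.ext (h q q.2).symm)
    · intro q hq h
      have hqC : q ∈ Q ⊓ Subgroup.centralizer
          (((X : Subgroup L).map L.subtype : Subgroup G) : Set G) := by
        refine ⟨hq, ?_⟩
        rw [hXz, MonoidHom.map_zpowers, Subgroup.zpowers_eq_closure, Subgroup.centralizer_closure]
        exact Subgroup.mem_centralizer_singleton_iff.2 (mul_inv_eq_iff_eq_mul.1 h).symm
      rw [hCQX] at hqC
      obtain ⟨k, hk⟩ := hqC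
      have hk' : s ^ k = q := hk
      rcases Int.even_or_odd' k with ⟨l, rfl | rfl⟩
      · left; rw [← hk', zpow_mul, zpow_two, hss, one_zpow]
      · right; rw [← hk', zpow_add, zpow_mul, zpow_two, hss, one_zpow, one_mul, zpow_one]
  -- the first pair
  obtain ⟨a, haQ, ha⟩ : ∃ a ∈ Q, a * a = s := by
    by_contra hno
    push Not at hno
    have hone : ∀ q ∈ Q, q * q = 1 := fun q hq => (F.sq q hq).resolve_right (hno q hq)
    have : ∀ q ∈ Q, q = 1 ∨ q = s := fun q hq => F.triv q hq fun p hp => by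
      have h1 := hone _ (Q.mul_mem hq hp)
      calc q * p = q * (q * p * (q * p)) * p := by rw [h1]; group
        _ = (q * q) * (p * q) * (p * p) := by group
        _ = p * q := by rw [hone q hq, hone p hp, one_mul, mul_one]
    have hle : Nat.card Q ≤ Nat.card (Bool) := Nat.card_le_card_of_injective
      (fun q : Q => decide ((q : G) = 1)) (fun q p h => Subtype.ext (by
        rcases this q q.2 with e1 | e1 <;> rcases this p p.2 with e2 | e2 <;>
          simp_all))
    simp [hQcard] at hle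
  obtain ⟨i, j, hi, hj, hP, hxi, hxj⟩ := F.exists_pair (fun q => q ∈ Q)
    (fun q hq => Q.mul_mem hq hsQ) F.xQ (fun _ h => h) haQ ha
  set C : G → Prop := fun q => q ∈ Q ∧ q * i = i * q ∧ q * j = j * q with hC
  have hCs : ∀ q, C q → C (q * s) := fun q ⟨h1, h2, h3⟩ =>
    ⟨Q.mul_mem h1 hsQ, by rw [mul_assoc, ← F.cen i hi, ← mul_assoc, h2, mul_assoc],
      by rw [mul_assoc, ← F.cen j hj, ← mul_assoc, h3, mul_assoc]⟩
  have hCx : ∀ q, C q → C (x * q * x⁻¹) := by
    rintro q ⟨h1, h2, h3⟩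
    have h2' : (x * q * x⁻¹) * j = j * (x * q * x⁻¹) := by
      rw [← hxi]
      calc x * q * x⁻¹ * (x * i * x⁻¹) = x * (q * i) * x⁻¹ := by group
        _ = _ := by rw [h2]; group
    refine ⟨F.xQ q h1, ?_, h2'⟩
    have h4 : (x * q * x⁻¹) * (i * j) = (i * j) * (x * q * x⁻¹) := by
      rw [← hxj]
      calc x * q * x⁻¹ * (x * j * x⁻¹) = x * (q * j) * x⁻¹ := by group
        _ = _ := by rw [h3]; group
    calc x * q * x⁻¹ * i = x * q * x⁻¹ * (i * j) * j⁻¹ := by group
      _ = i * (j * (x * q * x⁻¹)) * j⁻¹ := by rw [h4]; group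
      _ = _ := by rw [← h2']; group
  -- every element is a product of an element of the pair with one commuting with the pair
  have hdec : ∀ q ∈ Q, ∃ α < 2, ∃ β < 2, C (q * (i ^ α * j ^ β)) := by
    intro q hq
    have key : ∀ p ∈ Q, C p ∨ C (p * i) ∨ C (p * j) ∨ C (p * (i * j)) := by
      intro p hp
      have ji := hP.ji
      have si := F.cen i hi
      have sj := F.cen j hj
      have sp := F.cen p hp
      have r3 : ∀ r : G, j * (i * r) = i * (j * (s * r)) := fun r => by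
        rw [← mul_assoc, ji, mul_assoc, mul_assoc]
      have rs : ∀ {a : G}, a * s = s * a → ∀ r : G, s * (a * r) = a * (s * r) := fun h r => by
        rw [← mul_assoc, ← h, mul_assoc]
      have rss : ∀ r : G, s * (s * r) = r := fun r => by rw [← mul_assoc, hss, one_mul]
      rcases F.comm i hi p hp with ei | ei <;> rcases F.comm j hj p hp with ej | ej
      · exact Or.inl ⟨hp, ei, ej⟩
      · refine Or.inr (Or.inl ⟨Q.mul_mem hp hi, ?_, ?_⟩)
        · rw [mul_assoc, ← mul_assoc i p i, ← ei, mul_assoc]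
        · have rp : ∀ r : G, p * (j * r) = j * (p * (s * r)) := fun r => by
            rw [← mul_assoc, ej, mul_assoc, mul_assoc]
          have ri : ∀ r : G, p * (i * r) = i * (p * r) := fun r => by
            rw [← mul_assoc, ei, mul_assoc]
          simp only [mul_assoc, r3, rp, ri, rs si, rs sj, rs sp, rss, ji, ei, ej, ← si, ← sj, ← sp,
            hss, mul_one]
      · refine Or.inr (Or.inr (Or.inl ⟨Q.mul_mem hp hj, ?_, ?_⟩))
        · have rp : ∀ r : G, p * (i * r) = i * (p * (s * r)) := fun r => by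
            rw [← mul_assoc, ei, mul_assoc, mul_assoc]
          have rj : ∀ r : G, p * (j * r) = j * (p * r) := fun r => by
            rw [← mul_assoc, ej, mul_assoc]
          simp only [mul_assoc, r3, rp, rj, rs si, rs sj, rs sp, rss, ji, ei, ej, ← si, ← sj, ← sp,
            hss, mul_one]
        · rw [mul_assoc, ← mul_assoc j p j, ← ej, mul_assoc]
      · have rp : ∀ r : G, p * (i * r) = i * (p * (s * r)) := fun r => by
          rw [← mul_assoc, ei, mul_assoc, mul_assoc]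
        have rj : ∀ r : G, p * (j * r) = j * (p * (s * r)) := fun r => by
          rw [← mul_assoc, ej, mul_assoc, mul_assoc]
        refine Or.inr (Or.inr (Or.inr ⟨Q.mul_mem hp (Q.mul_mem hi hj), ?_, ?_⟩)) <;>
          simp only [mul_assoc, r3, rp, rj, rs si, rs sj, rs sp, rss, ji, ei, ej, ← si, ← sj, ← sp,
            hss, mul_one]
    rcases key q hq with h | h | h | h
    · exact ⟨0, by norm_num, 0, by norm_num, by simpa using h⟩
    · exact ⟨1, by norm_num, 0, by norm_num, by simpa using h⟩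
    · exact ⟨0, by norm_num, 1, by norm_num, by simpa using h⟩
    · exact ⟨1, by norm_num, 1, by norm_num, by simpa using h⟩
  obtain ⟨a', ha', ha'2⟩ : ∃ a', C a' ∧ a' * a' = s := by
    by_contra hno
    push Not at hno
    have hone : ∀ q, C q → q * q = 1 := fun q hq => (F.sq q hq.1).resolve_right (hno q hq)
    have hCmul : ∀ p q, C p → C q → C (p * q) := fun p q ⟨p1, p2, p3⟩ ⟨q1, q2, q3⟩ =>
      ⟨Q.mul_mem p1 q1, by rw [mul_assoc, q2, ← mul_assoc, p2, mul_assoc],
        by rw [mul_assoc, q3, ← mul_assoc, p3, mul_assoc]⟩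
    have hC2 : ∀ p, C p → p = 1 ∨ p = s := fun p hp => by
      refine F.triv p hp.1 fun q hq => ?_
      obtain ⟨α, -, β, -, hc⟩ := hdec q hq
      have h1 : Commute p (q * (i ^ α * j ^ β)) := by
        have h1 := hone _ (hCmul _ _ hp hc)
        show p * _ = _ * p
        calc p * (q * (i ^ α * j ^ β))
            = p * (p * (q * (i ^ α * j ^ β)) * (p * (q * (i ^ α * j ^ β)))) *
                (q * (i ^ α * j ^ β)) := by rw [h1]; group
          _ = (p * p) * ((q * (i ^ α * j ^ β)) * p) *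
                ((q * (i ^ α * j ^ β)) * (q * (i ^ α * j ^ β))) := by group
          _ = _ := by rw [hone p hp, hone _ hc, one_mul, mul_one]
      have h2 : Commute p (i ^ α * j ^ β) :=
        ((show Commute p i from hp.2.1).pow_right α).mul_right ((show Commute p j from hp.2.2).pow_right β)
      have := h1.mul_right h2.inv_right
      rwa [mul_assoc q, mul_inv_cancel, mul_one] at this
    have hle : Nat.card Q ≤ Nat.card (Fin 2 × Fin 2 × Bool) := by
      refine Nat.card_le_card_of_surjective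
        (fun w : Fin 2 × Fin 2 × Bool => (⟨(if w.2.2 then 1 else s) *
          (i ^ (w.1 : ℕ) * j ^ (w.2.1 : ℕ))⁻¹, Q.mul_mem (by split <;> simp [hsQ])
            (Q.inv_mem (Q.mul_mem (Q.pow_mem hi _) (Q.pow_mem hj _)))⟩ : Q)) ?_
      intro q
      obtain ⟨α, hα, β, hβ, hc⟩ := hdec q q.2
      rcases hC2 _ hc with h | h
      · exact ⟨(⟨α, hα⟩, ⟨β, hβ⟩, true), Subtype.ext (by
          simp only [if_true, one_mul]; exact (eq_inv_of_mul_eq_one_left h).symm)⟩
      · refine ⟨(⟨α, hα⟩, ⟨β, hβ⟩, false), Subtype.ext ?_⟩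
        show (if false = true then (1 : G) else s) * _ = (q : G)
        rw [if_neg (by simp), ← h]
        group
    rw [hQcard, Nat.card_prod, Nat.card_prod, Nat.card_eq_fintype_card, Nat.card_eq_fintype_card] at hle
    simp at hle
  obtain ⟨u₀, v₀, hu₀, hv₀, hP₀, hxu₀, hxv₀⟩ := F.exists_pair C hCs hCx (fun _ h => h.1) ha' ha'2
  have mk : ∀ u v, C u → C v → QPair s u v → x * u * x⁻¹ = v → x * v * x⁻¹ = u * v →
      QGens s i j u v x := fun u v hu hv hP' h1 h2 =>
    ⟨hss, hs1, F.cen i hi, F.cen j hj, F.cen u hu.1, F.cen v hv.1, F.xs, hP, hP', hu.2.1.symm,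
      hv.2.1.symm, hu.2.2.symm, hv.2.2.symm, hxi, hxj, h1, h2, F.x3⟩
  have surj : ∀ {u v}, C u → C v → QGens s i j u v x →
      ∀ q ∈ Q, ∃ k < 32, phi s i j u v k = q := by
    intro u v hu hv H q hq
    have hmem : ∀ k, phi s i j u v k ∈ Q := fun k =>
      Q.mul_mem (Q.mul_mem (Q.mul_mem (Q.pow_mem hi _) (Q.pow_mem hj _))
        (Q.mul_mem (Q.pow_mem hu.1 _) (Q.pow_mem hv.1 _))) (Q.pow_mem hsQ _)
    haveI : Fintype Q := Fintype.ofFinite _
    let φ' : Fin 32 → Q := fun k => ⟨phi s i j u v k, hmem k⟩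
    have hbij : Function.Bijective φ' := (Fintype.bijective_iff_injective_and_card _).2
      ⟨fun a b h => Fin.ext (H.phi_inj a.2 b.2 (congrArg Subtype.val h)), by
        rw [Fintype.card_fin, ← Nat.card_eq_fintype_card, hQcard]⟩
    obtain ⟨k, hk⟩ := hbij.2 ⟨q, hq⟩
    exact ⟨k, k.2, congrArg Subtype.val hk⟩
  have H₀ := mk u₀ v₀ hu₀ hv₀ hP₀ hxu₀ hxv₀
  -- the inverting element
  obtain ⟨t₀, ht₀⟩ := (QuotientGroup.mk_surjective (s := Cfsg.pCore 2 L)).comp
    (Function.surjective_id) (e.symm (Equiv.swap 0 1))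
  set π : L →* Equiv.Perm (Fin 3) := e.toMonoidHom.comp (QuotientGroup.mk' _) with hπ
  have hπ0 : ∀ y : L, π y = 1 ↔ (y : G) ∈ Q := fun y => by
    rw [hQP y.2, hπ, MonoidHom.comp_apply, MulEquiv.coe_toMonoidHom, MulEquiv.map_eq_one_iff,
      QuotientGroup.mk'_apply, QuotientGroup.eq_one_iff]
  have hπt : π t₀ = Equiv.swap 0 1 := by
    show e (QuotientGroup.mk t₀) = _
    rw [show QuotientGroup.mk t₀ = e.symm (Equiv.swap 0 1) from ht₀, MulEquiv.apply_symm_apply]
  have hπx1 : π xL ≠ 1 := fun h => by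
    have := Subgroup.orderOf_dvd_natCard Q ((hπ0 xL).1 h)
    rw [← hx, hxo, hQcard] at this
    norm_num at this
  have hπx3 : π xL ^ 3 = 1 := by
    have h3 : xL ^ 3 = 1 := orderOf_dvd_iff_pow_eq_one.1 (dvd_of_eq hxLo)
    rw [← map_pow, h3, map_one]
  obtain ⟨hconjπ, hcov⟩ := perm_three (π xL) (Equiv.swap 0 1) hπx1 hπx3 (by decide) (by decide)
  -- adjust to normalise the subgroup generated by `x`
  let W : Subgroup L := Subgroup.comap π (Subgroup.zpowers (π xL))
  have hWn : ∀ w ∈ W, t₀ * w * t₀⁻¹ ∈ W := by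
    intro w hw
    obtain ⟨k, hk⟩ := hw
    refine ⟨-k, ?_⟩
    show π xL ^ (-k) = π (t₀ * w * t₀⁻¹)
    rw [map_mul, map_mul, map_inv, ← show π xL ^ k = π w from hk, hπt, ← conj_zpow, hconjπ,
      inv_zpow, zpow_neg]
  have hXW : (X : Subgroup L) ≤ W := by
    rw [hXz, Subgroup.zpowers_le]; exact Subgroup.mem_zpowers _
  let X' : Sylow 3 L := (MulAut.conj t₀ : MulAut L) • X
  have hX'W : (X' : Subgroup L) ≤ W := by
    rintro y ⟨z, hz, rfl⟩
    exact hWn z (hXW hz)
  obtain ⟨⟨w, hwW⟩, hw⟩ := MulAction.exists_smul_eq W (X'.subtype hX'W) (X.subtype hXW)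
  obtain ⟨t₁, ht₁, hXt⟩ : ∃ t₁ : L, π t₁ = Equiv.swap 0 1 * 1 ∧
      t₁ * xL * t₁⁻¹ ∈ (X : Subgroup L) := by
    obtain ⟨k, hk⟩ : ∃ k : ℤ, π xL ^ k = π w := id hwW
    refine ⟨(xL ^ (-k)) * (w * t₀), ?_, ?_⟩
    · rw [map_mul, map_mul, map_zpow, ← hk, hπt, ← mul_assoc, ← zpow_add, neg_add_cancel, zpow_zero,
        one_mul, mul_one]
    · have h1 : (⟨t₀ * xL * t₀⁻¹, hX'W ⟨xL, hXz ▸ Subgroup.mem_zpowers _, rfl⟩⟩ : W) ∈
          (X'.subtype hX'W : Subgroup W) := ⟨xL, hXz ▸ Subgroup.mem_zpowers _, rfl⟩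
      have h2 : (MulAut.conj (⟨w, hwW⟩ : W)) ⟨t₀ * xL * t₀⁻¹, hX'W ⟨xL, hXz ▸ Subgroup.mem_zpowers _, rfl⟩⟩ ∈
          (X.subtype hXW : Subgroup W) := by
        rw [← hw]; exact ⟨_, h1, rfl⟩
      have h3 : w * (t₀ * xL * t₀⁻¹) * w⁻¹ ∈ (X : Subgroup L) := h2
      rw [hXz] at h3 ⊢
      have h4 := Subgroup.mul_mem _ (Subgroup.mul_mem _ (Subgroup.zpow_mem _ (Subgroup.mem_zpowers xL) (-k)) h3)
        (Subgroup.inv_mem _ (Subgroup.zpow_mem _ (Subgroup.mem_zpowers xL) (-k)))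
      rwa [show xL ^ (-k) * (w * t₀) * xL * (xL ^ (-k) * (w * t₀))⁻¹ =
        xL ^ (-k) * (w * (t₀ * xL * t₀⁻¹) * w⁻¹) * (xL ^ (-k))⁻¹ by group]
  rw [mul_one] at ht₁
  have htinv : t₁ * xL * t₁⁻¹ = xL⁻¹ := by
    rw [hXz] at hXt
    obtain ⟨k, hk⟩ := hXt
    have hk' : xL ^ k = t₁ * xL * t₁⁻¹ := hk
    have hπk : π xL ^ k = (π xL)⁻¹ := by
      rw [← map_zpow, hk', map_mul, map_mul, map_inv, ht₁, hconjπ]
    have hπo : orderOf (π xL) = 3 := orderOf_eq_prime hπx3 hπx1
    rw [← hk', ← zpow_neg_one]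
    rw [← zpow_neg_one (π xL), zpow_eq_zpow_iff_modEq, hπo] at hπk
    rw [zpow_eq_zpow_iff_modEq, hxLo]
    exact hπk
  set t : G := (t₁ : G) with ht
  have htx : t * x * t⁻¹ = x⁻¹ := by
    have := congrArg Subtype.val htinv
    simpa [hx, ht] using this
  have htQ : ∀ q ∈ Q, t * q * t⁻¹ ∈ Q := hQn t₁.2
  have hts : t * s * t⁻¹ = s := mul_inv_eq_iff_eq_mul.2 (hLs.1 t₁.2)
  have ht2 : t * t = 1 ∨ t * t = s := by
    have hmem : t * t ∈ Q := (hπ0 (t₁ * t₁)).1 (by
      rw [map_mul, ht₁]; decide)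
    refine F.fix _ hmem ?_
    have h : t * t * x * (t * t)⁻¹ = x := by
      calc t * t * x * (t * t)⁻¹ = t * (t * x * t⁻¹) * t⁻¹ := by group
        _ = t * x⁻¹ * t⁻¹ := by rw [htx]
        _ = (t * x * t⁻¹)⁻¹ := by group
        _ = x := by rw [htx, inv_inv]
    calc x * (t * t) * x⁻¹ = t * t * x * (t * t)⁻¹ * (t * t) * x⁻¹ := by rw [h]
      _ = _ := by group
  obtain ⟨k, hk, hki⟩ := surj hu₀ hv₀ H₀ _ (htQ i hi)
  have hk2 : mq k k = 16 := by
    refine H₀.phi_inj (mq_lt k k) (by norm_num) ?_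
    rw [H₀.phi_mul, hki, H₀.phi_values.2.2.2.2.1,
      show t * i * t⁻¹ * (t * i * t⁻¹) = t * (i * i) * t⁻¹ by group, hP.ii, hts]
  -- rotate by a power of `x`
  obtain ⟨hA, hB⟩ := pair_check k hk hk2
  have fin : ∀ (u v t' : G) (sw : ℕ), sw < 2 → C u → C v → QGens s i j u v x → ∀ ht'L : t' ∈ L,
      π ⟨t', ht'L⟩ ≠ 1 → π ⟨t', ht'L⟩ ^ 2 = 1 →
      (∀ q, t' * phi s i j u v q * t'⁻¹ = phi s i j u v (sigT sw q)) → t' * x * t'⁻¹ = x⁻¹ →
      (t' * t' = 1 ∨ t' * t' = s) →
      ∃ (f : ℕ → G) (sw tau : ℕ), sw < 2 ∧ tau < 2 ∧ Tab (mulL sw tau) s f ∧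
        ∀ q ∈ Q, ∃ a < 32, f a = q := by
    intro u v t' sw hsw hu hv H ht'L hπ1 hπ2 hact hinv hsq'
    obtain ⟨tau, htau, hsq⟩ : ∃ tau < 2, t' * t' = s ^ tau := by
      rcases hsq' with h | h
      · exact ⟨0, by norm_num, by simp [h]⟩
      · exact ⟨1, by norm_num, by simp [h]⟩
    set f := elt s i j u v x t' with hf
    have hfq : ∀ a < 32, f a = phi s i j u v a := fun a ha => by
      rw [hf, elt, Nat.mod_eq_of_lt ha, Nat.div_eq_of_lt ha, show a / 96 = 0 by omega]
      simp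
    have hfL : ∀ a, f a ∈ L := fun a => L.mul_mem (L.mul_mem (hLs.2 (H.comm_s _))
      (L.pow_mem xL.2 _)) (L.pow_mem ht'L _)
    have hsurj : ∀ y ∈ L, ∃ a < 192, f a = y := by
      intro y hy
      obtain ⟨m, hm, n, hn, hmn⟩ := (perm_three (π xL) (π ⟨t', ht'L⟩) hπx1 hπx3 hπ2 hπ1).2
        (π ⟨y, hy⟩)
      have hq : y * (x ^ m * t' ^ n)⁻¹ ∈ Q := (hπ0 (⟨y, hy⟩ * (xL ^ m * ⟨t', ht'L⟩ ^ n)⁻¹)).1
        (by rw [map_mul, map_inv, map_mul, map_pow, map_pow, ← hmn, mul_inv_cancel])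
      obtain ⟨q, hq32, hqe⟩ := surj hu hv H _ hq
      refine ⟨q + 32 * m + 96 * n, by omega, ?_⟩
      rw [hf, elt, show (q + 32 * m + 96 * n) % 32 = q by omega,
        show (q + 32 * m + 96 * n) / 32 % 3 = m by omega,
        show (q + 32 * m + 96 * n) / 96 % 2 = n by omega, hqe]
      group
    refine ⟨f, sw, tau, hsw, htau, ⟨?_, ?_, ?_, fun a _ b _ => elt_mul H sw tau hact hinv hsq a b,
      fun y => ⟨fun h => hsurj y (hLs.2 h), fun ⟨a, _, ha⟩ => ha ▸ hLs.1 (hfL a)⟩⟩, ?_⟩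
    · rw [hfq 0 (by norm_num), H.phi_zero]
    · rw [hfq 16 (by norm_num), H.phi_values.2.2.2.2.1]
    · haveI : Fintype L := Fintype.ofFinite _
      let F' : Fin 192 → L := fun a => ⟨f a, hfL a⟩
      have hbij : Function.Bijective F' := (Fintype.bijective_iff_surjective_and_card _).2
        ⟨fun y => by
          obtain ⟨a, ha, he⟩ := hsurj y y.2
          exact ⟨⟨a, ha⟩, Subtype.ext he⟩,
        by rw [Fintype.card_fin, ← Nat.card_eq_fintype_card, hcardL]⟩
      intro a ha b hb h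
      exact congrArg Fin.val (hbij.1 (Subtype.ext h : F' ⟨a, ha⟩ = F' ⟨b, hb⟩))
    · intro q hq
      obtain ⟨a, ha, he⟩ := surj hu hv H q hq
      exact ⟨a, ha, by rw [hfq a ha, he]⟩
  have hgen : ∀ {u v t' : G}, t' * x * t'⁻¹ = x⁻¹ → x * i * x⁻¹ = j → x * u * x⁻¹ = v →
      ∀ w, t' * (x * w * x⁻¹) * t'⁻¹ = x⁻¹ * (t' * w * t'⁻¹) * x := fun {u v t'} h _ _ w => by
    rw [show t' * (x * w * x⁻¹) * t'⁻¹ = (t' * x * t'⁻¹) * (t' * w * t'⁻¹) * (t' * x * t'⁻¹)⁻¹
      by group, h]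
    group
  rcases sq_check k hk hk2 with ⟨hk4, -⟩ | ⟨hk4, -⟩
  · obtain ⟨m, -, hm⟩ := hA hk4
    set t' := x ^ m * t with ht'
    have ht'L : t' ∈ L := L.mul_mem (L.pow_mem xL.2 _) t₁.2
    have hti' : t' * i * t'⁻¹ = phi s i j u₀ v₀ (sigXn m k) := by
      rw [ht', show x ^ m * t * i * (x ^ m * t)⁻¹ = x ^ m * (t * i * t⁻¹) * (x ^ m)⁻¹ by group,
        ← hki, H₀.pow_x, mul_inv_cancel_right]
    have ht'x : t' * x * t'⁻¹ = x⁻¹ := by
      rw [ht', show x ^ m * t * x * (x ^ m * t)⁻¹ = x ^ m * (t * x * t⁻¹) * (x ^ m)⁻¹ by group,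
        htx]
      group
    have ht'2 : t' * t' = t * t := by
      rw [ht']
      calc x ^ m * t * (x ^ m * t) = x ^ m * (t * x ^ m * t⁻¹) * (t * t) := by group
        _ = _ := by rw [← conj_pow, htx, inv_pow, mul_inv_cancel, one_mul]
    have hts' : t' * s * t'⁻¹ = s := mul_inv_eq_iff_eq_mul.2 (hLs.1 ht'L)
    have hti : t' * i * t'⁻¹ = i * s := by
      rcases hm with hm | hm
      · exact (F.not_fixed hP hxi hxj ht'x (by rw [hti', hm, H₀.phi_values.1])).elim
      · rw [hti', hm]; simp [phi, dig]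
    have htj : t' * j * t'⁻¹ = phi s i j u₀ v₀ 19 := by
      conv_lhs => rw [← hxi]
      rw [hgen (u := u₀) (v := v₀) ht'x hxi hxu₀, hti]
      have hx2 : x * x = x⁻¹ := eq_inv_of_mul_eq_one_left (by rw [← F.x3, pow_succ, pow_two])
      calc x⁻¹ * (i * s) * x = (x * x) * (i * s) * (x * x)⁻¹ := by rw [hx2, inv_inv]
        _ = x * (x * i * x⁻¹) * x⁻¹ * (x * x * s * (x * x)⁻¹) := by group
        _ = i * j * s := by
          rw [hxi, hxj, show x * x * s = s * (x * x) by
            rw [mul_assoc, F.xs, ← mul_assoc, F.xs, mul_assoc]]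
          group
        _ = _ := (show phi s i j u₀ v₀ 19 = i * j * s by simp [phi, dig]).symm
    -- rotate the second pair
    have hu0C : ∀ w, C w → C (t' * w * t'⁻¹) := by
      intro w hw
      have h1 : Commute (t' * w * t'⁻¹) (i * s) := by
        show _ * _ = _ * _
        rw [← hti, show t' * w * t'⁻¹ * (t' * i * t'⁻¹) = t' * (w * i) * t'⁻¹ by group, hw.2.1]
        group
      have h2 : Commute (t' * w * t'⁻¹) (t' * j * t'⁻¹) := by
        show _ * _ = _ * _
        rw [show t' * w * t'⁻¹ * (t' * j * t'⁻¹) = t' * (w * j) * t'⁻¹ by group, hw.2.2]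
        group
      have hQ' : t' * w * t'⁻¹ ∈ Q := hQn ht'L _ hw.1
      have hsc : Commute (t' * w * t'⁻¹) s := F.cen _ hQ'
      have h1' : Commute (t' * w * t'⁻¹) i := by
        have := h1.mul_right hsc.inv_right
        rwa [mul_inv_cancel_right] at this
      refine ⟨hQ', h1'.eq, ?_⟩
      rw [htj, show phi s i j u₀ v₀ 19 = i * j * s by simp [phi, dig]] at h2
      have := (h1'.inv_right.mul_right (h2.mul_right hsc.inv_right))
      rw [mul_inv_cancel_right, inv_mul_cancel_left] at this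
      exact this.eq
    obtain ⟨k', hk', hk'e⟩ := surj hu₀ hv₀ H₀ _ (hu0C _ hu₀).1
    have hk'2 : mq k' k' = 16 := by
      refine H₀.phi_inj (mq_lt _ _) (by norm_num) ?_
      rw [H₀.phi_mul, hk'e, H₀.phi_values.2.2.2.2.1,
        show t' * u₀ * t'⁻¹ * (t' * u₀ * t'⁻¹) = t' * (u₀ * u₀) * t'⁻¹ by group, hP₀.ii, hts']
    have hk'4 : k' % 4 = 0 := by
      have e1 : mq k' 1 = mq 1 k' := H₀.phi_inj (mq_lt _ _) (mq_lt _ _) (by
        rw [H₀.phi_mul, H₀.phi_mul, hk'e, H₀.phi_values.1]; exact (hu0C _ hu₀).2.1)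
      have e2 : mq k' 2 = mq 2 k' := H₀.phi_inj (mq_lt _ _) (mq_lt _ _) (by
        rw [H₀.phi_mul, H₀.phi_mul, hk'e, H₀.phi_values.2.1]; exact (hu0C _ hu₀).2.2)
      exact (show ∀ a < 32, mq a 1 = mq 1 a → mq a 2 = mq 2 a → a % 4 = 0 by decide +kernel)
        k' hk' e1 e2
    obtain ⟨r, hr3, hr⟩ : ∃ r < 3, sigXn (2 * r) k' = sigXn r 4 ∨
        sigXn (2 * r) k' = mq (sigXn r 4) 16 :=
      (show ∀ a < 32, mq a a = 16 → a % 4 = 0 → ∃ r < 3, sigXn (2 * r) a = sigXn r 4 ∨
        sigXn (2 * r) a = mq (sigXn r 4) 16 by decide +kernel) k' hk' hk'2 hk'4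
    -- the new first element is a conjugate of the old one
    set u := x ^ r * u₀ * (x ^ r)⁻¹ with hu
    set v := x * u * x⁻¹ with hv
    have hCpow : ∀ n : ℕ, ∀ w, C w → C (x ^ n * w * (x ^ n)⁻¹) := by
      intro n
      induction n with
      | zero => intro w hw; simpa using hw
      | succ n ih =>
        intro w hw
        rw [show x ^ (n + 1) * w * (x ^ (n + 1))⁻¹ = x * (x ^ n * w * (x ^ n)⁻¹) * x⁻¹ by
          rw [pow_succ']; group]
        exact hCx _ (ih w hw)
    have hCu : C u := hCpow _ _ hu₀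
    have hCv : C v := hCx _ hCu
    have hv' : v = x ^ r * v₀ * (x ^ r)⁻¹ := by
      rw [hv, hu, ← hxu₀]; group
    have hP' : QPair s u v := by
      have hsx : x ^ r * s * (x ^ r)⁻¹ = s :=
        mul_inv_eq_iff_eq_mul.2 ((show Commute x s from F.xs).pow_left _).eq
      refine ⟨?_, ?_, ?_⟩
      · rw [hu, conj_mul, hP₀.ii, hsx]
      · rw [hv', conj_mul, hP₀.jj, hsx]
      · nth_rewrite 1 [← hsx]
        rw [hu, hv', conj_mul, conj_mul, conj_mul, hP₀.ji]
    have hxv : x * v * x⁻¹ = u * v := by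
      rw [hv', hu, conj_mul, ← hxv₀]; group
    have H := mk u v hCu hCv hP' rfl hxv
    have htu : t' * u * t'⁻¹ = u * s := by
      have h1 : t' * u * t'⁻¹ = phi s i j u₀ v₀ (sigXn (2 * r) k') := by
        rw [hu, show t' * (x ^ r * u₀ * (x ^ r)⁻¹) * t'⁻¹ =
          (t' * x ^ r * t'⁻¹) * (t' * u₀ * t'⁻¹) * (t' * x ^ r * t'⁻¹)⁻¹ by group,
          ← conj_pow, ht'x, inv_pow, inv_inv, ← hk'e]
        have hx2 : (x ^ r)⁻¹ = x ^ (2 * r) := inv_eq_of_mul_eq_one_right (by
          rw [← pow_add, show r + 2 * r = 3 * r by ring, pow_mul, F.x3, one_pow])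
        have hx3 : x ^ r = (x ^ (2 * r))⁻¹ := by rw [← hx2, inv_inv]
        rw [hx2]
        conv_lhs => rw [hx3]
        rw [H₀.pow_x, mul_inv_cancel_right]
      have hu' : u = phi s i j u₀ v₀ (sigXn r 4) := by
        rw [hu]
        conv_lhs => rw [← H₀.phi_values.2.2.1, H₀.pow_x, mul_inv_cancel_right]
      rcases hr with hr | hr
      · exact (F.not_fixed hP' rfl hxv ht'x (by rw [h1, hr, ← hu'])).elim
      · rw [h1, hr, H₀.phi_mul, H₀.phi_values.2.2.2.2.1, ← hu']
    have htv : t' * v * t'⁻¹ = phi s i j u v 28 := by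
      conv_lhs => rw [hv]
      rw [hgen (u := u₀) (v := v₀) ht'x hxi hxu₀, htu]
      have hx2 : x * x = x⁻¹ := eq_inv_of_mul_eq_one_left (by rw [← F.x3, pow_succ, pow_two])
      calc x⁻¹ * (u * s) * x = (x * x) * (u * s) * (x * x)⁻¹ := by rw [hx2, inv_inv]
        _ = x * (x * u * x⁻¹) * x⁻¹ * (x * x * s * (x * x)⁻¹) := by group
        _ = u * v * s := by
          rw [show x * u * x⁻¹ = v from hv.symm, hxv, show x * x * s = s * (x * x) by
            rw [mul_assoc, F.xs, ← mul_assoc, F.xs, mul_assoc]]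
          group
        _ = _ := by simp [phi, dig]
    have hπt' : π ⟨t', ht'L⟩ = π xL ^ m * Equiv.swap 0 1 := by
      rw [← ht₁, ← map_pow, ← map_mul]; rfl
    refine fin u v t' 0 (by norm_num) hCu hCv H ht'L ?_ ?_ ?_ ht'x (ht'2 ▸ ht2)
    · rw [hπt']
      exact (show ∀ a : Equiv.Perm (Fin 3), a ^ 3 = 1 → a * Equiv.swap 0 1 ≠ 1 by decide)
        _ (by rw [← pow_mul, mul_comm, pow_mul, hπx3, one_pow])
    · rw [hπt']
      exact (show ∀ a : Equiv.Perm (Fin 3), a ^ 3 = 1 → (a * Equiv.swap 0 1) ^ 2 = 1 by decide)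
        _ (by rw [← pow_mul, mul_comm, pow_mul, hπx3, one_pow])
    · intro q
      show _ = phi s i j u v (homQ 17 19 20 28 q)
      exact H.conj_phi t' (hLs.1 ht'L) (by rw [hti]; simp [phi, dig])
        (by rw [htj]; simp [phi, dig]) (by rw [htu]; simp [phi, dig]) htv q
  · obtain ⟨⟨hk1, hk2'⟩, -⟩ := hB hk4
    set u := t * (i * s) * t⁻¹ with hu
    set v := x * u * x⁻¹ with hv
    have hu' : u = t * i * t⁻¹ * s := by
      rw [hu, show t * (i * s) * t⁻¹ = t * i * t⁻¹ * (t * s * t⁻¹) by group, hts]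
    have hCk : C (t * i * t⁻¹) := by
      refine ⟨htQ i hi, ?_, ?_⟩
      · have e1 := congrArg (phi s i j u₀ v₀) hk1
        rwa [H₀.phi_mul, H₀.phi_mul, hki, H₀.phi_values.1] at e1
      · have e1 := congrArg (phi s i j u₀ v₀) hk2'
        rwa [H₀.phi_mul, H₀.phi_mul, hki, H₀.phi_values.2.1] at e1
    have hCu : C u := hu' ▸ hCs _ hCk
    have hCv : C v := hCx _ hCu
    have hx2 : x * x = x⁻¹ := eq_inv_of_mul_eq_one_left (by rw [← F.x3, pow_succ, pow_two])
    have hxis : x⁻¹ * (i * s) * x = i * j * s := by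
      calc x⁻¹ * (i * s) * x = (x * x) * (i * s) * (x * x)⁻¹ := by rw [hx2, inv_inv]
        _ = x * (x * i * x⁻¹) * x⁻¹ * (x * x * s * (x * x)⁻¹) := by group
        _ = i * j * s := by
          rw [hxi, hxj, show x * x * s = s * (x * x) by
            rw [mul_assoc, F.xs, ← mul_assoc, F.xs, mul_assoc]]
          group
    have htix : x * t = t * x⁻¹ := by
      calc x * t = (t * x * t⁻¹)⁻¹ * t := by rw [htx, inv_inv]
        _ = _ := by group
    have hv' : v = t * (i * j * s) * t⁻¹ := by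
      rw [hv, hu, ← hxis]
      calc x * (t * (i * s) * t⁻¹) * x⁻¹ = (x * t) * (i * s) * (x * t)⁻¹ := by group
        _ = _ := by rw [htix]; group
    have hjs : x⁻¹ * (i * j * s) * x = j * s := by
      rw [← hxj, show x⁻¹ * (x * j * x⁻¹ * s) * x = j * (x⁻¹ * (s * x)) by group, ← F.xs]
      group
    have hsimp : ∀ {a b : G}, a ∈ Q → b ∈ Q → a * s * (b * s) = a * b := fun {a b} _ hb => by
      rw [mul_assoc, ← mul_assoc s b s, ← F.cen b hb, mul_assoc b s s, hss, mul_one]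
    have hijQ := Q.mul_mem hi hj
    have h1 : i * j * (i * j) = s := by
      calc i * j * (i * j) = i * (j * i) * j := by group
        _ = i * (i * (j * s)) * j := by rw [hP.ji]
        _ = (i * i) * (j * (s * j)) := by group
        _ = (i * i) * (j * j) * s := by rw [← F.cen j hj]; group
        _ = s := by rw [hP.ii, hP.jj, hss, one_mul]
    have h2 : i * (i * j) = s * j := by rw [← mul_assoc, hP.ii]
    have h3 : i * j * i = j := by
      calc i * j * i = i * (i * (j * s)) := by rw [mul_assoc, hP.ji]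
        _ = s * j * s := by rw [← mul_assoc, hP.ii, mul_assoc]
        _ = j := by rw [← F.cen j hj, mul_assoc, hss, mul_one]
    have hP' : QPair s u v := by
      refine ⟨?_, ?_, ?_⟩
      · rw [hu, conj_mul, hsimp hi hi, hP.ii, hts]
      · rw [hv', conj_mul, hsimp hijQ hijQ, h1, hts]
      · nth_rewrite 1 [← hts]
        rw [hu, hv', conj_mul, conj_mul, conj_mul, hsimp hijQ hi, h3]
        congr 1
        calc t * j = t * (j * (s * s)) := by rw [hss, mul_one]
          _ = t * (s * j * s) := by rw [← mul_assoc j, F.cen j hj]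
          _ = t * (i * (i * j) * s) := by rw [h2]
          _ = t * (i * (s * s) * (i * j) * s) := by rw [hss, mul_one]
          _ = t * (i * s * (i * j * s * s)) := by
            rw [mul_assoc (i * j) s s, hss]
            simp only [mul_one]
            rw [mul_assoc i s (i * j), ← F.cen _ hijQ]
            group
    have hxv : x * v * x⁻¹ = u * v := by
      have e1 : x * v * x⁻¹ = t * (j * s) * t⁻¹ := by
        rw [hv', ← hjs]
        calc x * (t * (i * j * s) * t⁻¹) * x⁻¹ = (x * t) * (i * j * s) * (x * t)⁻¹ := by group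
          _ = _ := by rw [htix]; group
      rw [e1, hu, hv', conj_mul, hsimp hi hijQ, h2, F.cen j hj]
    have H := mk u v hCu hCv hP' rfl hxv
    refine fin u v t 1 (by norm_num) hCu hCv H t₁.2 ?_ ?_ ?_ htx ht2
    · show π t₁ ≠ 1
      rw [ht₁]; decide
    · show π t₁ ^ 2 = 1
      rw [ht₁]; decide
    · intro q
      show _ = phi s i j u v (homQ 20 28 17 19 q)
      refine H.conj_phi t (hLs.1 t₁.2) ?_ ?_ ?_ ?_ q
      · show _ = i ^ 0 * j ^ 0 * (u ^ 1 * v ^ 0) * s ^ 1
        simp only [pow_zero, pow_one, one_mul, mul_one]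
        rw [hu']
        simp only [mul_assoc, hss, mul_one]
      · show _ = i ^ 0 * j ^ 0 * (u ^ 1 * v ^ 1) * s ^ 1
        simp only [pow_zero, pow_one, one_mul]
        rw [← hxv, hv']
        conv_lhs => rw [← hxi]
        calc t * (x * i * x⁻¹) * t⁻¹
            = (t * x * t⁻¹) * (t * i * t⁻¹) * (t * x * t⁻¹)⁻¹ := by group
          _ = x * (x * (t * i * t⁻¹ * s) * x⁻¹) * x⁻¹ * s := by
            rw [htx, inv_inv]
            calc x⁻¹ * (t * i * t⁻¹) * x = (x * x) * (t * i * t⁻¹ * (s * s)) * (x * x)⁻¹ := by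
                  rw [hx2, hss, mul_one, inv_inv]
              _ = x * (x * (t * i * t⁻¹ * s) * x⁻¹) * x⁻¹ * (x * x * s * (x * x)⁻¹) := by group
              _ = _ := by
                rw [show x * x * s = s * (x * x) by
                  rw [mul_assoc, F.xs, ← mul_assoc, F.xs, mul_assoc]]
                group
          _ = _ := by rw [← hu', ← hv, hv']
      · have htts : t * t * (i * s) * (t * t)⁻¹ = i * s := by
          rcases ht2 with h | h <;> rw [h]
          · group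
          · rw [← F.cen _ (Q.mul_mem hi hsQ)]; group
        show t * u * t⁻¹ = i ^ 1 * j ^ 0 * (u ^ 0 * v ^ 0) * s ^ 1
        simp only [pow_zero, pow_one, mul_one]
        rw [hu, show t * (t * (i * s) * t⁻¹) * t⁻¹ = t * t * (i * s) * (t * t)⁻¹ by group, htts]
      · have htts : t * t * (i * j * s) * (t * t)⁻¹ = i * j * s := by
          rcases ht2 with h | h <;> rw [h]
          · group
          · rw [← F.cen _ (Q.mul_mem hijQ hsQ)]; group
        show t * v * t⁻¹ = i ^ 1 * j ^ 1 * (u ^ 0 * v ^ 0) * s ^ 1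
        simp only [pow_zero, pow_one, mul_one]
        rw [hv', show t * (t * (i * j * s) * t⁻¹) * t⁻¹ = t * t * (i * j * s) * (t * t)⁻¹ by group,
          htts]

end setup

end Cfsg.Agent.Lib.S3344
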